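import Cfsg.Agent.Base

/-!
Small tools (Dedekind law, minimal normal subgroups) and groups with a core-free maximal subgroup.
-/

set_option autoImplicit false

namespace CL.CF

open Subgroup

variable {G : Type*} [Group G]

/-- Dedekind's law with the normal factor inside `H`. -/
theorem sup_inf_of_normal_le (N M H : Subgroup G) [N.Normal] (h : N ≤ H) :
    (N ⊔ M) ⊓ H = N ⊔ (M ⊓ H) := by
  apply le_antisymm
  · rintro x ⟨hx, hxH⟩
    obtain ⟨y, hy, z, hz, rfl⟩ := mem_sup_of_normal_left.1 hx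
    refine mul_mem_sup hy ⟨hz, ?_⟩
    have := H.mul_mem (H.inv_mem (h hy)) hxH
    simpa using this
  · exact sup_le (le_inf le_sup_left h) (inf_le_inf_right _ le_sup_right)

/-- Dedekind's law with the non-normal factor inside `H`. -/
theorem sup_inf_of_le (N K H : Subgroup G) [N.Normal] (h : K ≤ H) :
    (N ⊔ K) ⊓ H = (N ⊓ H) ⊔ K := by
  apply le_antisymm
  · rintro x ⟨hx, hxH⟩
    obtain ⟨y, hy, z, hz, rfl⟩ := mem_sup_of_normal_left.1 hx
    refine mul_mem_sup ⟨hy, ?_⟩ hz
    have := H.mul_mem hxH (H.inv_mem (h hz))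
    simpa using this
  · exact sup_le (inf_le_inf_right _ le_sup_left) (le_inf le_sup_right h)

theorem normal_of_sup_eq_top {X U N : Subgroup G} (h : U ⊔ N = ⊤)
    (hU : U ≤ normalizer (X : Set G)) (hN : N ≤ normalizer (X : Set G)) : X.Normal := by
  rw [← normalizer_eq_top_iff, eq_top_iff, ← h]
  exact sup_le hU hN

theorem le_normalizer_inf_of_normal (C U : Subgroup G) [C.Normal] :
    U ≤ normalizer ((C ⊓ U : Subgroup G) : Set G) := by
  exact le_trans (le_inf (le_normalizer_of_normal (H := C)) le_normalizer)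
    inf_normalizer_le_normalizer_inf

theorem le_normalizer_of_le_centralizer {X N : Subgroup G} (h : X ≤ centralizer (N : Set G)) :
    N ≤ normalizer (X : Set G) :=
  (le_centralizer_iff.1 h).trans (centralizer_le_normalizer _)

/-- every nontrivial normal subgroup of a finite group contains a minimal normal subgroup -/
theorem exists_minNormal_le [Finite G] (N : Subgroup G) [hN : N.Normal] (h : N ≠ ⊥) :
    ∃ K : Subgroup G, K.Normal ∧ K ≠ ⊥ ∧ K ≤ N ∧
      ∀ L : Subgroup G, L.Normal → L ≤ K → L = ⊥ ∨ L = K := by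
  obtain ⟨K, hK, hmin⟩ := exists_minimal_le_of_wellFoundedLT
    (fun K : Subgroup G => K.Normal ∧ K ≠ ⊥) N ⟨hN, h⟩
  refine ⟨K, hmin.1.1, hmin.1.2, hK, fun L hL hLK => ?_⟩
  by_cases hb : L = ⊥
  · exact Or.inl hb
  · exact Or.inr (le_antisymm hLK (hmin.2 ⟨hL, hb⟩ hLK))

/-- a minimal normal subgroup of a solvable group is abelian -/
theorem minNormal_comm [Group.IsSolvable G] (N : Subgroup G) [N.Normal] (hN : N ≠ ⊥)
    (hmin : ∀ K : Subgroup G, K.Normal → K ≤ N → K = ⊥ ∨ K = N) : IsMulCommutative N := by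
  have hlt := Group.IsSolvable.commutator_lt_of_ne_bot hN
  rcases hmin ⁅N, N⁆ inferInstance hlt.le with h | h
  · exact commutator_self_eq_bot_iff.1 h
  · exact absurd h hlt.ne

/-- The elements of an abelian normal subgroup killed by `p`. -/
def torsionIn (N : Subgroup G) [IsMulCommutative N] (p : ℕ) : Subgroup G where
  carrier := {x | x ∈ N ∧ x ^ p = 1}
  one_mem' := ⟨N.one_mem, one_pow p⟩
  mul_mem' := by
    rintro a b ⟨ha, ha'⟩ ⟨hb, hb'⟩
    refine ⟨N.mul_mem ha hb, ?_⟩
    have hc : Commute a b := (le_centralizer N hb a ha)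
    rw [hc.mul_pow, ha', hb', one_mul]
  inv_mem' := by
    rintro a ⟨ha, ha'⟩
    exact ⟨N.inv_mem ha, by rw [inv_pow, ha', inv_one]⟩

theorem torsionIn_normal (N : Subgroup G) [hN : N.Normal] [IsMulCommutative N] (p : ℕ) :
    (torsionIn N p).Normal := ⟨by
  rintro x ⟨hx, hx'⟩ g
  exact ⟨hN.conj_mem x hx g, by rw [conj_pow, hx', mul_one, mul_inv_cancel]⟩⟩

/-- an abelian minimal normal subgroup whose order is divisible by `p` has exponent `p` -/
theorem minNormal_pow_eq_one [Finite G] (N : Subgroup G) [N.Normal] [IsMulCommutative N]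
    (hmin : ∀ K : Subgroup G, K.Normal → K ≤ N → K = ⊥ ∨ K = N) {p : ℕ} (hp : p.Prime)
    (hd : p ∣ Nat.card N) : ∀ x ∈ N, x ^ p = 1 := by
  have := Fact.mk hp
  obtain ⟨y, hy⟩ := exists_prime_orderOf_dvd_card' p hd
  rcases hmin (torsionIn N p) (torsionIn_normal N p) (fun x hx => hx.1) with h | h
  · exfalso
    have h1 : (y : G) ∈ torsionIn N p := ⟨y.2, by
      have := pow_orderOf_eq_one y
      rw [hy] at this
      exact_mod_cast congrArg Subtype.val this⟩
    rw [h, mem_bot] at h1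
    have : y = 1 := Subtype.ext h1
    rw [this, orderOf_one] at hy
    exact hp.one_lt.ne hy
  · intro x hx
    rw [← h] at hx
    exact hx.2

/-- a minimal normal subgroup of a finite solvable group is an (abelian) `p`-group of exponent `p` -/
theorem minNormal_exists_prime [Finite G] [Group.IsSolvable G] (N : Subgroup G) [N.Normal]
    (hN : N ≠ ⊥) (hmin : ∀ K : Subgroup G, K.Normal → K ≤ N → K = ⊥ ∨ K = N) :
    ∃ p : ℕ, p.Prime ∧ p ∣ Nat.card N ∧ IsPGroup p N ∧ ∀ x ∈ N, x ^ p = 1 := by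
  have := minNormal_comm N hN hmin
  have h1 : Nat.card N ≠ 1 := fun h => hN (card_eq_one.1 h)
  obtain ⟨p, hp, hd⟩ := Nat.exists_prime_and_dvd h1
  have h2 := minNormal_pow_eq_one N hmin hp hd
  refine ⟨p, hp, hd, fun x => ⟨1, ?_⟩, h2⟩
  ext
  simpa using h2 x x.2

theorem isPGroup_pCore (p : ℕ) (G : Type*) [Group G] : IsPGroup p (Cfsg.pCore p G) :=
  Sylow.sSup_of_normal _ (fun _ h => h.2) (fun _ h => h.1)

theorem le_pCore {p : ℕ} (N : Subgroup G) [hN : N.Normal] (h : IsPGroup p N) :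
    N ≤ Cfsg.pCore p G :=
  le_sSup ⟨hN, h⟩

theorem normalizer_le_normalizer_centralizer (Q : Subgroup G) :
    normalizer (Q : Set G) ≤ normalizer ((centralizer (Q : Set G) : Subgroup G) : Set G) := by
  rw [le_normalizer_iff]
  intro g hg x hx
  rw [mem_centralizer_iff] at hx ⊢
  intro y hy
  have h1 : g⁻¹ * y * g ∈ Q := (mem_normalizer_iff''.1 hg y).1 hy
  have h2 := hx _ h1
  calc y * (g * x * g⁻¹) = g * (g⁻¹ * y * g * x) * g⁻¹ := by group
    _ = g * (x * (g⁻¹ * y * g)) * g⁻¹ := by rw [h2]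
    _ = g * x * g⁻¹ * y := by group

/-- if `Q` is normal in `M` then `M` normalizes the image of `Q` in `G` -/
theorem le_normalizer_map_subtype {M : Subgroup G} (Q : Subgroup M) [hQ : Q.Normal] :
    M ≤ normalizer ((Q.map M.subtype : Subgroup G) : Set G) := by
  rw [le_normalizer_iff]
  rintro g hg _ ⟨x, hx, rfl⟩
  exact ⟨_, hQ.conj_mem x hx ⟨g, hg⟩, rfl⟩

/-- A `q`-subgroup `Q` normalizing `L`: `|L| ≡ |C_L(Q)|` modulo `q`. -/
theorem card_modEq_card_inf_centralizer [Finite G] {q : ℕ} [Fact q.Prime] (L Q : Subgroup G)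
    (hQ : IsPGroup q Q) (h : Q ≤ normalizer (L : Set G)) :
    Nat.card L ≡ Nat.card (L ⊓ centralizer (Q : Set G) : Subgroup G) [MOD q] := by
  let _ : MulAction Q L := MulAction.compHom L (inclusion h)
  have h1 := hQ.card_modEq_card_fixedPoints L
  have hs : ∀ (a : Q) (x : L), ((a • x : L) : G) = a * x * (a : G)⁻¹ := fun a x => rfl
  have h2 : Nat.card (MulAction.fixedPoints Q L) =
      Nat.card (L ⊓ centralizer (Q : Set G) : Subgroup G) := by
    refine Nat.card_congr ⟨fun x => ⟨x.1.1, x.1.2, fun y hy => ?_⟩,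
      fun x => ⟨⟨x.1, x.2.1⟩, fun a => Subtype.ext ?_⟩, fun _ => rfl, fun _ => rfl⟩
    · have := congrArg Subtype.val (x.2 ⟨y, hy⟩)
      rw [hs] at this
      exact mul_inv_eq_iff_eq_mul.1 this
    · rw [hs]
      exact mul_inv_eq_iff_eq_mul.2 (x.2.2 a a.2)
  rwa [h2] at h1

/-- a `p`-subgroup normalizing a nontrivial `p`-subgroup centralizes a nontrivial element of it -/
theorem inf_centralizer_ne_bot [Finite G] {p : ℕ} [hp : Fact p.Prime] (L Q : Subgroup G)
    (hL : IsPGroup p L) (hLb : L ≠ ⊥) (hQ : IsPGroup p Q) (h : Q ≤ normalizer (L : Set G)) :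
    L ⊓ centralizer (Q : Set G) ≠ ⊥ := by
  intro hb
  have h1 := card_modEq_card_inf_centralizer L Q hQ h
  rw [hb, card_bot] at h1
  rcases hL.card_eq_or_dvd with h2 | h2
  · exact hLb (card_eq_one.1 h2)
  · have := (Nat.modEq_zero_iff_dvd.2 h2).symm.trans h1
    exact hp.out.one_lt.ne' (Nat.dvd_one.1 (Nat.modEq_zero_iff_dvd.1 this.symm))

/-- two complements of `B` in the same subgroup are isomorphic -/
theorem nonempty_mulEquiv_of_sup_eq (B X Y : Subgroup G) [B.Normal] (hX : X ⊓ B = ⊥)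
    (hY : Y ⊓ B = ⊥) (h : B ⊔ X = B ⊔ Y) : Nonempty (X ≃* Y) := by
  have key : ∀ Z : Subgroup G, Z ⊓ B = ⊥ →
      Nonempty (Z ≃* (B ⊔ Z).map (QuotientGroup.mk' B)) := by
    intro Z hZ
    have hinj : Function.Injective ((QuotientGroup.mk' B).comp Z.subtype) := by
      rw [injective_iff_map_eq_one]
      intro z hz
      have : (z : G) ∈ Z ⊓ B := ⟨z.2, (QuotientGroup.eq_one_iff _).1 hz⟩
      rw [hZ, mem_bot] at this
      exact Subtype.ext this
    have hr : ((QuotientGroup.mk' B).comp Z.subtype).range = (B ⊔ Z).map (QuotientGroup.mk' B) := by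
      rw [MonoidHom.range_comp, range_subtype, Subgroup.map_sup, QuotientGroup.map_mk'_self,
        bot_sup_eq]
    exact ⟨(MonoidHom.ofInjective hinj).trans (MulEquiv.subgroupCongr hr)⟩
  obtain ⟨e⟩ := key X hX
  obtain ⟨f⟩ := key Y hY
  exact ⟨e.trans ((MulEquiv.subgroupCongr (by rw [h])).trans f.symm)⟩

open Pointwise in
/-- a `p`-subgroup lies in a conjugate of every subgroup of index prime to `p` -/
theorem exists_le_conj_of_not_dvd_index {p : ℕ} [Fact p.Prime] (Q V : Subgroup G)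
    (hQ : IsPGroup p Q) (h : ¬ p ∣ V.index) : ∃ g : G, Q ≤ MulAut.conj g • V := by
  obtain ⟨x, hx⟩ := hQ.nonempty_fixed_point_of_prime_not_dvd_card (G ⧸ V) h
  obtain ⟨g, rfl⟩ := QuotientGroup.mk_surjective x
  refine ⟨g, fun y hy => ?_⟩
  have h1 : ((y * g : G) : G ⧸ V) = g := hx ⟨y, hy⟩
  rw [mem_pointwise_smul_iff_inv_smul_mem]
  have h2 := QuotientGroup.eq.1 h1.symm
  simpa [mul_assoc] using h2

/-! ### core-free maximal subgroups -/

section CoreFree

variable {U : Subgroup G}

theorem eq_bot_of_le (hcore : U.normalCore = ⊥) (N : Subgroup G) [N.Normal] (h : N ≤ U) : N = ⊥ :=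
  le_bot_iff.1 (hcore ▸ normal_le_normalCore.2 h)

theorem sup_eq_top (hU : IsCoatom U) (hcore : U.normalCore = ⊥) (N : Subgroup G) [N.Normal]
    (hN : N ≠ ⊥) : N ⊔ U = ⊤ := by
  apply hU.2
  refine lt_of_le_of_ne le_sup_right fun h => hN (eq_bot_of_le hcore N ?_)
  rw [h]; exact le_sup_left

theorem centralizer_inf (hU : IsCoatom U) (hcore : U.normalCore = ⊥) (N : Subgroup G) [N.Normal]
    (hN : N ≠ ⊥) : centralizer (N : Set G) ⊓ U = ⊥ := by
  have : (centralizer (N : Set G) ⊓ U).Normal :=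
    normal_of_sup_eq_top (sup_eq_top hU hcore N hN) (le_normalizer_of_le_centralizer inf_le_left)
      (le_normalizer_inf_of_normal _ _)
  exact eq_bot_of_le hcore _ inf_le_right

/-- a normal subgroup meeting `U` trivially is trivial or minimal normal -/
theorem minimal_of_inf_eq_bot (hU : IsCoatom U) (hcore : U.normalCore = ⊥) (C : Subgroup G)
    (hC : C ⊓ U = ⊥) (K : Subgroup G) (hK : K.Normal) (hKC : K ≤ C) : K = ⊥ ∨ K = C := by
  by_cases hb : K = ⊥
  · exact Or.inl hb
  · right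
    have h := sup_inf_of_normal_le K U C hKC
    rw [sup_eq_top hU hcore K hb, top_inf_eq, inf_comm, hC, sup_bot_eq] at h
    exact h.symm

theorem isComplement'_of_normal {N : Subgroup G} [N.Normal] (h1 : N ⊓ U = ⊥) (h2 : N ⊔ U = ⊤) :
    IsComplement' N U := by
  apply isComplement'_of_disjoint_and_mul_eq_univ (disjoint_iff.2 h1)
  rw [← normal_mul, h2, coe_top]

/-- an abelian nontrivial normal subgroup is self-centralizing -/
theorem centralizer_eq_of_comm (hU : IsCoatom U) (hcore : U.normalCore = ⊥) (N : Subgroup G)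
    [hn : N.Normal] (hN : N ≠ ⊥) [IsMulCommutative N] : centralizer (N : Set G) = N :=
  ((minimal_of_inf_eq_bot hU hcore _ (centralizer_inf hU hcore N hN) N hn
    (le_centralizer N)).resolve_left hN).symm

/-- a nontrivial normal `p`-subgroup is abelian -/
theorem comm_of_isPGroup [Finite G] (hU : IsCoatom U) (hcore : U.normalCore = ⊥) {p : ℕ}
    [Fact p.Prime] (L : Subgroup G) [hn : L.Normal] (hL : L ≠ ⊥) (hp : IsPGroup p L) :
    IsMulCommutative L := by
  have : Nontrivial L := (nontrivial_iff_ne_bot L).2 hL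
  set Z : Subgroup G := L ⊓ centralizer (L : Set G) with hZ
  have hZb : Z ≠ ⊥ := by
    have := hp.center_nontrivial
    obtain ⟨⟨z, hz⟩, hz1⟩ := exists_ne (1 : center L)
    intro h
    have : (z : G) ∈ Z := ⟨z.2, fun y hy => by
      have := mem_center_iff.1 hz ⟨y, hy⟩
      exact congrArg Subtype.val this⟩
    rw [h, mem_bot] at this
    exact hz1 (Subtype.ext (Subtype.ext this))
  have hLZ : L ≤ centralizer (Z : Set G) := le_centralizer_iff.1 inf_le_right
  have h1 : L = centralizer (Z : Set G) :=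
    (minimal_of_inf_eq_bot hU hcore _ (centralizer_inf hU hcore Z hZb) L hn hLZ).resolve_left hL
  have h2 : Z = centralizer (Z : Set G) :=
    (minimal_of_inf_eq_bot hU hcore _ (centralizer_inf hU hcore Z hZb) Z inferInstance
      (h1 ▸ inf_le_left)).resolve_left hZb
  have h3 : L = Z := h1.trans h2.symm
  exact le_centralizer_iff_isMulCommutative.1 (h3.le.trans inf_le_right)

end CoreFree

end CL.CF
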