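import Cfsg.Agent.Base

/-!
# π-numbers, π-subgroups, Hall π-subgroups (elementary API)

`CL.IsPiNum π n` is the (reducible) predicate "every prime divisor of `n` lies in `π`", the form in
which the Prelude writes π-groups.  Elementary facts on `Cfsg.IsPiHall`, `Cfsg.IsPiHallOf`.
-/

open Cfsg
open scoped Pointwise

namespace CL

/-- `n` is a `π`-number: every prime divisor of `n` lies in `π`. -/
abbrev IsPiNum (π : Set ℕ) (n : ℕ) : Prop := ∀ p : ℕ, p.Prime → p ∣ n → p ∈ π

namespace IsPiNum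

variable {π ρ : Set ℕ} {m n a b c d : ℕ}

theorem one (π : Set ℕ) : IsPiNum π 1 := fun _ hp h => absurd (Nat.dvd_one.mp h) hp.ne_one

theorem univ (n : ℕ) : IsPiNum Set.univ n := fun _ _ _ => Set.mem_univ _

theorem of_dvd (h : IsPiNum π n) (hmn : m ∣ n) : IsPiNum π m :=
  fun p hp hd => h p hp (hd.trans hmn)

theorem mul (hm : IsPiNum π m) (hn : IsPiNum π n) : IsPiNum π (m * n) :=
  fun p hp hd => ((Nat.Prime.dvd_mul hp).mp hd).elim (hm p hp) (hn p hp)

theorem mul_iff : IsPiNum π (m * n) ↔ IsPiNum π m ∧ IsPiNum π n :=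
  ⟨fun h => ⟨h.of_dvd (dvd_mul_right _ _), h.of_dvd (dvd_mul_left _ _)⟩, fun h => h.1.mul h.2⟩

theorem mono (h : IsPiNum π n) (hπ : π ⊆ ρ) : IsPiNum ρ n := fun p hp hd => hπ (h p hp hd)

theorem pow (h : IsPiNum π n) (k : ℕ) : IsPiNum π (n ^ k) :=
  fun p hp hd => h p hp (hp.dvd_of_dvd_pow hd)

theorem prime_iff {p : ℕ} (hp : p.Prime) : IsPiNum π p ↔ p ∈ π :=
  ⟨fun h => h p hp dvd_rfl, fun h q hq hd => by
    rwa [(Nat.prime_dvd_prime_iff_eq hq hp).mp hd]⟩

theorem prime_pow {p : ℕ} (hp : p.Prime) (h : p ∈ π) (k : ℕ) : IsPiNum π (p ^ k) :=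
  ((prime_iff hp).mpr h).pow k

theorem prod {ι : Type*} {s : Finset ι} {f : ι → ℕ} (h : ∀ i ∈ s, IsPiNum π (f i)) :
    IsPiNum π (∏ i ∈ s, f i) :=
  Finset.prod_induction f (IsPiNum π) (fun _ _ => mul) (one π) h

theorem inter (hm : IsPiNum π n) (hn : IsPiNum ρ n) : IsPiNum (π ∩ ρ) n :=
  fun p hp hd => ⟨hm p hp hd, hn p hp hd⟩

theorem compl_iff : IsPiNum πᶜ n ↔ ∀ p : ℕ, p.Prime → p ∈ π → ¬ p ∣ n :=
  ⟨fun h p hp hπ hd => h p hp hd hπ, fun h p hp hd hπ => h p hp hπ hd⟩

theorem compl_compl : IsPiNum πᶜᶜ n ↔ IsPiNum π n := by rw [_root_.compl_compl]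

theorem coprime (hm : IsPiNum π m) (hn : IsPiNum πᶜ n) : m.Coprime n :=
  Nat.coprime_of_dvd fun p hp h1 h2 => hn p hp h2 (hm p hp h1)

theorem coprime_of_disjoint (hm : IsPiNum π m) (hn : IsPiNum ρ n) (h : Disjoint π ρ) :
    m.Coprime n :=
  hm.coprime (hn.mono h.symm.subset_compl_right)

theorem eq_one (hm : IsPiNum π m) (hm' : IsPiNum πᶜ m) : m = 1 :=
  (Nat.coprime_self m).mp (hm.coprime hm')

theorem dvd_of_dvd_mul_right (ha : IsPiNum π a) (hc : IsPiNum πᶜ c) (h : a ∣ b * c) : a ∣ b :=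
  (ha.coprime hc).dvd_of_dvd_mul_right h

theorem dvd_of_dvd_mul_left (ha : IsPiNum π a) (hc : IsPiNum πᶜ c) (h : a ∣ c * b) : a ∣ b :=
  (ha.coprime hc).dvd_of_dvd_mul_left h

/-- Uniqueness of the factorisation into a `π`-number and a `π'`-number. -/
theorem eq_of_mul_eq (ha : IsPiNum π a) (hb : IsPiNum πᶜ b) (hc : IsPiNum π c) (hd : IsPiNum πᶜ d)
    (h : a * b = c * d) : a = c :=
  Nat.dvd_antisymm (ha.dvd_of_dvd_mul_right hd (h ▸ dvd_mul_right a b))
    (hc.dvd_of_dvd_mul_right hb (h ▸ dvd_mul_right c d))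

theorem singleton_iff {p : ℕ} (hp : p.Prime) (hn : n ≠ 0) : IsPiNum {p} n ↔ ∃ k, n = p ^ k := by
  refine ⟨fun h => ⟨_, Nat.eq_prime_pow_of_unique_prime_dvd hn fun hd hdn => h _ hd hdn⟩, ?_⟩
  rintro ⟨k, rfl⟩
  exact prime_pow hp (Set.mem_singleton p) k

theorem compl_singleton_iff {p : ℕ} (hp : p.Prime) : IsPiNum {p}ᶜ n ↔ ¬ p ∣ n :=
  ⟨fun h hd => h p hp hd rfl, fun h q _ hd hq => h (by rwa [Set.mem_singleton_iff.mp hq] at hd)⟩

theorem compl_singleton_iff_coprime {p : ℕ} (hp : p.Prime) : IsPiNum {p}ᶜ n ↔ n.Coprime p := by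
  rw [compl_singleton_iff hp, Nat.coprime_comm, hp.coprime_iff_not_dvd]

/-- `n` is a `π(n)`-number. -/
theorem self_dvd (n : ℕ) : IsPiNum {p | p ∣ n} n := fun _ _ h => h

theorem compl_dvd_iff_coprime : IsPiNum {p | p ∣ n}ᶜ m ↔ m.Coprime n :=
  ⟨fun h => ((self_dvd n).coprime h).symm, fun h _ hp hd hn =>
    hp.ne_one (Nat.eq_one_of_dvd_coprimes h hd hn)⟩

/-- Every nonzero natural number is a product of a `π`-number and a `π'`-number. -/
theorem exists_mul_eq (π : Set ℕ) {n : ℕ} (hn : n ≠ 0) :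
    ∃ a b, IsPiNum π a ∧ IsPiNum πᶜ b ∧ n = a * b := by
  induction n using Nat.recOnMul with
  | zero => exact absurd rfl hn
  | one => exact ⟨1, 1, one _, one _, rfl⟩
  | prime p hp =>
    by_cases h : p ∈ π
    · exact ⟨p, 1, (prime_iff hp).mpr h, one _, (mul_one p).symm⟩
    · exact ⟨1, p, one _, (prime_iff hp).mpr h, (one_mul p).symm⟩
  | mul a b iha ihb =>
    obtain ⟨a₁, a₂, h1, h2, rfl⟩ := iha (left_ne_zero_of_mul hn)
    obtain ⟨b₁, b₂, h3, h4, rfl⟩ := ihb (right_ne_zero_of_mul hn)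
    exact ⟨a₁ * b₁, a₂ * b₂, h1.mul h3, h2.mul h4, by ring⟩

end IsPiNum

/-! ### Small facts on orders and indices -/

namespace Pi

variable {G : Type*} [Group G]

theorem card_smul {α : Type*} [Group α] [MulDistribMulAction α G] (a : α) (H : Subgroup G) :
    Nat.card ↥(a • H) = Nat.card H :=
  Nat.card_congr (Subgroup.equivSMul a H).toEquiv.symm

theorem index_smul {α : Type*} [Group α] [MulDistribMulAction α G] (a : α) (H : Subgroup G) :
    (a • H).index = H.index := by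
  rw [Subgroup.pointwise_smul_def]
  exact Subgroup.index_map_of_bijective (MulAction.bijective a) H

theorem mem_conj_smul_iff {g x : G} {H : Subgroup G} :
    x ∈ MulAut.conj g • H ↔ g⁻¹ * x * g ∈ H := by
  rw [Subgroup.mem_pointwise_smul_iff_inv_smul_mem]
  simp

theorem conj_smul_eq_map (g : G) (H : Subgroup G) :
    MulAut.conj g • H = H.map (MulAut.conj g).toMonoidHom := rfl

theorem map_conj_smul {G' : Type*} [Group G'] (f : G →* G') (g : G) (H : Subgroup G) :
    (MulAut.conj g • H).map f = MulAut.conj (f g) • H.map f := by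
  rw [conj_smul_eq_map, conj_smul_eq_map, Subgroup.map_map, Subgroup.map_map]
  congr 1
  ext x
  simp

theorem comap_conj_smul {G' : Type*} [Group G'] (f : G →* G') (g : G) (H : Subgroup G') :
    (MulAut.conj (f g) • H).comap f = MulAut.conj g • H.comap f := by
  ext x
  simp [mem_conj_smul_iff]

theorem subgroupOf_conj_smul {L : Subgroup G} (g : L) (H : Subgroup G) :
    (MulAut.conj (g : G) • H).subgroupOf L = MulAut.conj g • H.subgroupOf L :=
  comap_conj_smul L.subtype g H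

theorem conj_smul_eq_iff_mem_normalizer {g : G} {H : Subgroup G} :
    MulAut.conj g • H = H ↔ g ∈ Subgroup.normalizer (H : Set G) := by
  rw [← Subgroup.conjAct_pointwise_smul_iff]
  rfl

theorem card_subgroupOf_of_le {H L : Subgroup G} (h : H ≤ L) :
    Nat.card (H.subgroupOf L) = Nat.card H :=
  Nat.card_congr (Subgroup.subgroupOfEquivOfLe h).toEquiv

theorem card_subgroupOf (H L : Subgroup G) : Nat.card (H.subgroupOf L) = Nat.card ↥(H ⊓ L) := by
  rw [← Subgroup.inf_subgroupOf_right, card_subgroupOf_of_le inf_le_right]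

theorem card_mul_relIndex {H L : Subgroup G} (h : H ≤ L) :
    Nat.card H * H.relIndex L = Nat.card L := by
  rw [← card_subgroupOf_of_le h]; exact Subgroup.card_mul_index _

theorem card_inf_mul_relIndex (H L : Subgroup G) :
    Nat.card ↥(H ⊓ L) * H.relIndex L = Nat.card L := by
  rw [← card_subgroupOf]; exact Subgroup.card_mul_index _

theorem card_map_subtype {L : Subgroup G} (H : Subgroup L) :
    Nat.card (H.map L.subtype) = Nat.card H :=
  Subgroup.card_map_of_injective L.subtype_injective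

/-- The order of the preimage under a surjection. -/
theorem card_comap_of_surjective {G' : Type*} [Group G'] {f : G →* G'} (hf : Function.Surjective f)
    (H : Subgroup G') : Nat.card (H.comap f) = Nat.card f.ker * Nat.card H := by
  have h1 : f.ker ≤ H.comap f := fun x hx => by
    rw [Subgroup.mem_comap, MonoidHom.mem_ker.mp hx]; exact H.one_mem
  rw [← card_mul_relIndex h1, Subgroup.relIndex_ker, Subgroup.map_comap_eq_self_of_surjective hf]

theorem card_comap_mk' (N : Subgroup G) [N.Normal] (H : Subgroup (G ⧸ N)) :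
    Nat.card (H.comap (QuotientGroup.mk' N)) = Nat.card N * Nat.card H := by
  rw [card_comap_of_surjective (QuotientGroup.mk'_surjective N), QuotientGroup.ker_mk']

/-- `|HN| |H ∩ N| = |H| |N|` for `N` normal. -/
theorem card_sup_mul_card_inf (H N : Subgroup G) [N.Normal] :
    Nat.card ↥(H ⊔ N) * Nat.card ↥(H ⊓ N) = Nat.card H * Nat.card N := by
  rw [← card_mul_relIndex (le_sup_right : N ≤ H ⊔ N), Subgroup.relIndex_sup_right,
    ← card_inf_mul_relIndex N H, inf_comm H N]
  ring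

theorem card_sup_dvd (H N : Subgroup G) [N.Normal] :
    Nat.card ↥(H ⊔ N) ∣ Nat.card H * Nat.card N :=
  ⟨_, (card_sup_mul_card_inf H N).symm⟩

/-- `|HN| |H ∩ N| = |H| |N|` when `H` normalises `N`. -/
theorem card_sup_mul_card_inf_of_le_normalizer {H N : Subgroup G}
    (h : H ≤ Subgroup.normalizer (N : Set G)) :
    Nat.card ↥(H ⊔ N) * Nat.card ↥(H ⊓ N) = Nat.card H * Nat.card N := by
  have hle : H ⊔ N ≤ Subgroup.normalizer (N : Set G) := sup_le h Subgroup.le_normalizer
  have : (N.subgroupOf (H ⊔ N)).Normal :=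
    (Subgroup.normal_subgroupOf_iff_le_normalizer le_sup_right).mpr hle
  have h1 := card_sup_mul_card_inf (H.subgroupOf (H ⊔ N)) (N.subgroupOf (H ⊔ N))
  have h2 : H.subgroupOf (H ⊔ N) ⊓ N.subgroupOf (H ⊔ N) = (H ⊓ N).subgroupOf (H ⊔ N) := rfl
  rwa [← Subgroup.subgroupOf_sup le_sup_left le_sup_right, Subgroup.subgroupOf_self,
    Subgroup.card_top, h2, card_subgroupOf_of_le le_sup_left,
    card_subgroupOf_of_le le_sup_right,
    card_subgroupOf_of_le (inf_le_left.trans le_sup_left)] at h1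

theorem card_sup_dvd_of_le_normalizer {H N : Subgroup G}
    (h : H ≤ Subgroup.normalizer (N : Set G)) :
    Nat.card ↥(H ⊔ N) ∣ Nat.card H * Nat.card N :=
  ⟨_, (card_sup_mul_card_inf_of_le_normalizer h).symm⟩

/-- Two subgroups `A ≤ L`, `B` meeting trivially whose product covers `L` give complements in `L`. -/
theorem isComplement'_subgroupOf {A B L : Subgroup G} (hA : A ≤ L) (hd : Disjoint A B)
    (h : ∀ x ∈ L, ∃ a ∈ A, ∃ b ∈ B, x = a * b) :
    Subgroup.IsComplement' (A.subgroupOf L) (B.subgroupOf L) := by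
  refine Subgroup.isComplement'_of_disjoint_and_mul_eq_univ ?_ ?_
  · rw [Subgroup.disjoint_def] at hd ⊢
    intro x hxA hxB
    exact Subtype.ext (hd hxA hxB)
  · rw [Set.eq_univ_iff_forall]
    intro x
    obtain ⟨a, ha, b, hb, hx⟩ := h x x.2
    have hbL : b ∈ L := by
      have : b = a⁻¹ * x := by rw [hx]; group
      rw [this]; exact L.mul_mem (L.inv_mem (hA ha)) x.2
    exact ⟨⟨a, hA ha⟩, ha, ⟨b, hbL⟩, hb, Subtype.ext hx.symm⟩

theorem normal_subgroupOf_of_le_normalizer {N L : Subgroup G}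
    (h : L ≤ Subgroup.normalizer (N : Set G)) : (N.subgroupOf L).Normal :=
  ⟨fun x hx g => (Subgroup.mem_normalizer_iff.mp (h g.2) x).mp hx⟩

theorem isPGroup_iff_isPiNum [Finite G] {p : ℕ} (hp : p.Prime) :
    IsPGroup p G ↔ IsPiNum {p} (Nat.card G) := by
  have := Fact.mk hp
  rw [IsPGroup.iff_card, IsPiNum.singleton_iff hp Nat.card_pos.ne']

theorem isPiNum_card_of_isPGroup [Finite G] {π : Set ℕ} {p : ℕ} (hp : p.Prime) (hπ : p ∈ π)
    (h : IsPGroup p G) : IsPiNum π (Nat.card G) :=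
  ((isPGroup_iff_isPiNum hp).mp h).mono (Set.singleton_subset_iff.mpr hπ)

/-- A finite group is a `π`-group iff all its elements have `π`-order. -/
theorem isPiNum_card_iff_orderOf [Finite G] {π : Set ℕ} :
    IsPiNum π (Nat.card G) ↔ ∀ g : G, IsPiNum π (orderOf g) := by
  refine ⟨fun h g => h.of_dvd (orderOf_dvd_natCard g), fun h p hp hd => ?_⟩
  have := Fact.mk hp
  obtain ⟨g, hg⟩ := exists_prime_orderOf_dvd_card' p hd
  exact h g p hp (hg ▸ dvd_rfl)

theorem isPiNum_card_subgroup_iff_orderOf [Finite G] {π : Set ℕ} {H : Subgroup G} :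
    IsPiNum π (Nat.card H) ↔ ∀ g ∈ H, IsPiNum π (orderOf g) := by
  rw [isPiNum_card_iff_orderOf]
  exact ⟨fun h g hg => by simpa using h ⟨g, hg⟩, fun h g => by
    simpa using h g g.2⟩

theorem isPiNum_card_of_le {π : Set ℕ} {H K : Subgroup G} (hK : IsPiNum π (Nat.card K))
    (h : H ≤ K) : IsPiNum π (Nat.card H) :=
  hK.of_dvd (Subgroup.card_dvd_of_le h)

theorem isPiNum_card_map {G' : Type*} [Group G'] {π : Set ℕ} {H : Subgroup G}
    (hH : IsPiNum π (Nat.card H)) (f : G →* G') : IsPiNum π (Nat.card (H.map f)) :=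
  hH.of_dvd (Subgroup.card_map_dvd H f)

theorem isPiNum_card_subgroupOf {π : Set ℕ} {H : Subgroup G}
    (hH : IsPiNum π (Nat.card H)) (L : Subgroup G) : IsPiNum π (Nat.card (H.subgroupOf L)) := by
  rw [card_subgroupOf]; exact isPiNum_card_of_le hH inf_le_left

theorem isPiNum_card_sup {π : Set ℕ} {H N : Subgroup G}
    (h : H ≤ Subgroup.normalizer (N : Set G)) (hH : IsPiNum π (Nat.card H))
    (hN : IsPiNum π (Nat.card N)) : IsPiNum π (Nat.card ↥(H ⊔ N)) :=
  (hH.mul hN).of_dvd (card_sup_dvd_of_le_normalizer h)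

theorem isPiNum_card_sup_of_normal {π : Set ℕ} {H N : Subgroup G} [N.Normal]
    (hH : IsPiNum π (Nat.card H)) (hN : IsPiNum π (Nat.card N)) :
    IsPiNum π (Nat.card ↥(H ⊔ N)) :=
  (hH.mul hN).of_dvd (card_sup_dvd H N)

theorem disjoint_of_isPiNum {π : Set ℕ} {H K : Subgroup G} (hH : IsPiNum π (Nat.card H))
    (hK : IsPiNum πᶜ (Nat.card K)) : Disjoint H K :=
  Subgroup.disjoint_of_coprime_natCard (hH.coprime hK)

/-- A subgroup whose order is coprime to the index of a normal subgroup `N` lies in `N`. -/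
theorem le_of_coprime_index {K N : Subgroup G} [N.Normal] (h : (Nat.card K).Coprime N.index) :
    K ≤ N := by
  rw [← Subgroup.relIndex_eq_one]
  exact Nat.eq_one_of_dvd_coprimes h (Subgroup.relIndex_dvd_card N K)
    (Subgroup.relIndex_dvd_index_of_normal N K)

/-- Subgroups of coprime index: the index of the intersection is the product. -/
theorem index_inf_of_coprime [Finite G] {H K : Subgroup G} (h : H.index.Coprime K.index) :
    (H ⊓ K).index = H.index * K.index :=
  le_antisymm Subgroup.index_inf_le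
    (Nat.le_of_dvd (Nat.pos_of_ne_zero Subgroup.index_ne_zero_of_finite)
      (h.mul_dvd_of_dvd_of_dvd (Subgroup.index_dvd_of_le inf_le_left)
        (Subgroup.index_dvd_of_le inf_le_right)))

theorem relIndex_eq_index_of_coprime [Finite G] {H K : Subgroup G}
    (h : H.index.Coprime K.index) : H.relIndex K = H.index := by
  have h1 := Subgroup.relIndex_mul_index (inf_le_right : H ⊓ K ≤ K)
  rw [index_inf_of_coprime h, Subgroup.inf_relIndex_right] at h1
  exact Nat.eq_of_mul_eq_mul_right (Nat.pos_of_ne_zero Subgroup.index_ne_zero_of_finite) h1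

/-- `G = H K` iff `[K : H ∩ K] = [G : H]`, one direction. -/
theorem exists_mul_eq_of_relIndex_eq_index [Finite G] {H K : Subgroup G}
    (h : H.relIndex K = H.index) (g : G) : ∃ x ∈ H, ∃ y ∈ K, g = x * y := by
  have hinj : Function.Injective (Subgroup.quotientSubgroupOfEmbeddingOfLE H (le_top : K ≤ ⊤)) :=
    Function.Embedding.injective _
  have hbij : Function.Bijective (Subgroup.quotientSubgroupOfEmbeddingOfLE H (le_top : K ≤ ⊤)) := by
    refine hinj.bijective_of_nat_card_le ?_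
    change H.relIndex ⊤ ≤ H.relIndex K
    rw [Subgroup.relIndex_top_right, h]
  obtain ⟨q, hq⟩ := hbij.2 (QuotientGroup.mk (⟨g⁻¹, trivial⟩ : (⊤ : Subgroup G)))
  obtain ⟨k, rfl⟩ := QuotientGroup.mk_surjective q
  rw [Subgroup.quotientSubgroupOfEmbeddingOfLE_apply_mk, QuotientGroup.eq] at hq
  have hq' : (k : G)⁻¹ * g⁻¹ ∈ H := hq
  refine ⟨((k : G)⁻¹ * g⁻¹)⁻¹, H.inv_mem hq', (k : G)⁻¹, K.inv_mem k.2, by group⟩

/-- Subgroups of coprime index have product the whole group. -/
theorem exists_mul_eq_of_coprime_index [Finite G] {H K : Subgroup G}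
    (h : H.index.Coprime K.index) (g : G) : ∃ x ∈ H, ∃ y ∈ K, g = x * y :=
  exists_mul_eq_of_relIndex_eq_index (relIndex_eq_index_of_coprime h) g

/-- If `G = H K` then `[K : H ∩ K] = [G : H]`. -/
theorem relIndex_eq_index_of_exists_mul_eq {H K : Subgroup G}
    (h : ∀ g : G, ∃ x ∈ H, ∃ y ∈ K, g = x * y) : H.relIndex K = H.index := by
  rw [← Subgroup.relIndex_top_right]
  refine Nat.card_congr (Equiv.ofBijective
    (Subgroup.quotientSubgroupOfEmbeddingOfLE H (le_top : K ≤ ⊤))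
      ⟨Function.Embedding.injective _, fun q => ?_⟩)
  obtain ⟨g, rfl⟩ := QuotientGroup.mk_surjective q
  obtain ⟨x, hx, y, hy, hg⟩ := h (g : G)⁻¹
  refine ⟨QuotientGroup.mk ⟨y⁻¹, K.inv_mem hy⟩, ?_⟩
  rw [Subgroup.quotientSubgroupOfEmbeddingOfLE_apply_mk, QuotientGroup.eq]
  change (y⁻¹)⁻¹ * (g : G) ∈ H
  have : (y⁻¹)⁻¹ * (g : G) = x⁻¹ := by
    have h2 : (g : G) = (x * y)⁻¹ := by rw [← hg, inv_inv]
    rw [h2]; group
  rw [this]; exact H.inv_mem hx

end Pi

end CL
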