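import Cfsg.Agent.Solv.SchurZassenhaus

/-!
# Coprime action (ambient form)

Throughout `A, K ≤ G` with `A` normalising `K`, `|A|` and `|K|` coprime and `A` or `K` solvable.
-/

set_option autoImplicit false

namespace CL

open Subgroup MulAction
open scoped Pointwise commutatorElement

variable {G : Type*} [Group G]

/-! ### Sylow subgroups of a subgroup, seen in the ambient group -/

theorem mem_normalizer_iff_conj_smul_eq {H : Subgroup G} {g : G} :
    g ∈ normalizer (H : Set G) ↔ MulAut.conj g • H = H :=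
  mem_normalizer_iff_map_conj_eq

theorem conj_smul_le_of_mem_normalizer {P K : Subgroup G} (hPK : P ≤ K) {g : G}
    (hg : g ∈ normalizer (K : Set G)) : MulAut.conj g • P ≤ K := by
  rw [← mem_normalizer_iff_conj_smul_eq.1 hg]
  exact (Subgroup.pointwise_smul_le_pointwise_smul_iff).2 hPK

theorem card_map_subtype {K : Subgroup G} (P : Subgroup K) :
    Nat.card (P.map K.subtype) = Nat.card P :=
  (Nat.card_congr (P.equivMapOfInjective K.subtype K.subtype_injective).toEquiv).symm

theorem card_subgroupOf_of_le {P K : Subgroup G} (h : P ≤ K) :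
    Nat.card (P.subgroupOf K) = Nat.card P :=
  Nat.card_congr (subgroupOfEquivOfLe h).toEquiv

theorem card_sylow_map_subtype [Finite G] {p : ℕ} [Fact p.Prime] {K : Subgroup G} (P : Sylow p K) :
    Nat.card ((P : Subgroup K).map K.subtype) = p ^ (Nat.card K).factorization p := by
  rw [card_map_subtype, P.card_eq_multiplicity]

theorem exists_sylow_map_subtype_eq [Finite G] {p : ℕ} [Fact p.Prime] {P K : Subgroup G}
    (hPK : P ≤ K) (hP : Nat.card P = p ^ (Nat.card K).factorization p) :
    ∃ Q : Sylow p K, (Q : Subgroup K).map K.subtype = P :=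
  ⟨Sylow.ofCard (P.subgroupOf K) (by rw [card_subgroupOf_of_le hPK, hP]), by
    rw [Sylow.coe_ofCard, map_subgroupOf_eq_of_le hPK]⟩

theorem map_subtype_conj_smul {K : Subgroup G} (P : Subgroup K) (k : K) :
    (MulAut.conj k • P).map K.subtype = MulAut.conj (k : G) • P.map K.subtype := by
  rw [conj_smul_eq_map, conj_smul_eq_map, map_map, map_map]
  rfl

/-- Sylow conjugacy inside a subgroup `K`. -/
theorem exists_conj_eq_of_card_sylow [Finite G] {p : ℕ} [Fact p.Prime] {P Q K : Subgroup G}
    (hPK : P ≤ K) (hP : Nat.card P = p ^ (Nat.card K).factorization p)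
    (hQK : Q ≤ K) (hQ : Nat.card Q = p ^ (Nat.card K).factorization p) :
    ∃ k ∈ K, MulAut.conj k • P = Q := by
  obtain ⟨P', rfl⟩ := exists_sylow_map_subtype_eq hPK hP
  obtain ⟨Q', rfl⟩ := exists_sylow_map_subtype_eq hQK hQ
  obtain ⟨k, rfl⟩ := exists_smul_eq K P' Q'
  exact ⟨k, k.2, by rw [Sylow.coe_subgroup_smul, map_subtype_conj_smul]⟩

/-- A `p`-subgroup of `K` lies in a Sylow `p`-subgroup of `K` (order form). -/
theorem exists_le_card_sylow [Finite G] {p : ℕ} [Fact p.Prime] {U K : Subgroup G}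
    (hUK : U ≤ K) (hU : IsPGroup p U) :
    ∃ P : Subgroup G, U ≤ P ∧ P ≤ K ∧ Nat.card P = p ^ (Nat.card K).factorization p := by
  obtain ⟨Q, hQ⟩ := (hU.comap_subtype (K := K)).exists_le_sylow
  refine ⟨_, ?_, map_subtype_le _, card_sylow_map_subtype Q⟩
  rw [← map_subgroupOf_eq_of_le hUK]
  exact map_mono hQ

/-! ### Fixed points on quotients -/

/-- `C_{K/N}(A)` is the image of `C_K(A)`; only `A ≤ N_G(N)` and coprimality with `|N|` matter. -/
theorem coprime_fixed_mod [Finite G] {A K N : Subgroup G}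
    (hAN : A ≤ normalizer (N : Set G)) (hcop : (Nat.card A).Coprime (Nat.card N))
    (hsolv : Group.IsSolvable A ∨ Group.IsSolvable N) (hNK : N ≤ K)
    {k : G} (hk : k ∈ K) (hfix : ∀ a ∈ A, a * k * a⁻¹ * k⁻¹ ∈ N) :
    ∃ n ∈ N, ∃ c ∈ K ⊓ centralizer (A : Set G), k = n * c := by
  obtain ⟨n, hn, hc⟩ := exists_centralizer_of_coset hAN hcop hsolv hfix
  exact ⟨n⁻¹, N.inv_mem hn, n * k, ⟨K.mul_mem (hNK hn) hk, hc⟩, by group⟩

/-- If `⁅K, A⁆ ≤ N ≤ K` then `K = N C_K(A)`. -/
theorem coprime_sup_centralizer_of_commutator_le [Finite G] {A K N : Subgroup G}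
    (hAN : A ≤ normalizer (N : Set G)) (hcop : (Nat.card A).Coprime (Nat.card N))
    (hsolv : Group.IsSolvable A ∨ Group.IsSolvable N) (hNK : N ≤ K) (h : ⁅K, A⁆ ≤ N) :
    N ⊔ (K ⊓ centralizer (A : Set G)) = K := by
  refine le_antisymm (sup_le hNK inf_le_left) (fun k hk => ?_)
  obtain ⟨n, hn, c, hc, rfl⟩ := coprime_fixed_mod hAN hcop hsolv hNK hk
    (fun a ha => h (by rw [commutator_comm]; exact commutator_mem_commutator ha hk))
  exact mul_mem_sup hn hc

/-- Quotient-group form: for a normal subgroup `N` of `G` of order coprime to `|A|`, the centraliser of the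
image of `A` in `G ⧸ N` is the image of `C_G(A)`. -/
theorem centralizer_map_mk'_of_coprime [Finite G] (A N : Subgroup G) [N.Normal]
    (hcop : (Nat.card A).Coprime (Nat.card N))
    (hsolv : Group.IsSolvable A ∨ Group.IsSolvable N) :
    centralizer ((A.map (QuotientGroup.mk' N) : Subgroup (G ⧸ N)) : Set (G ⧸ N)) =
      (centralizer (A : Set G)).map (QuotientGroup.mk' N) := by
  apply le_antisymm
  · intro x hx
    obtain ⟨k, rfl⟩ := QuotientGroup.mk'_surjective N x
    obtain ⟨n, hn, hc⟩ := exists_centralizer_of_coset le_normalizer_of_normal hcop hsolv (k := k)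
      (fun a ha => by
        rw [← QuotientGroup.eq_one_iff]
        have := mem_centralizer_iff.1 hx _ (mem_map_of_mem (QuotientGroup.mk' N) ha)
        simp only [QuotientGroup.mk'_apply] at this
        simp only [QuotientGroup.mk_mul, QuotientGroup.mk_inv, this]
        group)
    refine ⟨n * k, hc, ?_⟩
    simp [(QuotientGroup.eq_one_iff n).2 hn]
  · simpa using map_centralizer_le_centralizer_image (A : Set G) (QuotientGroup.mk' N)

/-- Homomorphic-image form: if `f : G →* H` has kernel of order coprime to `|A|` on `K`, the fixed points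
of `f A` on `f K` are the images of the fixed points of `A` on `K`. -/
theorem map_inf_centralizer_of_coprime [Finite G] {H : Type*} [Group H] (f : G →* H)
    {A K : Subgroup G} (hAK : A ≤ normalizer (K : Set G))
    (hcop : (Nat.card A).Coprime (Nat.card ↥(K ⊓ f.ker)))
    (hsolv : Group.IsSolvable A ∨ Group.IsSolvable ↥(K ⊓ f.ker)) :
    (K ⊓ centralizer (A : Set G)).map f =
      K.map f ⊓ centralizer ((A.map f : Subgroup H) : Set H) := by
  apply le_antisymm
  · refine le_inf (map_mono inf_le_left) ((map_mono inf_le_right).trans ?_)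
    simpa using map_centralizer_le_centralizer_image (A : Set G) f
  · rintro _ ⟨⟨k, hk, rfl⟩, hx⟩
    obtain ⟨n, hn, c, hc, rfl⟩ := coprime_fixed_mod
      (le_normalizer_inf hAK le_normalizer_of_normal) hcop hsolv inf_le_left hk
      (fun a ha => ⟨K.mul_mem (conj_mem_of_le_normalizer hAK ha hk) (K.inv_mem hk), by
        have := mem_centralizer_iff.1 hx _ (mem_map_of_mem f ha)
        show f _ = 1
        simp only [map_mul, map_inv, this]
        group⟩)
    exact ⟨c, hc, by rw [map_mul, MonoidHom.mem_ker.1 hn.2, one_mul]⟩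

section
variable [Finite G] {A K : Subgroup G} (hAK : A ≤ normalizer (K : Set G))
  (hcop : (Nat.card A).Coprime (Nat.card K)) (hsolv : Group.IsSolvable A ∨ Group.IsSolvable K)
include hAK hcop hsolv

/-- `K = [K, A] C_K(A)`, elementwise. -/
theorem coprime_exists_commutator_mul_centralizer {k : G} (hk : k ∈ K) :
    ∃ n ∈ ⁅K, A⁆, ∃ c ∈ K ⊓ centralizer (A : Set G), k = n * c := by
  have hle : ⁅K, A⁆ ≤ K := le_normalizer_iff_commutator_le_left.1 hAK
  exact coprime_fixed_mod (normalizer_commutator_ge_right K A)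
    (coprime_card_of_le le_rfl hle hcop) (solvable_or_of_le hle hsolv) hle hk
    (fun a ha => by rw [commutator_comm]; exact commutator_mem_commutator ha hk)

/-- `K = [K, A] C_K(A)`. -/
theorem coprime_commutator_sup_centralizer : ⁅K, A⁆ ⊔ (K ⊓ centralizer (A : Set G)) = K := by
  refine le_antisymm (sup_le (le_normalizer_iff_commutator_le_left.1 hAK) inf_le_left)
    (fun k hk => ?_)
  obtain ⟨n, hn, c, hc, rfl⟩ := coprime_exists_commutator_mul_centralizer hAK hcop hsolv hk
  exact mul_mem_sup hn hc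

/-- `[K, A, A] = [K, A]`. -/
theorem coprime_commutator_commutator : ⁅⁅K, A⁆, A⁆ = ⁅K, A⁆ := by
  refine le_antisymm (commutator_mono (le_normalizer_iff_commutator_le_left.1 hAK) le_rfl) ?_
  rw [commutator_le]
  intro k hk a ha
  obtain ⟨n, hn, c, hc, rfl⟩ := coprime_exists_commutator_mul_centralizer hAK hcop hsolv hk
  have h1 : a * c = c * a := mem_centralizer_iff.1 hc.2 a ha
  have : ⁅n * c, a⁆ = ⁅n, a⁆ := by
    simp only [commutatorElement_def, mul_inv_rev]
    calc n * c * a * (c⁻¹ * n⁻¹) * a⁻¹ = n * (c * a) * c⁻¹ * n⁻¹ * a⁻¹ := by group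
      _ = n * a * n⁻¹ * a⁻¹ := by rw [← h1]; group
  rw [this]
  exact commutator_mem_commutator hn ha

/-- A coprime action with `[K, A, A] = 1` is trivial. -/
theorem coprime_commutator_eq_bot (h : ⁅⁅K, A⁆, A⁆ = ⊥) : ⁅K, A⁆ = ⊥ := by
  rw [← coprime_commutator_commutator hAK hcop hsolv, h]

/-- A coprime action that is trivial on `[K, A]` is trivial. -/
theorem coprime_le_centralizer_of_commutator_le (h : ⁅K, A⁆ ≤ centralizer (A : Set G)) :
    K ≤ centralizer (A : Set G) := by
  rw [← commutator_eq_bot_iff_le_centralizer] at h ⊢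
  exact coprime_commutator_eq_bot hAK hcop hsolv h

/-- Existence of an `A`-invariant Sylow subgroup (order form). -/
theorem coprime_exists_invariant_sylow (p : ℕ) [Fact p.Prime] :
    ∃ P : Subgroup G, P ≤ K ∧ Nat.card P = p ^ (Nat.card K).factorization p ∧
      A ≤ normalizer (P : Set G) := by
  let _ : MulAction G (Subgroup G) := MulAction.compHom _ (MulAut.conj : G →* MulAut G)
  obtain ⟨P, -, hPK, hP⟩ := exists_le_card_sylow (bot_le : ⊥ ≤ K) (IsPGroup.of_bot (p := p))
  obtain ⟨l, hl, h⟩ := glauberman_fixed hAK hcop hsolv P (fun a ha => by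
    obtain ⟨k, hk, h⟩ := exists_conj_eq_of_card_sylow hPK hP
      (conj_smul_le_of_mem_normalizer hPK (hAK ha)) (by rw [card_conj_smul, hP])
    exact ⟨k, hk, h.symm⟩)
  exact ⟨MulAut.conj l • P, conj_smul_le_of_mem_normalizer hPK (le_normalizer hl),
    by rw [card_conj_smul, hP], fun a ha => mem_normalizer_iff_conj_smul_eq.2 (h a ha)⟩

/-- Subgroups normalised by `A` and conjugate under `K` are conjugate under `C_K(A)`. -/
theorem coprime_conj_of_conj {P Q : Subgroup G} (hP : A ≤ normalizer (P : Set G))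
    (hQ : A ≤ normalizer (Q : Set G)) {k : G} (hk : k ∈ K) (h : MulAut.conj k • P = Q) :
    ∃ c ∈ K ⊓ centralizer (A : Set G), MulAut.conj c • P = Q := by
  let _ : MulAction G (Subgroup G) := MulAction.compHom _ (MulAut.conj : G →* MulAut G)
  exact glauberman_conj hAK hcop hsolv (fun a ha => mem_normalizer_iff_conj_smul_eq.1 (hP ha))
    (fun a ha => mem_normalizer_iff_conj_smul_eq.1 (hQ ha)) hk h

/-- Elements centralised by `A` and conjugate under `K` are conjugate under `C_K(A)`. -/
theorem coprime_isConj_of_isConj {x y : G} (hx : x ∈ centralizer (A : Set G))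
    (hy : y ∈ centralizer (A : Set G)) {k : G} (hk : k ∈ K) (h : k * x * k⁻¹ = y) :
    ∃ c ∈ K ⊓ centralizer (A : Set G), c * x * c⁻¹ = y := by
  let _ : MulAction G G := MulAction.compHom _ (MulAut.conj : G →* MulAut G)
  exact glauberman_conj (X := G) hAK hcop hsolv (x := x) (y := y)
    (fun a ha => show a * x * a⁻¹ = x by rw [mem_centralizer_iff.1 hx a ha]; group)
    (fun a ha => show a * y * a⁻¹ = y by rw [mem_centralizer_iff.1 hy a ha]; group) hk h

/-- `A`-invariant Sylow subgroups of `K` are conjugate under `C_K(A)` (order form). -/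
theorem coprime_invariant_sylow_conj {p : ℕ} [Fact p.Prime] {P Q : Subgroup G}
    (hPK : P ≤ K) (hP : Nat.card P = p ^ (Nat.card K).factorization p)
    (hQK : Q ≤ K) (hQ : Nat.card Q = p ^ (Nat.card K).factorization p)
    (hAP : A ≤ normalizer (P : Set G)) (hAQ : A ≤ normalizer (Q : Set G)) :
    ∃ c ∈ K ⊓ centralizer (A : Set G), MulAut.conj c • P = Q := by
  obtain ⟨k, hk, h⟩ := exists_conj_eq_of_card_sylow hPK hP hQK hQ
  exact coprime_conj_of_conj hAK hcop hsolv hAP hAQ hk h

/-- An `A`-invariant `p`-subgroup of `K` lies in an `A`-invariant Sylow `p`-subgroup (order form). -/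
theorem coprime_exists_invariant_sylow_ge {p : ℕ} [hp : Fact p.Prime] (U : Subgroup G) (hUK : U ≤ K)
    (hU : IsPGroup p U) (hAU : A ≤ normalizer (U : Set G)) :
    ∃ P : Subgroup G, U ≤ P ∧ P ≤ K ∧ Nat.card P = p ^ (Nat.card K).factorization p ∧
      A ≤ normalizer (P : Set G) := by
  induction U using WellFoundedGT.induction with
  | ind U ih =>
    obtain ⟨n, hn⟩ := IsPGroup.iff_card.1 hU
    by_cases hd : p ^ (n + 1) ∣ Nat.card K
    · set N := K ⊓ normalizer (U : Set G) with hN
      have hAN : A ≤ normalizer (N : Set G) := by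
        refine le_normalizer_inf hAK ?_
        intro a ha
        rw [mem_normalizer_iff_conj_smul_eq, conj_smul_eq_map,
          map_normalizer_eq_of_bijective _ (MulAut.conj a).bijective, ← conj_smul_eq_map,
          mem_normalizer_iff_conj_smul_eq.1 (hAU ha)]
      obtain ⟨P, hPN, hP, hAP⟩ := coprime_exists_invariant_sylow hAN
        (coprime_card_of_le le_rfl inf_le_left hcop) (solvable_or_of_le inf_le_left hsolv) p
      have hPp : IsPGroup p P := IsPGroup.of_card hP
      have hUN : U ≤ N := le_inf hUK le_normalizer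
      have hd' : p ^ (n + 1) ∣ Nat.card N := by
        have := Sylow.prime_pow_dvd_card_normalizer hd (H := U.subgroupOf K)
          (by rw [card_subgroupOf_of_le hUK, hn])
        rw [← subgroupOf_normalizer_eq hUK, ← card_map_subtype, subgroupOf_map_subtype,
          inf_comm] at this
        exact this
      have hUP : U < U ⊔ P := by
        refine lt_of_le_of_ne le_sup_left (fun he => ?_)
        have h1 : P ≤ U := he ▸ le_sup_right
        have h2 := card_dvd_of_le h1
        rw [hP, hn, Nat.pow_dvd_pow_iff_le_right hp.out.one_lt] at h2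
        have h3 := (hp.out.pow_dvd_iff_le_factorization Nat.card_pos.ne').1 hd'
        omega
      obtain ⟨Q, h1, h2, h3, h4⟩ := ih _ hUP (sup_le hUK (hPN.trans inf_le_left))
        (hU.to_sup_of_normal_left' hPp (hPN.trans inf_le_right)) (le_normalizer_sup hAU hAP)
      exact ⟨Q, hUP.le.trans h1, h2, h3, h4⟩
    · refine ⟨U, le_rfl, hUK, ?_, hAU⟩
      rw [hn]
      congr 1
      have h2 := (hp.out.pow_dvd_iff_le_factorization Nat.card_pos.ne').1
        (hn ▸ card_dvd_of_le hUK)
      rw [hp.out.pow_dvd_iff_le_factorization Nat.card_pos.ne'] at hd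
      omega

omit hAK in
/-- Fixed points of a product of invariant subgroups. -/
theorem coprime_centralizer_mul {X Y : Subgroup G} (hX : X ≤ K)
    (hXA : A ≤ normalizer (X : Set G)) (hYA : A ≤ normalizer (Y : Set G))
    {x y : G} (hx : x ∈ X) (hy : y ∈ Y) (hk : x * y ∈ centralizer (A : Set G)) :
    ∃ x' ∈ X ⊓ centralizer (A : Set G), ∃ y' ∈ Y ⊓ centralizer (A : Set G), x * y = x' * y' := by
  obtain ⟨d, hd, hc⟩ := exists_centralizer_of_left_coset (le_normalizer_inf hXA hYA)
    (coprime_card_of_le le_rfl (inf_le_left.trans hX) hcop)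
    (solvable_or_of_le (inf_le_left.trans hX) hsolv) (k := x) (fun a ha => by
      refine ⟨X.mul_mem (X.inv_mem hx) (conj_mem_of_le_normalizer hXA ha hx), ?_⟩
      have h1 := mem_centralizer_iff.1 hk a ha
      have : x⁻¹ * (a * x * a⁻¹) = y * (a * y * a⁻¹)⁻¹ := by
        calc x⁻¹ * (a * x * a⁻¹) = x⁻¹ * (a * (x * y)) * y⁻¹ * a⁻¹ := by group
          _ = y * (a * y * a⁻¹)⁻¹ := by rw [h1]; group
      rw [this]
      exact Y.mul_mem hy (Y.inv_mem (conj_mem_of_le_normalizer hYA ha hy)))
  refine ⟨x * d, ⟨X.mul_mem hx hd.1, hc⟩, d⁻¹ * y, ⟨Y.mul_mem (Y.inv_mem hd.2) hy, ?_⟩, by group⟩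
  have := Subgroup.mul_mem _ (Subgroup.inv_mem _ hc) hk
  simpa [mul_assoc] using this

end

end CL
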