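import Cfsg.Agent.Solv.Pi

/-!
# Elementary API for `Cfsg.IsPiHall`, `Cfsg.IsPiHallOf` and `Cfsg.piCore`
-/

open Cfsg
open scoped Pointwise

namespace CL

namespace PiHall

variable {G : Type*} [Group G] {π : Set ℕ}

theorem isPiHall_iff {H : Subgroup G} :
    IsPiHall π H ↔ IsPiNum π (Nat.card H) ∧ IsPiNum πᶜ H.index :=
  and_congr Iff.rfl IsPiNum.compl_iff.symm

theorem isPiHallOf_iff {H M : Subgroup G} :
    IsPiHallOf π H M ↔ H ≤ M ∧ IsPiNum π (Nat.card H) ∧ IsPiNum πᶜ (H.relIndex M) :=
  and_congr Iff.rfl (and_congr Iff.rfl IsPiNum.compl_iff.symm)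

theorem mk {H : Subgroup G} (h1 : IsPiNum π (Nat.card H)) (h2 : IsPiNum πᶜ H.index) :
    IsPiHall π H := isPiHall_iff.mpr ⟨h1, h2⟩

theorem mkOf {H M : Subgroup G} (h : H ≤ M) (h1 : IsPiNum π (Nat.card H))
    (h2 : IsPiNum πᶜ (H.relIndex M)) : IsPiHallOf π H M := isPiHallOf_iff.mpr ⟨h, h1, h2⟩

theorem card_pi {H : Subgroup G} (h : IsPiHall π H) : IsPiNum π (Nat.card H) := h.1

theorem index_pi {H : Subgroup G} (h : IsPiHall π H) : IsPiNum πᶜ H.index := (isPiHall_iff.mp h).2

theorem of_card_pi {H M : Subgroup G} (h : IsPiHallOf π H M) : IsPiNum π (Nat.card H) := h.2.1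

theorem of_relIndex_pi {H M : Subgroup G} (h : IsPiHallOf π H M) : IsPiNum πᶜ (H.relIndex M) :=
  (isPiHallOf_iff.mp h).2.2

theorem coprime {H : Subgroup G} (h : IsPiHall π H) : (Nat.card H).Coprime H.index :=
  (card_pi h).coprime (index_pi h)

theorem of_coprime {H M : Subgroup G} (h : IsPiHallOf π H M) :
    (Nat.card H).Coprime (H.relIndex M) :=
  (of_card_pi h).coprime (of_relIndex_pi h)

theorem isPiHallOf_top {H : Subgroup G} : IsPiHallOf π H ⊤ ↔ IsPiHall π H := by
  rw [isPiHallOf_iff, isPiHall_iff, Subgroup.relIndex_top_right]; simp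

theorem isPiHallOf_iff_subgroupOf {H M : Subgroup G} (h : H ≤ M) :
    IsPiHallOf π H M ↔ IsPiHall π (H.subgroupOf M) := by
  rw [isPiHallOf_iff, isPiHall_iff, Pi.card_subgroupOf_of_le h]
  exact ⟨fun h => h.2, fun h' => ⟨h, h'⟩⟩

theorem subgroupOf {H M : Subgroup G} (h : IsPiHallOf π H M) : IsPiHall π (H.subgroupOf M) :=
  (isPiHallOf_iff_subgroupOf h.1).mp h

theorem isPiHallOf_map_subtype {M : Subgroup G} {H : Subgroup M} :
    IsPiHallOf π (H.map M.subtype) M ↔ IsPiHall π H := by
  rw [isPiHallOf_iff_subgroupOf (Subgroup.map_subtype_le H)]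
  have : (H.map M.subtype).subgroupOf M = H :=
    Subgroup.comap_map_eq_self_of_injective M.subtype_injective H
  rw [this]

/-- A subgroup of order coprime to its index is a Hall `π`-subgroup for `π` its set of primes. -/
theorem isPiHall_of_coprime {H : Subgroup G} (h : (Nat.card H).Coprime H.index) :
    IsPiHall {p | p ∣ Nat.card H} H :=
  mk (IsPiNum.self_dvd _) (IsPiNum.compl_dvd_iff_coprime.mpr h.symm)

theorem isPiHallOf_of_coprime {H M : Subgroup G} (hle : H ≤ M)
    (h : (Nat.card H).Coprime (H.relIndex M)) : IsPiHallOf {p | p ∣ Nat.card H} H M :=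
  mkOf hle (IsPiNum.self_dvd _) (IsPiNum.compl_dvd_iff_coprime.mpr h.symm)

theorem top_iff : IsPiHall π (⊤ : Subgroup G) ↔ IsPiNum π (Nat.card G) := by
  rw [isPiHall_iff, Subgroup.card_top, Subgroup.index_top]
  exact ⟨fun h => h.1, fun h => ⟨h, IsPiNum.one _⟩⟩

theorem bot_iff : IsPiHall π (⊥ : Subgroup G) ↔ IsPiNum πᶜ (Nat.card G) := by
  rw [isPiHall_iff, Subgroup.card_bot, Subgroup.index_bot]
  exact ⟨fun h => h.2, fun h => ⟨IsPiNum.one _, h⟩⟩

theorem self_iff {M : Subgroup G} : IsPiHallOf π M M ↔ IsPiNum π (Nat.card M) := by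
  rw [isPiHallOf_iff, Subgroup.relIndex_self]
  exact ⟨fun h => h.2.1, fun h => ⟨le_rfl, h, IsPiNum.one _⟩⟩

/-- Two Hall `π`-subgroups have the same order. -/
theorem card_eq {H K : Subgroup G} (hH : IsPiHall π H) (hK : IsPiHall π K) :
    Nat.card H = Nat.card K :=
  (card_pi hH).eq_of_mul_eq (index_pi hH) (card_pi hK) (index_pi hK)
    (by rw [Subgroup.card_mul_index, Subgroup.card_mul_index])

theorem of_card_eq {H K M : Subgroup G} (hH : IsPiHallOf π H M) (hK : IsPiHallOf π K M) :
    Nat.card H = Nat.card K := by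
  rw [← Pi.card_subgroupOf_of_le hH.1, ← Pi.card_subgroupOf_of_le hK.1]
  exact card_eq (subgroupOf hH) (subgroupOf hK)

/-- The order of a `π`-subgroup divides the order of a Hall `π`-subgroup. -/
theorem card_dvd {H K : Subgroup G} (hH : IsPiHall π H) (hK : IsPiNum π (Nat.card K)) :
    Nat.card K ∣ Nat.card H :=
  hK.dvd_of_dvd_mul_right (index_pi hH)
    (by rw [Subgroup.card_mul_index]; exact Subgroup.card_subgroup_dvd_card K)

theorem of_card_dvd {H K M : Subgroup G} (hH : IsPiHallOf π H M) (hKM : K ≤ M)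
    (hK : IsPiNum π (Nat.card K)) : Nat.card K ∣ Nat.card H :=
  hK.dvd_of_dvd_mul_right (of_relIndex_pi hH)
    (by rw [Pi.card_mul_relIndex hH.1]; exact Subgroup.card_dvd_of_le hKM)

/-- A `π`-number dividing `|G|` divides the order of a Hall `π`-subgroup. -/
theorem dvd_card {H : Subgroup G} (hH : IsPiHall π H) {n : ℕ} (hn : IsPiNum π n)
    (hd : n ∣ Nat.card G) : n ∣ Nat.card H :=
  hn.dvd_of_dvd_mul_right (index_pi hH) (by rwa [Subgroup.card_mul_index])

/-- A subgroup with the order of a Hall `π`-subgroup is a Hall `π`-subgroup. -/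
theorem of_card_eq_card [Finite G] {H K : Subgroup G} (hH : IsPiHall π H)
    (h : Nat.card K = Nat.card H) : IsPiHall π K := by
  refine mk (h ▸ card_pi hH) ?_
  have h1 : Nat.card K * K.index = Nat.card H * H.index := by
    rw [Subgroup.card_mul_index, Subgroup.card_mul_index]
  rw [h] at h1
  rw [Nat.eq_of_mul_eq_mul_left Nat.card_pos h1]
  exact index_pi hH

/-- A Hall `π`-subgroup is maximal among `π`-subgroups. -/
theorem eq_of_le [Finite G] {H K : Subgroup G} (hH : IsPiHall π H) (hK : IsPiNum π (Nat.card K))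
    (h : H ≤ K) : H = K :=
  Subgroup.eq_of_le_of_card_ge h (Nat.le_of_dvd Nat.card_pos (card_dvd hH hK))

theorem of_eq_of_le [Finite G] {H K M : Subgroup G} (hH : IsPiHallOf π H M) (hKM : K ≤ M)
    (hK : IsPiNum π (Nat.card K)) (h : H ≤ K) : H = K :=
  Subgroup.eq_of_le_of_card_ge h (Nat.le_of_dvd Nat.card_pos (of_card_dvd hH hKM hK))

/-- A Hall `π`-subgroup of `G` is a Hall `π`-subgroup of every subgroup containing it. -/
theorem isPiHallOf_of_le {H M : Subgroup G} (hH : IsPiHall π H) (h : H ≤ M) : IsPiHallOf π H M :=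
  mkOf h (card_pi hH) ((index_pi hH).of_dvd (Subgroup.relIndex_dvd_index_of_le h))

theorem of_restrict {H L M : Subgroup G} (hH : IsPiHallOf π H M) (h : H ≤ L) (hL : L ≤ M) :
    IsPiHallOf π H L :=
  mkOf h (of_card_pi hH) ((of_relIndex_pi hH).of_dvd
    ⟨_, (Subgroup.relIndex_mul_relIndex H L M h hL).symm⟩)

/-- A Hall `π`-subgroup of a subgroup of `π'`-index is a Hall `π`-subgroup. -/
theorem isPiHall_of_index {H M : Subgroup G} (hH : IsPiHallOf π H M) (hM : IsPiNum πᶜ M.index) :
    IsPiHall π H :=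
  mk (of_card_pi hH) (Subgroup.relIndex_mul_index hH.1 ▸ (of_relIndex_pi hH).mul hM)

theorem of_trans_relIndex {H L M : Subgroup G} (hH : IsPiHallOf π H L) (hL : L ≤ M)
    (hM : IsPiNum πᶜ (L.relIndex M)) : IsPiHallOf π H M :=
  mkOf (hH.1.trans hL) (of_card_pi hH)
    (Subgroup.relIndex_mul_relIndex H L M hH.1 hL ▸ (of_relIndex_pi hH).mul hM)

/-- A Hall `ρ`-subgroup of a Hall `π`-subgroup is a Hall `(π ∩ ρ)`-subgroup. -/
theorem isPiHall_inter {ρ : Set ℕ} {H K : Subgroup G} (hK : IsPiHallOf ρ K H) (hH : IsPiHall π H) :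
    IsPiHall (π ∩ ρ) K := by
  refine mk ((Pi.isPiNum_card_of_le (card_pi hH) hK.1).inter (of_card_pi hK)) ?_
  rw [← Subgroup.relIndex_mul_index hK.1]
  exact ((of_relIndex_pi hK).mono (Set.compl_subset_compl.mpr Set.inter_subset_right)).mul
    ((index_pi hH).mono (Set.compl_subset_compl.mpr Set.inter_subset_left))

/-- Only the primes dividing the group order matter. -/
theorem congr {ρ : Set ℕ} {H : Subgroup G} (hH : IsPiHall π H)
    (h : ∀ p : ℕ, p.Prime → p ∣ Nat.card G → (p ∈ π ↔ p ∈ ρ)) : IsPiHall ρ H :=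
  mk (fun p hp hd => (h p hp (hd.trans H.card_subgroup_dvd_card)).mp (card_pi hH p hp hd))
    (fun p hp hd hρ => index_pi hH p hp hd ((h p hp (hd.trans H.index_dvd_card)).mpr hρ))

theorem smul {α : Type*} [Group α] [MulDistribMulAction α G] (a : α) {H : Subgroup G}
    (hH : IsPiHall π H) : IsPiHall π (a • H) :=
  mk (by rw [Pi.card_smul]; exact card_pi hH) (by rw [Pi.index_smul]; exact index_pi hH)

theorem of_smul {α : Type*} [Group α] [MulDistribMulAction α G] (a : α) {H M : Subgroup G}
    (hH : IsPiHallOf π H M) : IsPiHallOf π (a • H) (a • M) :=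
  mkOf (Subgroup.pointwise_smul_le_pointwise_smul_iff.mpr hH.1)
    (by rw [Pi.card_smul]; exact of_card_pi hH)
    (by rw [Subgroup.relIndex_pointwise_smul]; exact of_relIndex_pi hH)

theorem of_conj_smul {H M : Subgroup G} (hH : IsPiHallOf π H M) {g : G}
    (hg : g ∈ Subgroup.normalizer (M : Set G)) : IsPiHallOf π (MulAut.conj g • H) M := by
  have := of_smul (MulAut.conj g) hH
  rwa [Pi.conj_smul_eq_iff_mem_normalizer.mpr hg] at this

/-- The image of a Hall `π`-subgroup under a surjection. -/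
theorem map_of_surjective {G' : Type*} [Group G'] {f : G →* G'} (hf : Function.Surjective f)
    {H : Subgroup G} (hH : IsPiHall π H) : IsPiHall π (H.map f) :=
  mk (Pi.isPiNum_card_map (card_pi hH) f) ((index_pi hH).of_dvd (H.index_map_dvd hf))

theorem of_map {G' : Type*} [Group G'] (f : G →* G') {H M : Subgroup G}
    (hH : IsPiHallOf π H M) : IsPiHallOf π (H.map f) (M.map f) := by
  have h1 := map_of_surjective (f.subgroupMap_surjective M) (subgroupOf hH)
  rw [isPiHallOf_iff_subgroupOf (Subgroup.map_mono hH.1)]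
  convert h1 using 1
  ext ⟨x, hx⟩
  simp only [Subgroup.mem_subgroupOf, Subgroup.mem_map]
  constructor
  · rintro ⟨y, hy, rfl⟩
    exact ⟨⟨y, hH.1 hy⟩, hy, rfl⟩
  · rintro ⟨y, hy, h⟩
    exact ⟨y, hy, congrArg Subtype.val h⟩

/-- The preimage of a Hall `π`-subgroup under a surjection whose kernel is a `π`-group. -/
theorem comap_of_surjective {G' : Type*} [Group G'] {f : G →* G'} (hf : Function.Surjective f)
    (hker : IsPiNum π (Nat.card f.ker)) {H : Subgroup G'} (hH : IsPiHall π H) :
    IsPiHall π (H.comap f) :=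
  mk (by rw [Pi.card_comap_of_surjective hf]; exact hker.mul (card_pi hH))
    (by rw [Subgroup.index_comap_of_surjective _ hf]; exact index_pi hH)

/-- A Hall `π`-subgroup meets a normal subgroup `N` in a Hall `π`-subgroup of `N`. -/
theorem inf_normal [Finite G] {H : Subgroup G} (hH : IsPiHall π H) (N : Subgroup G) [N.Normal] :
    IsPiHallOf π (H ⊓ N) N := by
  refine mkOf inf_le_right (Pi.isPiNum_card_of_le (card_pi hH) inf_le_left) ?_
  have h1 := Pi.card_sup_mul_card_inf H N
  rw [← Pi.card_mul_relIndex (le_sup_left : H ≤ H ⊔ N),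
    ← Pi.card_mul_relIndex (inf_le_right : H ⊓ N ≤ N), mul_assoc] at h1
  have h2 := Nat.eq_of_mul_eq_mul_left Nat.card_pos h1
  rw [mul_comm] at h2
  rw [← Nat.eq_of_mul_eq_mul_left Nat.card_pos h2]
  exact (index_pi hH).of_dvd (Subgroup.relIndex_dvd_index_of_le le_sup_left)

/-- Relative form: `H` Hall in `M`, `N ≤ M` normalised by `M`. -/
theorem of_inf_normal [Finite G] {H M N : Subgroup G} (hH : IsPiHallOf π H M) (hN : N ≤ M)
    (hM : M ≤ Subgroup.normalizer (N : Set G)) : IsPiHallOf π (H ⊓ N) N := by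
  have := Pi.normal_subgroupOf_of_le_normalizer hM
  have h1 := of_map M.subtype (inf_normal (subgroupOf hH) (N.subgroupOf M))
  rwa [Subgroup.map_inf _ _ _ M.subtype_injective, Subgroup.map_subgroupOf_eq_of_le hH.1,
    Subgroup.map_subgroupOf_eq_of_le hN] at h1

/-- A normal Hall `π`-subgroup contains every `π`-subgroup. -/
theorem le_of_normal {H K : Subgroup G} [H.Normal] (hH : IsPiHall π H)
    (hK : IsPiNum π (Nat.card K)) : K ≤ H :=
  Pi.le_of_coprime_index (hK.coprime (index_pi hH))

theorem of_le_of_normal {H K M : Subgroup G} (hH : IsPiHallOf π H M)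
    (hM : M ≤ Subgroup.normalizer (H : Set G)) (hKM : K ≤ M) (hK : IsPiNum π (Nat.card K)) :
    K ≤ H := by
  have := Pi.normal_subgroupOf_of_le_normalizer hM
  have h1 := le_of_normal (subgroupOf hH) (Pi.isPiNum_card_subgroupOf hK M)
  intro x hx
  exact h1 (show (⟨x, hKM hx⟩ : M) ∈ K.subgroupOf M from hx)

theorem mem_of_normal [Finite G] {H : Subgroup G} [H.Normal] (hH : IsPiHall π H) {x : G}
    (hx : IsPiNum π (orderOf x)) : x ∈ H :=
  le_of_normal hH (K := Subgroup.zpowers x) (by rwa [Nat.card_zpowers]) (Subgroup.mem_zpowers x)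

/-- A normal `π`-subgroup lies in every Hall `π`-subgroup. -/
theorem normal_le [Finite G] {H N : Subgroup G} [N.Normal] (hH : IsPiHall π H)
    (hN : IsPiNum π (Nat.card N)) : N ≤ H := by
  rw [eq_of_le hH (Pi.isPiNum_card_sup_of_normal (card_pi hH) hN) le_sup_left]
  exact le_sup_right

/-- A `π`-subgroup of `M` normalised by a Hall `π`-subgroup `H` of `M` lies in `H`. -/
theorem of_le_of_le_normalizer [Finite G] {H N M : Subgroup G} (hH : IsPiHallOf π H M)
    (hNM : N ≤ M) (hN : IsPiNum π (Nat.card N)) (h : H ≤ Subgroup.normalizer (N : Set G)) :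
    N ≤ H := by
  rw [of_eq_of_le hH (sup_le hH.1 hNM) (Pi.isPiNum_card_sup h (of_card_pi hH) hN) le_sup_left]
  exact le_sup_right

/-- A normal Hall subgroup is characteristic. -/
theorem characteristic_of_normal {H : Subgroup G} [H.Normal] (hH : IsPiHall π H) :
    H.Characteristic := by
  rw [Subgroup.characteristic_iff_map_le]
  intro φ
  exact le_of_normal hH (Pi.isPiNum_card_map (card_pi hH) _)

/-- A Hall `π`-subgroup and a Hall `π'`-subgroup are complements. -/
theorem isComplement' [Finite G] {H K : Subgroup G} (hH : IsPiHall π H) (hK : IsPiHall πᶜ K) :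
    H.IsComplement' K := by
  refine Subgroup.isComplement'_of_coprime ?_ ((card_pi hH).coprime (card_pi hK))
  have h1 : Nat.card H = K.index :=
    (card_pi hH).eq_of_mul_eq (index_pi hH) (IsPiNum.compl_compl.mp (index_pi hK)) (card_pi hK)
      (by rw [Subgroup.card_mul_index, Subgroup.index_mul_card])
  rw [h1, Subgroup.index_mul_card]

/-- A complement of a Hall `π`-subgroup is a Hall `π'`-subgroup. -/
theorem compl_of_isComplement' {H K : Subgroup G} (hH : IsPiHall π H) (h : H.IsComplement' K) :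
    IsPiHall πᶜ K :=
  mk (by rw [← h.symm.index_eq_card]; exact index_pi hH)
    (by rw [h.index_eq_card, IsPiNum.compl_compl]; exact card_pi hH)

theorem sylow [Finite G] {p : ℕ} [hp : Fact p.Prime] (P : Sylow p G) :
    IsPiHall {p} (P : Subgroup G) :=
  mk ((Pi.isPGroup_iff_isPiNum hp.out).mp P.isPGroup')
    ((IsPiNum.compl_singleton_iff hp.out).mpr P.not_dvd_index)

theorem exists_sylow_eq [Finite G] {p : ℕ} [hp : Fact p.Prime] {H : Subgroup G}
    (hH : IsPiHall {p} H) : ∃ P : Sylow p G, (P : Subgroup G) = H :=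
  ⟨((Pi.isPGroup_iff_isPiNum hp.out).mpr (card_pi hH)).toSylow
    ((IsPiNum.compl_singleton_iff hp.out).mp (index_pi hH)), rfl⟩

/-- Hall `p'`-subgroups are the subgroups of index the `p`-part of `|G|`. -/
theorem isPiHall_compl_singleton_iff [Finite G] {p : ℕ} (hp : p.Prime) {H : Subgroup G} :
    IsPiHall {p}ᶜ H ↔ H.index = p ^ (Nat.card G).factorization p := by
  have := Fact.mk hp
  obtain ⟨P⟩ : Nonempty (Sylow p G) := inferInstance
  rw [← P.card_eq_multiplicity]
  constructor
  · intro h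
    exact (isComplement' (sylow P) h).index_eq_card
  · intro h
    refine mk ?_ (by rw [h, IsPiNum.compl_compl]; exact card_pi (sylow P))
    have h1 : Nat.card P * Nat.card H = Nat.card P * P.index := by
      rw [Subgroup.card_mul_index, ← h, Subgroup.index_mul_card]
    rw [Nat.eq_of_mul_eq_mul_left Nat.card_pos h1]
    exact index_pi (sylow P)

end PiHall

/-! ### The π-core -/

namespace PiCore

variable {G : Type*} [Group G] {π : Set ℕ}

theorem le_piCore {N : Subgroup G} [hN : N.Normal] (h : IsPiNum π (Nat.card N)) :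
    N ≤ piCore π G :=
  le_sSup (s := {N : Subgroup G | N.Normal ∧ IsPiNum π (Nat.card N)}) ⟨hN, h⟩

theorem isPiNum_card [Finite G] (π : Set ℕ) : IsPiNum π (Nat.card (piCore π G)) := by
  obtain ⟨M, ⟨hM, hM'⟩, hmax⟩ := (Set.toFinite
    {N : Subgroup G | N.Normal ∧ IsPiNum π (Nat.card N)}).exists_maximal
    ⟨⊥, inferInstance, by rw [Subgroup.card_bot]; exact IsPiNum.one π⟩
  refine Pi.isPiNum_card_of_le hM' (sSup_le ?_)
  rintro N ⟨hN, hN'⟩
  exact le_sup_right.trans
    (hmax (y := M ⊔ N) ⟨inferInstance, Pi.isPiNum_card_sup_of_normal hM' hN'⟩ le_sup_left)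

theorem map_le_of_surjective [Finite G] {G' : Type*} [Group G'] {f : G →* G'}
    (hf : Function.Surjective f) : (piCore π G).map f ≤ piCore π G' := by
  have : ((piCore π G).map f).Normal := Subgroup.Normal.map inferInstance f hf
  exact le_piCore (Pi.isPiNum_card_map (isPiNum_card π) f)

theorem map_equiv [Finite G] {G' : Type*} [Group G'] (e : G ≃* G') :
    (piCore π G).map e.toMonoidHom = piCore π G' := by
  have : Finite G' := Finite.of_equiv G e.toEquiv
  refine le_antisymm (map_le_of_surjective e.surjective) fun x hx => ?_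
  exact ⟨e.symm x, map_le_of_surjective (f := e.symm.toMonoidHom) e.symm.surjective ⟨x, hx, rfl⟩,
    e.apply_symm_apply x⟩

theorem characteristic [Finite G] (π : Set ℕ) : (piCore π G).Characteristic :=
  Subgroup.characteristic_iff_map_eq.mpr fun e => map_equiv e

theorem mono [Finite G] {ρ : Set ℕ} (h : π ⊆ ρ) : piCore π G ≤ piCore ρ G :=
  le_piCore ((isPiNum_card π).mono h)

theorem eq_top_iff [Finite G] : piCore π G = ⊤ ↔ IsPiNum π (Nat.card G) := by
  constructor
  · intro h
    have := isPiNum_card (G := G) π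
    rwa [h, Subgroup.card_top] at this
  · intro h
    exact top_le_iff.mp (le_piCore (by rwa [Subgroup.card_top]))

theorem eq_bot_iff : piCore π G = ⊥ ↔
    ∀ N : Subgroup G, N.Normal → IsPiNum π (Nat.card N) → N = ⊥ := by
  rw [piCore, sSup_eq_bot]
  exact ⟨fun h N hN hN' => h N ⟨hN, hN'⟩, fun h N hN => h N hN.1 hN.2⟩

theorem le_isPiHall [Finite G] {H : Subgroup G} (hH : IsPiHall π H) : piCore π G ≤ H :=
  PiHall.normal_le hH (isPiNum_card π)

/-- A normal Hall `π`-subgroup is the `π`-core. -/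
theorem eq_of_normal_isPiHall [Finite G] {H : Subgroup G} [H.Normal] (hH : IsPiHall π H) :
    H = piCore π G :=
  le_antisymm (le_piCore (PiHall.card_pi hH)) (le_isPiHall hH)

/-- The `π`-core of a normal subgroup lies in the `π`-core. -/
theorem map_subtype_le [Finite G] (N : Subgroup G) [N.Normal] :
    (piCore π N).map N.subtype ≤ piCore π G := by
  have := characteristic (G := N) π
  exact le_piCore (Pi.isPiNum_card_map (isPiNum_card π) _)

theorem map_subtype_eq_inf [Finite G] (N : Subgroup G) [N.Normal] :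
    (piCore π N).map N.subtype = piCore π G ⊓ N := by
  refine le_antisymm (le_inf (map_subtype_le N) (Subgroup.map_subtype_le _)) fun x hx => ?_
  exact ⟨⟨x, hx.2⟩, le_piCore (N := (piCore π G).subgroupOf N)
    (Pi.isPiNum_card_subgroupOf (isPiNum_card π) N) hx.1, rfl⟩

/-- For any subgroup `H`, `O_π(G) ∩ H ≤ O_π(H)`. -/
theorem subgroupOf_le [Finite G] (H : Subgroup G) : (piCore π G).subgroupOf H ≤ piCore π H :=
  le_piCore (Pi.isPiNum_card_subgroupOf (isPiNum_card π) H)

/-- A `π`-subgroup of `M` normalised by `M` lies in `O_π(M)` (as a subgroup of `G`). -/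
theorem le_map_subtype {N M : Subgroup G} (hN : N ≤ M)
    (hM : M ≤ Subgroup.normalizer (N : Set G)) (h : IsPiNum π (Nat.card N)) :
    N ≤ (piCore π M).map M.subtype := by
  have := Pi.normal_subgroupOf_of_le_normalizer hM
  intro x hx
  exact ⟨⟨x, hN hx⟩, le_piCore (N := N.subgroupOf M) (Pi.isPiNum_card_subgroupOf h M) hx, rfl⟩

theorem isPiNum_card_map_subtype [Finite G] (π : Set ℕ) (M : Subgroup G) :
    IsPiNum π (Nat.card ((piCore π M).map M.subtype)) :=
  Pi.isPiNum_card_map (isPiNum_card π) _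

/-- The preimage of the `π`-core under a surjection with `π`-kernel is the `π`-core. -/
theorem comap_of_surjective [Finite G] {G' : Type*} [Group G'] {f : G →* G'}
    (hf : Function.Surjective f) (hker : IsPiNum π (Nat.card f.ker)) :
    (piCore π G').comap f = piCore π G := by
  have : Finite G' := Finite.of_surjective f hf
  refine le_antisymm (le_piCore ?_) (Subgroup.map_le_iff_le_comap.mp (map_le_of_surjective hf))
  rw [Pi.card_comap_of_surjective hf]
  exact hker.mul (isPiNum_card π)

/-- `O_π(G / O_π(G)) = 1`. -/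
theorem piCore_quotient_eq_bot [Finite G] (π : Set ℕ) : piCore π (G ⧸ piCore π G) = ⊥ := by
  have h := comap_of_surjective (π := π) (QuotientGroup.mk'_surjective (piCore π G))
    (by rw [QuotientGroup.ker_mk']; exact isPiNum_card π)
  rw [← Subgroup.map_comap_eq_self_of_surjective (QuotientGroup.mk'_surjective (piCore π G))
    (piCore π (G ⧸ piCore π G)), h, Subgroup.map_eq_bot_iff, QuotientGroup.ker_mk']

theorem piCore_singleton [Finite G] {p : ℕ} (hp : p.Prime) : piCore {p} G = pCore p G := by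
  unfold piCore pCore
  congr 1
  ext N
  exact and_congr Iff.rfl (Pi.isPGroup_iff_isPiNum hp).symm

theorem piCore_compl_singleton {p : ℕ} (hp : p.Prime) : piCore {p}ᶜ G = pPrimeCore p G := by
  unfold piCore pPrimeCore
  congr 1
  ext N
  exact and_congr Iff.rfl (IsPiNum.compl_singleton_iff_coprime hp)

theorem disjoint_compl [Finite G] (π : Set ℕ) : Disjoint (piCore π G) (piCore πᶜ G) :=
  Pi.disjoint_of_isPiNum (isPiNum_card π) (isPiNum_card πᶜ)

end PiCore

end CL
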