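import Cfsg.Agent.Solv.Frattini

/-!
# The Frattini subgroup of a finite `p`-group; Burnside's basis theorem
-/

namespace CL

open Subgroup Cfsg
open scoped commutatorElement

variable {G : Type*} [Group G] {H : Type*} [Group H] {p : ℕ}

/-! ### Elementary abelian groups -/

theorem exists_isCompl_addSubgroup_of_zmod {A : Type*} [AddCommGroup A] [Fact p.Prime]
    [Module (ZMod p) A] (B : AddSubgroup A) : ∃ C : AddSubgroup A, IsCompl B C := by
  obtain ⟨C, hC⟩ := exists_isCompl (AddSubgroup.toZModSubmodule p B)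
  exact ⟨(AddSubgroup.toZModSubmodule p).symm C,
    (AddSubgroup.toZModSubmodule p).isCompl_iff.mpr (by simpa using hC)⟩

theorem exists_isCompl_of_elementary_commGroup {A : Type*} [CommGroup A] [Fact p.Prime]
    (h : ∀ x : A, x ^ p = 1) (B : Subgroup A) : ∃ C : Subgroup A, IsCompl B C := by
  let _ : Module (ZMod p) (Additive A) := AddCommGroup.zmodModule fun x => h (Additive.toMul x)
  obtain ⟨C, hC⟩ := exists_isCompl_addSubgroup_of_zmod (p := p) (Subgroup.toAddSubgroup B)
  exact ⟨Subgroup.toAddSubgroup.symm C, Subgroup.toAddSubgroup.isCompl_iff.mpr (by simpa using hC)⟩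

/-- In an elementary abelian group every subgroup has a complement. -/
theorem exists_isCompl_of_elementary [IsMulCommutative G] [Fact p.Prime]
    (h : ∀ x : G, x ^ p = 1) (A : Subgroup G) : ∃ B : Subgroup G, IsCompl A B :=
  @exists_isCompl_of_elementary_commGroup p G
    { (inferInstance : Group G) with mul_comm := mul_comm' } _ h A

theorem exists_isComplement'_of_elementary [IsMulCommutative G] [Fact p.Prime]
    (h : ∀ x : G, x ^ p = 1) (A : Subgroup G) : ∃ B : Subgroup G, IsComplement' A B := by
  obtain ⟨B, hB⟩ := exists_isCompl_of_elementary h A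
  exact ⟨B, isComplement'_of_inf_eq_bot_of_sup_eq_top hB.inf_eq_bot hB.sup_eq_top⟩

/-- Complements inside an elementary abelian subgroup `V` of a group. -/
theorem exists_compl_of_isElementaryAbelian [Fact p.Prime] {V A : Subgroup G}
    (hV : IsElementaryAbelian p V) (hA : A ≤ V) :
    ∃ B : Subgroup G, B ≤ V ∧ A ⊓ B = ⊥ ∧ A ⊔ B = V := by
  have := hV.1
  obtain ⟨B, hB⟩ := exists_isCompl_of_elementary (G := V) (p := p)
    (fun x => Subtype.ext (hV.2 x x.2)) (A.subgroupOf V)
  refine ⟨B.map V.subtype, map_subtype_le _, ?_, ?_⟩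
  · rw [← map_subgroupOf_eq_of_le hA, ← map_inf _ _ _ V.subtype_injective, hB.inf_eq_bot,
      Subgroup.map_bot]
  · rw [← map_subgroupOf_eq_of_le hA, ← Subgroup.map_sup, hB.sup_eq_top,
      ← MonoidHom.range_eq_map, range_subtype]

theorem isElementaryAbelian_of_le {V A : Subgroup G} (hV : IsElementaryAbelian p V)
    (hA : A ≤ V) : IsElementaryAbelian p A :=
  ⟨le_centralizer_iff_isMulCommutative.mp (hA.trans
    ((le_centralizer_iff_isMulCommutative.mpr hV.1).trans (centralizer_le hA))),
    fun a ha => hV.2 a (hA ha)⟩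

theorem isElementaryAbelian_map {V : Subgroup G} (hV : IsElementaryAbelian p V) (f : G →* H) :
    IsElementaryAbelian p (V.map f) := by
  have := hV.1
  refine ⟨inferInstance, ?_⟩
  rintro _ ⟨a, ha, rfl⟩
  rw [← map_pow, hV.2 a ha, map_one]

theorem isElementaryAbelian_bot : IsElementaryAbelian p (⊥ : Subgroup G) :=
  ⟨inferInstance, fun a ha => by rw [mem_bot.mp ha, one_pow]⟩

theorem isElementaryAbelian_top_iff :
    IsElementaryAbelian p (⊤ : Subgroup G) ↔ IsMulCommutative G ∧ ∀ x : G, x ^ p = 1 :=
  ⟨fun h => ⟨⟨⟨fun a b => congrArg Subtype.val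
      (h.1.is_comm.comm (⟨a, mem_top a⟩ : (⊤ : Subgroup G)) ⟨b, mem_top b⟩)⟩⟩,
      fun x => h.2 x (mem_top x)⟩,
    fun h => ⟨have := h.1; inferInstance, fun x _ => h.2 x⟩⟩

theorem isElementaryAbelian_iff_top {V : Subgroup G} :
    IsElementaryAbelian p V ↔ IsElementaryAbelian p (⊤ : Subgroup V) := by
  rw [isElementaryAbelian_top_iff]
  exact and_congr_right fun _ =>
    ⟨fun h x => Subtype.ext (h x x.2), fun h x hx => congrArg Subtype.val (h ⟨x, hx⟩)⟩

/-- The Frattini subgroup of a finite elementary abelian group is trivial. -/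
theorem frattini_eq_bot_of_elementary [Finite G] [IsMulCommutative G] [Fact p.Prime]
    (h : ∀ x : G, x ^ p = 1) : frattini G = ⊥ := by
  obtain ⟨B, hB⟩ := exists_isCompl_of_elementary h (frattini G)
  have : B = ⊤ := frattini_nongenerating (by rw [sup_comm, hB.sup_eq_top])
  simpa [this] using hB.inf_eq_bot

/-! ### `p`-groups -/

theorem commutator_le_frattini_of_isPGroup [Finite G] [Fact p.Prime] (hG : IsPGroup p G) :
    commutator G ≤ frattini G :=
  have := hG.isNilpotent
  commutator_le_frattini

theorem pow_mem_frattini [Finite G] [Fact p.Prime] (hG : IsPGroup p G) (x : G) :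
    x ^ p ∈ frattini G := by
  rw [mem_frattini_iff]
  intro M hM
  have := isNilpotent_iff_coatom_normal.mp hG.isNilpotent M hM
  rw [← index_eq_of_isCoatom_of_isPGroup hG hM]
  exact pow_index_mem M x

/-- `Φ(G)` lies in every subgroup containing all commutators and `p`-th powers
(`G` any finite group). -/
theorem frattini_le_of_commutator_le_of_pow_mem [Finite G] [Fact p.Prime] {N : Subgroup G}
    (hcomm : commutator G ≤ N) (hpow : ∀ x : G, x ^ p ∈ N) : frattini G ≤ N := by
  have := normal_of_commutator_le hcomm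
  have : IsMulCommutative (G ⧸ N) := Normal.quotient_commutative_iff_commutator_le.mpr hcomm
  have h : frattini (G ⧸ N) = ⊥ := frattini_eq_bot_of_elementary (p := p) fun x => by
    obtain ⟨x, rfl⟩ := QuotientGroup.mk_surjective x
    rw [← QuotientGroup.mk_pow, QuotientGroup.eq_one_iff]
    exact hpow x
  have h1 := frattini_le_comap_frattini_of_surjective (QuotientGroup.mk'_surjective N)
  rwa [h, MonoidHom.comap_bot, QuotientGroup.ker_mk'] at h1

theorem frattini_le_iff_of_isPGroup [Finite G] [Fact p.Prime] (hG : IsPGroup p G)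
    {N : Subgroup G} : frattini G ≤ N ↔ commutator G ≤ N ∧ ∀ x : G, x ^ p ∈ N :=
  ⟨fun h => ⟨(commutator_le_frattini_of_isPGroup hG).trans h, fun x => h (pow_mem_frattini hG x)⟩,
    fun h => frattini_le_of_commutator_le_of_pow_mem h.1 h.2⟩

/-- `Φ(G) = G' G^p` for a finite `p`-group. -/
theorem frattini_eq_commutator_sup_closure [Finite G] [Fact p.Prime] (hG : IsPGroup p G) :
    frattini G = commutator G ⊔ closure (Set.range fun x : G => x ^ p) := by
  refine le_antisymm (frattini_le_of_commutator_le_of_pow_mem (p := p) le_sup_left fun x =>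
    mem_sup_right (subset_closure ⟨x, rfl⟩)) (sup_le (commutator_le_frattini_of_isPGroup hG) ?_)
  rw [closure_le]
  rintro _ ⟨x, rfl⟩
  exact pow_mem_frattini hG x

theorem frattini_eq_bot_iff_of_isPGroup [Finite G] [Fact p.Prime] (hG : IsPGroup p G) :
    frattini G = ⊥ ↔ IsMulCommutative G ∧ ∀ x : G, x ^ p = 1 := by
  rw [eq_bot_iff, frattini_le_iff_of_isPGroup hG, le_bot_iff, commutator_eq_bot_iff]
  simp only [mem_bot]

theorem isMulCommutative_quotient_frattini [Finite G] [Group.IsNilpotent G] :
    IsMulCommutative (G ⧸ frattini G) :=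
  Normal.quotient_commutative_iff_commutator_le.mpr commutator_le_frattini

theorem pow_eq_one_quotient_frattini [Finite G] [Fact p.Prime] (hG : IsPGroup p G)
    (x : G ⧸ frattini G) : x ^ p = 1 := by
  obtain ⟨x, rfl⟩ := QuotientGroup.mk_surjective x
  rw [← QuotientGroup.mk_pow, QuotientGroup.eq_one_iff]
  exact pow_mem_frattini hG x

theorem isElementaryAbelian_quotient_frattini [Finite G] [Fact p.Prime] (hG : IsPGroup p G) :
    IsElementaryAbelian p (⊤ : Subgroup (G ⧸ frattini G)) :=
  have := hG.isNilpotent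
  isElementaryAbelian_top_iff.mpr
    ⟨isMulCommutative_quotient_frattini, pow_eq_one_quotient_frattini hG⟩

/-- Any homomorphism into a finite `p`-group from a finite group `G` pulls `Φ(H)` back to a
subgroup containing `Φ(G)`. -/
theorem frattini_le_comap_of_isPGroup [Finite G] [Finite H] [Fact p.Prime] (hH : IsPGroup p H)
    (f : G →* H) : frattini G ≤ (frattini H).comap f := by
  refine frattini_le_of_commutator_le_of_pow_mem (p := p) ?_ fun x => ?_
  · rw [← map_le_iff_le_comap, commutator_def, map_commutator]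
    exact (commutator_mono le_top le_top).trans (commutator_le_frattini_of_isPGroup hH)
  · rw [mem_comap, map_pow]
    exact pow_mem_frattini hH _

/-- In a finite `p`-group `Φ(K) ≤ Φ(G)` for every subgroup `K`. -/
theorem map_subtype_frattini_le_of_isPGroup [Finite G] [Fact p.Prime] (hG : IsPGroup p G)
    (K : Subgroup G) : (frattini K).map K.subtype ≤ frattini G :=
  map_le_iff_le_comap.mpr (frattini_le_comap_of_isPGroup hG K.subtype)

/-- `Φ(K) ≤ Φ(L)` for `K ≤ L` with `L` a `p`-subgroup. -/
theorem map_subtype_frattini_mono [Finite G] [Fact p.Prime] {K L : Subgroup G} (hL : IsPGroup p L)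
    (h : K ≤ L) : (frattini K).map K.subtype ≤ (frattini L).map L.subtype := by
  have := map_mono (f := L.subtype)
    (map_le_iff_le_comap.mpr (frattini_le_comap_of_isPGroup hL (inclusion h)))
  rwa [map_map, subtype_comp_inclusion] at this

/-- For a finite `p`-group, the image of `Φ(G)` under a surjection is `Φ(H)`. -/
theorem map_frattini_eq_of_isPGroup [Finite G] [Fact p.Prime] (hG : IsPGroup p G) {f : G →* H}
    (hf : Function.Surjective f) : (frattini G).map f = frattini H := by
  have : Finite H := Finite.of_surjective f hf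
  refine le_antisymm (map_frattini_le hf)
    (frattini_le_of_commutator_le_of_pow_mem (p := p) ?_ fun x => ?_)
  · rw [commutator_def, ← map_top_of_surjective f hf, ← map_commutator]
    exact map_mono (commutator_le_frattini_of_isPGroup hG)
  · obtain ⟨x, rfl⟩ := hf x
    exact ⟨_, pow_mem_frattini hG x, map_pow f x p⟩

theorem commutator_le_map_frattini [Finite G] (K : Subgroup G) [Group.IsNilpotent K] :
    ⁅K, K⁆ ≤ (frattini K).map K.subtype := by
  rw [← K.map_subtype_commutator]
  exact map_mono commutator_le_frattini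

theorem pow_mem_map_frattini [Finite G] [Fact p.Prime] {K : Subgroup G} (hK : IsPGroup p K)
    {x : G} (hx : x ∈ K) : x ^ p ∈ (frattini K).map K.subtype :=
  ⟨⟨x, hx⟩ ^ p, pow_mem_frattini hK _, rfl⟩

theorem map_frattini_le_of_commutator_le_of_pow_mem [Finite G] [Fact p.Prime] {K N : Subgroup G}
    (hcomm : ⁅K, K⁆ ≤ N) (hpow : ∀ x ∈ K, x ^ p ∈ N) : (frattini K).map K.subtype ≤ N := by
  rw [map_le_iff_le_comap]
  refine frattini_le_of_commutator_le_of_pow_mem (p := p) ?_ fun x => hpow x x.2
  rw [← map_le_iff_le_comap, K.map_subtype_commutator]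
  exact hcomm

theorem map_frattini_eq_bot_iff [Finite G] [Fact p.Prime] {K : Subgroup G} (hK : IsPGroup p K) :
    (frattini K).map K.subtype = ⊥ ↔ IsElementaryAbelian p K := by
  rw [map_eq_bot_iff_of_injective _ K.subtype_injective, frattini_eq_bot_iff_of_isPGroup hK,
    isElementaryAbelian_iff_top, isElementaryAbelian_top_iff]

/-! ### Adjoining one element -/

/-- `[K ⟨x⟩ : K]` is the order of `x` modulo the normal subgroup `K`. -/
theorem relIndex_sup_zpowers (K : Subgroup G) [K.Normal] (x : G) :
    K.relIndex (K ⊔ zpowers x) = orderOf (x : G ⧸ K) := by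
  rw [relIndex_sup_left]
  conv_lhs => rw [← QuotientGroup.ker_mk' K]
  rw [relIndex_ker, MonoidHom.map_zpowers, Nat.card_zpowers]
  rfl

theorem card_sup_zpowers (K : Subgroup G) [K.Normal] (x : G) :
    Nat.card (K ⊔ zpowers x : Subgroup G) = Nat.card K * orderOf (x : G ⧸ K) := by
  rw [← relIndex_sup_zpowers, card_mul_relIndex_of_le le_sup_left]

theorem card_sup_zpowers_of_pow_mem [Fact p.Prime] (K : Subgroup G) [K.Normal] {x : G}
    (hx : x ∉ K) (hp : x ^ p ∈ K) : Nat.card (K ⊔ zpowers x : Subgroup G) = Nat.card K * p := by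
  rw [card_sup_zpowers, orderOf_eq_prime (p := p)]
  · rwa [← QuotientGroup.mk_pow, QuotientGroup.eq_one_iff]
  · rwa [Ne, QuotientGroup.eq_one_iff]

theorem card_sup_zpowers_dvd (K : Subgroup G) [K.Normal] {x : G} {n : ℕ} (hp : x ^ n ∈ K) :
    Nat.card (K ⊔ zpowers x : Subgroup G) ∣ Nat.card K * n := by
  rw [card_sup_zpowers]
  refine Nat.mul_dvd_mul_left _ (orderOf_dvd_of_pow_eq_one ?_)
  rwa [← QuotientGroup.mk_pow, QuotientGroup.eq_one_iff]

/-! ### Burnside's basis theorem -/

theorem sup_closure_insert (K : Subgroup G) (T : Set G) (x : G) :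
    K ⊔ closure (insert x T) = (K ⊔ closure T) ⊔ zpowers x := by
  rw [Set.insert_eq, Subgroup.closure_union, ← zpowers_eq_closure, sup_comm (zpowers x), sup_assoc]

/-- If `G / N` is abelian of exponent dividing `n`, then `[N ⟨T⟩ : N]` divides `n ^ |T|`. -/
theorem card_sup_closure_dvd {N : Subgroup G} (hc : commutator G ≤ N) {n : ℕ}
    (hp : ∀ x : G, x ^ n ∈ N) (T : Finset G) :
    Nat.card (N ⊔ closure (T : Set G) : Subgroup G) ∣ Nat.card N * n ^ T.card := by
  classical
  induction T using Finset.induction_on with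
  | empty => simp
  | insert x T hx ih =>
    have := normal_of_commutator_le (hc.trans (le_sup_left : N ≤ N ⊔ closure (T : Set G)))
    rw [Finset.coe_insert, sup_closure_insert, Finset.card_insert_of_notMem hx, pow_succ,
      ← mul_assoc]
    exact (card_sup_zpowers_dvd _ (mem_sup_left (hp x))).trans (Nat.mul_dvd_mul_right ih n)

/-- If `G / N` is elementary abelian, every finite set contains an independent subset
generating the same subgroup modulo `N`. -/
theorem exists_subset_card_sup_closure_eq [Fact p.Prime] {N : Subgroup G}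
    (hc : commutator G ≤ N) (hp : ∀ x : G, x ^ p ∈ N) (S : Finset G) :
    ∃ T ⊆ S, N ⊔ closure (T : Set G) = N ⊔ closure (S : Set G) ∧
      Nat.card (N ⊔ closure (T : Set G) : Subgroup G) = Nat.card N * p ^ T.card := by
  classical
  induction S using Finset.induction_on with
  | empty => exact ⟨∅, le_rfl, rfl, by simp⟩
  | insert x S hx ih =>
    obtain ⟨T, hTS, h1, h2⟩ := ih
    by_cases hxT : x ∈ N ⊔ closure (T : Set G)
    · refine ⟨T, hTS.trans (Finset.subset_insert _ _), ?_, h2⟩
      rw [Finset.coe_insert, sup_closure_insert, ← h1, left_eq_sup]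
      exact zpowers_le.mpr hxT
    · have := normal_of_commutator_le (hc.trans (le_sup_left : N ≤ N ⊔ closure (T : Set G)))
      refine ⟨insert x T, Finset.insert_subset_insert _ hTS, ?_, ?_⟩
      · rw [Finset.coe_insert, Finset.coe_insert, sup_closure_insert, sup_closure_insert, h1]
      · rw [Finset.coe_insert, sup_closure_insert,
          Finset.card_insert_of_notMem (fun h => hx (hTS h)), pow_succ, ← mul_assoc, ← h2]
        exact card_sup_zpowers_of_pow_mem _ hxT (mem_sup_left (hp x))

/-- Burnside's basis theorem, first half. -/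
theorem exists_subset_card_eq_of_closure_eq_top [Finite G] [hp : Fact p.Prime] (hG : IsPGroup p G)
    {n : ℕ} (hn : (frattini G).index = p ^ n) (S : Finset G) (hS : closure (S : Set G) = ⊤) :
    ∃ T : Finset G, T ⊆ S ∧ T.card = n ∧ closure (T : Set G) = ⊤ := by
  obtain ⟨T, hTS, h1, h2⟩ := exists_subset_card_sup_closure_eq
    (commutator_le_frattini_of_isPGroup hG) (pow_mem_frattini hG) S
  rw [hS, sup_top_eq] at h1
  rw [h1, card_top, ← (frattini G).card_mul_index, hn] at h2
  exact ⟨T, hTS, (Nat.pow_right_injective hp.out.two_le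
    (Nat.eq_of_mul_eq_mul_left Nat.card_pos h2)).symm,
    frattini_nongenerating (by rwa [sup_comm])⟩

/-- Burnside's basis theorem, second half. -/
theorem le_card_of_closure_eq_top [Finite G] [hp : Fact p.Prime] (hG : IsPGroup p G)
    {n : ℕ} (hn : (frattini G).index = p ^ n) (T : Finset G) (hT : closure (T : Set G) = ⊤) :
    n ≤ T.card := by
  have h := card_sup_closure_dvd (commutator_le_frattini_of_isPGroup hG) (pow_mem_frattini hG) T
  rw [hT, sup_top_eq, card_top, ← (frattini G).card_mul_index, hn] at h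
  exact (Nat.pow_dvd_pow_iff_le_right hp.out.one_lt).mp
    (Nat.dvd_of_mul_dvd_mul_left Nat.card_pos h)

/-- A finite `p`-group generated by `T` has `[G : Φ(G)] ∣ p ^ |T|`. -/
theorem index_frattini_dvd_pow_card [Finite G] [Fact p.Prime] (hG : IsPGroup p G)
    (T : Finset G) (hT : closure (T : Set G) = ⊤) : (frattini G).index ∣ p ^ T.card := by
  obtain ⟨n, hn⟩ := hG.index (frattini G)
  rw [hn]
  exact pow_dvd_pow p (le_card_of_closure_eq_top hG hn T hT)

/-- A finite `p`-group with `[G : Φ(G)] = p ^ n` has a generating set of size `n`. -/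
theorem exists_generators_card_eq [Finite G] [Fact p.Prime] (hG : IsPGroup p G)
    {n : ℕ} (hn : (frattini G).index = p ^ n) :
    ∃ T : Finset G, T.card = n ∧ closure (T : Set G) = ⊤ := by
  have := Fintype.ofFinite G
  obtain ⟨T, -, h⟩ := exists_subset_card_eq_of_closure_eq_top hG hn Finset.univ (by simp)
  exact ⟨T, h⟩

/-- A finite `p`-group is cyclic iff `[G : Φ(G)] ∣ p`. -/
theorem isCyclic_iff_index_frattini_dvd [Finite G] [hp : Fact p.Prime] (hG : IsPGroup p G) :
    IsCyclic G ↔ (frattini G).index ∣ p := by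
  constructor
  · intro h
    obtain ⟨x, hx⟩ := isCyclic_iff_exists_zpowers_eq_top.mp h
    simpa using index_frattini_dvd_pow_card hG {x} (by simpa [zpowers_eq_closure] using hx)
  · intro h
    have : IsCyclic (G ⧸ frattini G) := isCyclic_of_card_dvd_prime h
    exact isCyclic_of_isCyclic_quotient_frattini

/-- A finite non-cyclic `p`-group has `p ^ 2 ∣ [G : Φ(G)]`. -/
theorem sq_dvd_index_frattini_of_not_isCyclic [Finite G] [hp : Fact p.Prime] (hG : IsPGroup p G)
    (h : ¬ IsCyclic G) : p ^ 2 ∣ (frattini G).index := by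
  obtain ⟨n, hn⟩ := hG.index (frattini G)
  rw [isCyclic_iff_index_frattini_dvd hG, hn] at h
  rw [hn]
  refine pow_dvd_pow p ?_
  by_contra! hlt
  exact h (by simpa using pow_dvd_pow p (Nat.lt_succ_iff.mp hlt))

/-- A finite nilpotent group with cyclic abelianisation `G / G'` is cyclic. -/
theorem isCyclic_of_isCyclic_quotient_commutator [Finite G] [Group.IsNilpotent G]
    [IsCyclic (G ⧸ commutator G)] : IsCyclic G := by
  have : IsCyclic (G ⧸ frattini G) :=
    isCyclic_of_surjective (QuotientGroup.map (commutator G) (frattini G) (MonoidHom.id G)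
      commutator_le_frattini) fun x => by
        obtain ⟨x, rfl⟩ := QuotientGroup.mk_surjective x
        exact ⟨x, rfl⟩
  exact isCyclic_of_isCyclic_quotient_frattini

end CL
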