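import Cfsg.Agent.Base

/-!
Universal property and recognition of the generalized quaternion groups `QuaternionGroup m`.
-/

namespace CL

/-- `a ^ i` for `i : ZMod n`, when `a ^ n = 1`. -/
theorem pow_zmod_val_add {G : Type*} [Monoid G] {n : ℕ} [NeZero n] {a : G} (ha : a ^ n = 1)
    (i j : ZMod n) : a ^ (i + j).val = a ^ i.val * a ^ j.val := by
  rw [ZMod.val_add, ← pow_add]
  conv_rhs => rw [← Nat.mod_add_div (i.val + j.val) n, pow_add, pow_mul, ha, one_pow, mul_one]

theorem pow_zmod_val_neg {G : Type*} [Group G] {n : ℕ} [NeZero n] {a : G} (ha : a ^ n = 1)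
    (i : ZMod n) : a ^ (-i).val = (a ^ i.val)⁻¹ := by
  rw [eq_inv_iff_mul_eq_one, ← pow_zmod_val_add ha]; simp

theorem pow_zmod_val_sub {G : Type*} [Group G] {n : ℕ} [NeZero n] {a : G} (ha : a ^ n = 1)
    (i j : ZMod n) : a ^ (i - j).val = a ^ i.val * (a ^ j.val)⁻¹ := by
  rw [sub_eq_add_neg, pow_zmod_val_add ha, pow_zmod_val_neg ha]

theorem pow_zmod_val_natCast {G : Type*} [Monoid G] {n : ℕ} {a : G} (ha : a ^ n = 1)
    (k : ℕ) : a ^ ((k : ZMod n)).val = a ^ k := by
  rw [ZMod.val_natCast]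
  conv_rhs => rw [← Nat.mod_add_div k n, pow_add, pow_mul, ha, one_pow, mul_one]

/-- The homomorphism out of `QuaternionGroup m` given by elements satisfying the relations. -/
def quaternionHom {G : Type*} [Group G] {m : ℕ} [NeZero m] (a b : G) (ha : a ^ (2 * m) = 1)
    (hb : b ^ 2 = a ^ m) (hab : b * a * b⁻¹ = a⁻¹) : QuaternionGroup m →* G :=
  MonoidHom.mk' (fun x => match x with
    | QuaternionGroup.a i => a ^ i.val
    | QuaternionGroup.xa i => b * a ^ i.val) (by
    have hk : ∀ k : ℕ, a ^ k * b = b * (a ^ k)⁻¹ := by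
      intro k
      have h1 : b * a ^ k * b⁻¹ = (a ^ k)⁻¹ := by rw [← conj_pow, hab, inv_pow]
      have h2 : b * (a ^ k)⁻¹ * b⁻¹ = a ^ k := by
        have := congrArg (·⁻¹) h1
        simpa [mul_assoc] using this
      calc a ^ k * b = b * (a ^ k)⁻¹ * b⁻¹ * b := by rw [h2]
        _ = b * (a ^ k)⁻¹ := by rw [inv_mul_cancel_right]
    rintro (i | i) (j | j)
    · simp only [QuaternionGroup.a_mul_a, pow_zmod_val_add ha]
    · simp only [QuaternionGroup.a_mul_xa, pow_zmod_val_sub ha]
      rw [← mul_assoc (a ^ i.val), hk, mul_assoc, ((Commute.refl a).pow_pow _ _).inv_left.eq]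
    · simp only [QuaternionGroup.xa_mul_a, pow_zmod_val_add ha, mul_assoc]
    · simp only [QuaternionGroup.xa_mul_xa, pow_zmod_val_sub ha, pow_zmod_val_add ha,
        pow_zmod_val_natCast ha]
      rw [← hb, mul_assoc b, ← mul_assoc (a ^ i.val), hk, pow_two]
      simp only [mul_assoc]
      rw [((Commute.refl a).pow_pow _ _).inv_left.eq])

@[simp] theorem quaternionHom_a {G : Type*} [Group G] {m : ℕ} [NeZero m] (a b : G)
    (ha : a ^ (2 * m) = 1) (hb : b ^ 2 = a ^ m) (hab : b * a * b⁻¹ = a⁻¹) (i : ZMod (2 * m)) :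
    quaternionHom a b ha hb hab (QuaternionGroup.a i) = a ^ i.val := rfl

@[simp] theorem quaternionHom_xa {G : Type*} [Group G] {m : ℕ} [NeZero m] (a b : G)
    (ha : a ^ (2 * m) = 1) (hb : b ^ 2 = a ^ m) (hab : b * a * b⁻¹ = a⁻¹) (i : ZMod (2 * m)) :
    quaternionHom a b ha hb hab (QuaternionGroup.xa i) = b * a ^ i.val := rfl

theorem quaternionHom_injective {G : Type*} [Group G] {m : ℕ} [NeZero m] (a b : G)
    (ha : orderOf a = 2 * m) (hb : b ^ 2 = a ^ m) (hab : b * a * b⁻¹ = a⁻¹)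
    (hba : b ∉ Subgroup.zpowers a) :
    Function.Injective (quaternionHom a b (ha ▸ pow_orderOf_eq_one a) hb hab) := by
  rw [injective_iff_map_eq_one]
  rintro (i | i) h
  · rw [quaternionHom_a, ← orderOf_dvd_iff_pow_eq_one, ha] at h
    have : i.val = 0 := Nat.eq_zero_of_dvd_of_lt h (ZMod.val_lt i)
    rw [ZMod.val_eq_zero] at this
    rw [this, QuaternionGroup.a_zero]
  · rw [quaternionHom_xa, mul_eq_one_iff_eq_inv] at h
    exact absurd (h ▸ Subgroup.inv_mem _ (Subgroup.pow_mem _ (Subgroup.mem_zpowers a) _)) hba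

theorem quaternionHom_range {G : Type*} [Group G] {m : ℕ} [NeZero m] (a b : G)
    (ha : orderOf a = 2 * m) (hb : b ^ 2 = a ^ m) (hab : b * a * b⁻¹ = a⁻¹) :
    (quaternionHom a b (ha ▸ pow_orderOf_eq_one a) hb hab).range = Subgroup.closure {a, b} := by
  have ha' : a ^ (2 * m) = 1 := ha ▸ pow_orderOf_eq_one a
  apply le_antisymm
  · have h1 : a ∈ Subgroup.closure ({a, b} : Set G) := Subgroup.subset_closure (by simp)
    have h2 : b ∈ Subgroup.closure ({a, b} : Set G) := Subgroup.subset_closure (by simp)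
    rintro _ ⟨i | i, rfl⟩
    · exact Subgroup.pow_mem _ h1 _
    · exact Subgroup.mul_mem _ h2 (Subgroup.pow_mem _ h1 _)
  · rw [Subgroup.closure_le]
    rintro x (rfl | rfl)
    · refine ⟨QuaternionGroup.a ((1 : ℕ) : ZMod (2 * m)), ?_⟩
      rw [quaternionHom_a, pow_zmod_val_natCast ha', pow_one]
    · exact ⟨QuaternionGroup.xa 0, by simp⟩

/-- Recognition of the generalized quaternion group from generators and relations. -/
theorem nonempty_mulEquiv_quaternionGroup {G : Type*} [Group G] {m : ℕ} [NeZero m] (a b : G)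
    (ha : orderOf a = 2 * m) (hb : b ^ 2 = a ^ m) (hab : b * a * b⁻¹ = a⁻¹)
    (hba : b ∉ Subgroup.zpowers a) (hgen : Subgroup.closure {a, b} = ⊤) :
    Nonempty (G ≃* QuaternionGroup m) :=
  ⟨(MulEquiv.ofBijective (quaternionHom a b (ha ▸ pow_orderOf_eq_one a) hb hab)
    ⟨quaternionHom_injective a b ha hb hab hba, by
      rw [← MonoidHom.range_eq_top, quaternionHom_range a b ha hb hab, hgen]⟩).symm⟩

/-- The subgroup generated by two elements satisfying the quaternion relations. -/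
theorem nonempty_closure_mulEquiv_quaternionGroup {G : Type*} [Group G] {m : ℕ} [NeZero m]
    (a b : G) (ha : orderOf a = 2 * m) (hb : b ^ 2 = a ^ m) (hab : b * a * b⁻¹ = a⁻¹)
    (hba : b ∉ Subgroup.zpowers a) :
    Nonempty (Subgroup.closure ({a, b} : Set G) ≃* QuaternionGroup m) :=
  ⟨((MonoidHom.ofInjective (quaternionHom_injective a b ha hb hab hba)).trans
    (MulEquiv.subgroupCongr (quaternionHom_range a b ha hb hab))).symm⟩

end CL
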