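import Cfsg.Agent.Base
import Cfsg.Agent.Solv.Quaternion

/-!
A finite `p`-group with a unique subgroup of order `p` is cyclic or generalized quaternion.
-/

namespace CL.UniqP

open Subgroup

variable {G : Type*} [Group G]

/-- `(a^i b)^m = a^(i (1 + k + ⋯ + k^(m-1))) b^m` when `b a b⁻¹ = a^k`. -/
theorem zpow_mul_pow {a b : G} {k : ℤ} (h : b * a * b⁻¹ = a ^ k) (i : ℤ) (m : ℕ) :
    (a ^ i * b) ^ m = a ^ (i * ∑ j ∈ Finset.range m, k ^ j) * b ^ m := by
  induction m with
  | zero => simp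
  | succ m ih =>
    have h1 : ∀ t : ℤ, b * a ^ t = a ^ (k * t) * b := by
      intro t
      rw [zpow_mul, ← h, conj_zpow, inv_mul_cancel_right]
    rw [pow_succ', ih, Finset.sum_range_succ', mul_assoc, ← mul_assoc b, h1, pow_succ' b,
      ← mul_assoc, ← mul_assoc, ← zpow_add, mul_assoc]
    congr 2
    simp only [pow_succ', ← Finset.mul_sum]
    ring

theorem conj_pow_eq_zpow {a b : G} {k : ℤ} (h : b * a * b⁻¹ = a ^ k) (m : ℕ) :
    b ^ m * a * (b ^ m)⁻¹ = a ^ (k ^ m) := by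
  induction m with
  | zero => simp
  | succ m ih =>
    have : b ^ (m + 1) * a * (b ^ (m + 1))⁻¹ = b * (b ^ m * a * (b ^ m)⁻¹) * b⁻¹ := by
      rw [pow_succ']; group
    rw [this, ih, ← conj_zpow, h, ← zpow_mul, pow_succ']

/-- If `g ∉ H` but some `p`-power power of `g` is in `H`, then some `p`-power power `b` of `g` is
outside `H` with `b ^ p ∈ H`. -/
theorem exists_pow_not_mem_pow_mem {p : ℕ} (H : Subgroup G) {g : G} (hg : g ∉ H) {n : ℕ}
    (hn : g ^ p ^ n ∈ H) : ∃ m : ℕ, g ^ p ^ m ∉ H ∧ (g ^ p ^ m) ^ p ∈ H := by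
  induction n with
  | zero => simp_all
  | succ n ih =>
    by_cases h : g ^ p ^ n ∈ H
    · exact ih h
    · exact ⟨n, h, by rwa [← pow_mul, ← pow_succ]⟩

section key

variable {p : ℕ} [hp : Fact p.Prime]

/-- In a group where all elements of order `p` generate the same subgroup, every element with
`x ^ p = 1` lies in every nontrivial cyclic `p`-subgroup. -/
theorem mem_zpowers_of_pow_eq_one
    (U : ∀ x y : G, x ^ p = 1 → y ^ p = 1 → x ≠ 1 → y ∈ zpowers x)
    {a : G} {n : ℕ} (ha : orderOf a = p ^ (n + 1)) {y : G} (hy : y ^ p = 1) : y ∈ zpowers a := by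
  have h1 : (a ^ p ^ n) ^ p = 1 := by
    rw [← pow_mul, ← pow_succ, ← ha, pow_orderOf_eq_one]
  have h2 : a ^ p ^ n ≠ 1 := by
    intro h
    have := orderOf_dvd_of_pow_eq_one h
    rw [ha, Nat.pow_dvd_pow_iff_le_right hp.out.one_lt] at this
    omega
  exact zpowers_le_of_mem (Subgroup.pow_mem _ (mem_zpowers a) _) (U _ _ h1 hy h2)

/-- The basic contradiction: if `1 + k + ⋯ + k^(p-1) = p u` with `u` prime to `p` and
`b ^ p = a ^ (p j)` then `b ∈ ⟨a⟩`. -/
theorem mem_zpowers_of_geom_sum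
    (U : ∀ x y : G, x ^ p = 1 → y ^ p = 1 → x ≠ 1 → y ∈ zpowers x)
    {a b : G} {n : ℕ} (ha : orderOf a = p ^ (n + 1)) {k j u : ℤ} (h : b * a * b⁻¹ = a ^ k)
    (hb : b ^ p = a ^ ((p : ℤ) * j)) (hS : ∑ t ∈ Finset.range p, k ^ t = p * u)
    (hu : ¬ (p : ℤ) ∣ u) : b ∈ zpowers a := by
  have hcop : IsCoprime u ((p : ℤ) ^ (n + 1)) :=
    IsCoprime.pow_right ((Prime.coprime_iff_not_dvd (Nat.prime_iff_prime_int.mp hp.out)).mpr hu).symm
  obtain ⟨r, s, hrs⟩ := hcop
  have key : (a ^ (-(j * r)) * b) ^ p = 1 := by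
    rw [zpow_mul_pow h, hS, hb, ← zpow_add, ← orderOf_dvd_iff_zpow_eq_one, ha]
    refine ⟨p * j * s, ?_⟩
    push_cast
    linear_combination (-(p : ℤ) * j) * hrs
  have := mem_zpowers_of_pow_eq_one U ha key
  exact (Subgroup.mul_mem_cancel_left _ (Subgroup.zpow_mem _ (mem_zpowers a) _)).mp this

/-- commuting case -/
theorem mem_zpowers_of_commute
    (U : ∀ x y : G, x ^ p = 1 → y ^ p = 1 → x ≠ 1 → y ∈ zpowers x)
    {a b : G} {n : ℕ} (ha : orderOf a = p ^ (n + 1)) (hb : b ∉ zpowers a)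
    (hbp : b ^ p ∈ zpowers a) (hab : Commute a b) : a ∈ zpowers b := by
  obtain ⟨j, hj⟩ := mem_zpowers_iff.mp hbp
  by_cases hpj : (p : ℤ) ∣ j
  · obtain ⟨j', rfl⟩ := hpj
    refine absurd (mem_zpowers_of_geom_sum U ha (k := 1) (u := 1) ?_ hj.symm (by simp) ?_) hb
    · rw [← hab.eq]; simp
    · rw [Int.natCast_dvd_ofNat, Nat.dvd_one]; exact hp.out.ne_one
  · have : a ∈ zpowers (a ^ j) := by
      rw [mem_zpowers_zpow_iff, ha, ← Int.isCoprime_iff_gcd_eq_one]
      push_cast
      exact IsCoprime.pow_right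
        ((Prime.coprime_iff_not_dvd (Nat.prime_iff_prime_int.mp hp.out)).mpr hpj).symm
    rw [hj] at this
    exact zpowers_le_of_mem (Subgroup.pow_mem _ (mem_zpowers b) _) this

/-- non-commuting case -/
theorem inverts_of_not_commute
    (U : ∀ x y : G, x ^ p = 1 → y ^ p = 1 → x ≠ 1 → y ∈ zpowers x)
    {a b : G} {n : ℕ} (ha : orderOf a = p ^ (n + 1)) (hb : b ∉ zpowers a)
    (hbp : b ^ p ∈ zpowers a) (hn : b * a * b⁻¹ ∈ zpowers a) (hab : ¬ Commute a b) :
    p = 2 ∧ b * a * b⁻¹ = a⁻¹ ∧ b ^ 2 = a ^ 2 ^ n := by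
  have hpp : Prime (p : ℤ) := Nat.prime_iff_prime_int.mp hp.out
  obtain ⟨j, hj⟩ := mem_zpowers_iff.mp hbp
  obtain ⟨k, hk⟩ := mem_zpowers_iff.mp hn
  have hk := hk.symm
  -- `k ^ p ≡ 1`
  have hkp : ((p : ℤ) ^ (n + 1)) ∣ k ^ p - 1 := by
    have h1 := conj_pow_eq_zpow hk p
    rw [← hj, ((Commute.refl a).zpow_left j).eq, mul_inv_cancel_right] at h1
    have h2 : a ^ (k ^ p - 1) = 1 := by rw [zpow_sub, ← h1]; simp
    rw [← orderOf_dvd_iff_zpow_eq_one, ha] at h2
    exact_mod_cast h2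
  -- `j (k - 1) ≡ 0`
  have hjk : ((p : ℤ) ^ (n + 1)) ∣ j * (k - 1) := by
    have h1 : b * a ^ j * b⁻¹ = a ^ j := by
      rw [hj, ← ((Commute.refl b).pow_left p).eq, mul_inv_cancel_right]
    rw [← conj_zpow, hk, ← zpow_mul] at h1
    have h2 : a ^ (j * (k - 1)) = 1 := by
      rw [mul_sub, mul_one, zpow_sub, mul_comm j k, h1]; simp
    rw [← orderOf_dvd_iff_zpow_eq_one, ha] at h2
    exact_mod_cast h2
  have hk1 : ¬ ((p : ℤ) ^ (n + 1)) ∣ k - 1 := by
    intro h
    apply hab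
    have h2 : a ^ (k - 1) = 1 := by
      rw [← orderOf_dvd_iff_zpow_eq_one, ha]; exact_mod_cast h
    rw [zpow_sub, ← hk, zpow_one, mul_inv_eq_one, mul_inv_eq_iff_eq_mul] at h2
    exact h2.symm
  have hpj : (p : ℤ) ∣ j := by
    by_contra hpj
    exact hk1 ((IsCoprime.pow_left (hpp.coprime_iff_not_dvd.mpr hpj)).dvd_of_dvd_mul_left hjk)
  obtain ⟨j', rfl⟩ := hpj
  have hpk : (p : ℤ) ∣ k - 1 := by
    have h1 : (p : ℤ) ∣ k ^ p - 1 := (dvd_pow_self _ (Nat.succ_ne_zero n)).trans hkp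
    have h2 : (p : ℤ) ∣ k ^ p - k := by
      rw [← ZMod.intCast_zmod_eq_zero_iff_dvd]
      push_cast
      rw [ZMod.pow_card, sub_self]
    have := dvd_sub h1 h2
    rwa [show k ^ p - 1 - (k ^ p - k) = k - 1 by ring] at this
  obtain ⟨t, ht⟩ := hpk
  rcases hp.out.eq_two_or_odd' with rfl | hodd
  · -- `p = 2`
    refine ⟨rfl, ?_⟩
    have hS : ∑ i ∈ Finset.range 2, k ^ i = ((2 : ℕ) : ℤ) * (t + 1) := by
      simp only [Finset.sum_range_succ, Finset.range_zero, Finset.sum_empty]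
      push_cast at ht ⊢
      linear_combination ht
    have ht1 : ((2 : ℕ) : ℤ) ∣ t + 1 := by
      by_contra h
      exact hb (mem_zpowers_of_geom_sum U ha hk hj.symm hS h)
    have htc : IsCoprime (((2 : ℕ) : ℤ) ^ (n + 1)) t := by
      refine IsCoprime.pow_left (hpp.coprime_iff_not_dvd.mpr fun h => ?_)
      have := dvd_sub ht1 h
      norm_num at this
    -- the squares of `a ^ (2 j')` and `a ^ (k + 1)` are trivial
    have h1 : (a ^ (((2 : ℕ) : ℤ) * j')) ^ 2 = 1 := by
      rw [← zpow_natCast, ← zpow_mul, ← orderOf_dvd_iff_zpow_eq_one, ha]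
      push_cast at htc hjk ht ⊢
      apply htc.dvd_of_dvd_mul_right
      rw [ht] at hjk
      rwa [show 2 * j' * 2 * t = 2 * j' * (2 * t) by ring]
    have h2 : (a ^ (k + 1)) ^ 2 = 1 := by
      rw [← zpow_natCast, ← zpow_mul, ← orderOf_dvd_iff_zpow_eq_one, ha]
      push_cast at htc hkp ht ⊢
      apply htc.dvd_of_dvd_mul_right
      rwa [show (k + 1) * 2 * t = k ^ 2 - 1 by linear_combination (-(k + 1)) * ht]
    have h3 : a ^ (((2 : ℕ) : ℤ) * j') ≠ 1 := by
      intro h
      rw [h] at hj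
      exact hb (mem_zpowers_of_pow_eq_one U ha hj.symm)
    -- an element whose square is one is `1` or the given involution
    have h4 : ∀ z y : G, z ^ 2 = 1 → z ≠ 1 → y ^ 2 = 1 → y = 1 ∨ y = z := by
      intro z y hz hz1 hy
      obtain ⟨i, hi⟩ := mem_zpowers_iff.mp (U z y hz hy hz1)
      rcases Int.even_or_odd' i with ⟨r, rfl | rfl⟩
      · left; rw [← hi, zpow_mul]; norm_cast; simp [hz]
      · right; rw [← hi, zpow_add, zpow_mul]; norm_cast; simp [hz]
    have h5 : a ^ (k + 1) = 1 := by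
      rcases h4 _ _ h1 h3 h2 with h | h
      · exact h
      · exfalso
        have h6 : (a ^ (1 : ℤ) * b) ^ 2 = 1 := by
          rw [zpow_mul_pow hk, ← hj, ← h1, pow_two, ← h]
          simp [Finset.sum_range_succ, add_comm]
        have := mem_zpowers_of_pow_eq_one U ha h6
        exact hb ((Subgroup.mul_mem_cancel_left _ (Subgroup.zpow_mem _ (mem_zpowers a) _)).mp this)
    refine ⟨?_, ?_⟩
    · rw [hk, eq_inv_iff_mul_eq_one, ← zpow_add_one, h5]
    · have h7 : (a ^ 2 ^ n) ^ 2 = 1 := by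
        rw [← pow_mul, ← pow_succ, ← ha, pow_orderOf_eq_one]
      have h8 : a ^ 2 ^ n ≠ 1 := by
        intro h
        have := orderOf_dvd_of_pow_eq_one h
        rw [ha, Nat.pow_dvd_pow_iff_le_right hp.out.one_lt] at this
        omega
      rcases h4 _ _ h7 h8 h1 with h | h
      · exact absurd h h3
      · rw [← hj, h]
  · exfalso
    have h1 := odd_sq_dvd_geom_sum₂_sub (R := ℤ) (a := 1) (b := t) (p := p) hodd
    simp only [one_pow, mul_one] at h1
    rw [show (1 : ℤ) + p * t = k by linear_combination -ht] at h1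
    obtain ⟨c, hc⟩ := h1
    refine hb (mem_zpowers_of_geom_sum U ha hk hj.symm (u := 1 + p * c) (by linear_combination hc) ?_)
    intro h
    have := (dvd_add_left (dvd_mul_right (p : ℤ) c)).mp h
    exact hpp.not_dvd_one this

end key

/-- In a finite `p`-group, between two normal subgroups `N < M` there is an element `b ∈ M \ N`
with `b ^ p ∈ N` which is central modulo `N`. -/
theorem exists_central_mod {p : ℕ} [hp : Fact p.Prime] [Finite G] (hG : IsPGroup p G)
    (N M : Subgroup G) [N.Normal] [M.Normal] (h : ¬ M ≤ N) :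
    ∃ b ∈ M, b ∉ N ∧ b ^ p ∈ N ∧ ∀ g : G, g * b * g⁻¹ * b⁻¹ ∈ N := by
  classical
  have hQ : IsPGroup p (G ⧸ N) := hG.to_quotient N
  set M' := M.map (QuotientGroup.mk' N) with hM'
  have : M'.Normal := Subgroup.Normal.map inferInstance _ (QuotientGroup.mk'_surjective N)
  have hne : M' ≠ ⊥ := by
    intro h'
    rw [hM', Subgroup.map_eq_bot_iff, QuotientGroup.ker_mk'] at h'
    exact h h'
  -- `M'` meets the centre nontrivially
  obtain ⟨z, hzM, hz1, hzc⟩ : ∃ z ∈ M', z ≠ 1 ∧ ∀ g, g * z * g⁻¹ = z := by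
    have hQ' : IsPGroup p (ConjAct (G ⧸ N)) := hQ.of_equiv ConjAct.toConjAct
    have hdvd : p ∣ Nat.card M' := by
      rcases (hQ.to_subgroup M').card_eq_or_dvd with h1 | h1
      · exact absurd (Subgroup.card_eq_one.mp h1) hne
      · exact h1
    obtain ⟨z, hz, hz1⟩ := hQ'.exists_fixed_point_of_prime_dvd_card_of_fixed_point M' hdvd
      (a := 1) (by intro g; simp)
    refine ⟨z, z.2, fun h => hz1 (Subtype.ext h.symm), fun g => ?_⟩
    have := congrArg Subtype.val (hz (ConjAct.toConjAct g))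
    simpa [ConjAct.Subgroup.val_conj_smul, ConjAct.smul_def] using this
  obtain ⟨c, hcM, rfl⟩ := hzM
  have hcN : c ∉ N := fun h => hz1 ((QuotientGroup.eq_one_iff c).mpr h)
  obtain ⟨n, hn⟩ := hG c
  obtain ⟨m, hm1, hm2⟩ := exists_pow_not_mem_pow_mem N hcN (p := p) (n := n) (hn ▸ N.one_mem)
  refine ⟨_, M.pow_mem hcM _, hm1, hm2, fun g => ?_⟩
  rw [← QuotientGroup.eq_one_iff]
  have := hzc (g : G ⧸ N)
  simp only [QuotientGroup.mk_mul, QuotientGroup.mk_inv, QuotientGroup.mk_pow, mul_inv_eq_one]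
  rw [← conj_pow]
  exact congrArg (· ^ p ^ m) this

/-- Main theorem, elementwise hypothesis. -/
theorem isCyclic_or_quaternion {p : ℕ} [hp : Fact p.Prime] [Finite G] (hG : IsPGroup p G)
    (U : ∀ x y : G, x ^ p = 1 → y ^ p = 1 → x ≠ 1 → y ∈ zpowers x) :
    IsCyclic G ∨ (p = 2 ∧ ∃ n : ℕ, 1 ≤ n ∧ Nonempty (G ≃* QuaternionGroup (2 ^ n))) := by
  classical
  rcases subsingleton_or_nontrivial G with hs | hnt
  · exact Or.inl inferInstance
  -- a normal cyclic subgroup of maximal order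
  obtain ⟨a, haN, hmax⟩ := Set.exists_max_image {a : G | (zpowers a).Normal} orderOf
    (Set.toFinite _) ⟨1, by simp only [Set.mem_ofPred_eq, zpowers_one_eq_bot]; infer_instance⟩
  have : (zpowers a).Normal := haN
  have ha1 : a ≠ 1 := by
    obtain ⟨⟨z, hz⟩, hz1⟩ := @exists_ne _ hG.center_nontrivial 1
    have hzN : (zpowers z).Normal := ⟨fun x hx g => by
      obtain ⟨i, rfl⟩ := mem_zpowers_iff.mp hx
      rw [← conj_zpow, Subgroup.mem_center_iff.mp hz g, mul_inv_cancel_right]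
      exact Subgroup.zpow_mem _ (mem_zpowers z) _⟩
    rintro rfl
    have h1 := hmax z hzN
    rw [orderOf_one] at h1
    have h2 : orderOf z = 1 := le_antisymm h1 (orderOf_pos z)
    exact hz1 (Subtype.ext (orderOf_eq_one_iff.mp h2))
  obtain ⟨n, ha⟩ : ∃ n, orderOf a = p ^ (n + 1) := by
    obtain ⟨k, hk⟩ := IsPGroup.iff_orderOf.mp hG a
    cases k with
    | zero => exact absurd (orderOf_eq_one_iff.mp (by simpa using hk)) ha1
    | succ k => exact ⟨k, hk⟩
  -- it is self-centralizing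
  have hC : ∀ g : G, Commute a g → g ∈ zpowers a := by
    have : centralizer (zpowers a : Set G) ≤ zpowers a := by
      by_contra h
      obtain ⟨b, hbC, hbN, hbp, hbc⟩ := exists_central_mod hG (zpowers a) _ h
      have hab : Commute a b := hbC a (mem_zpowers a)
      have hab' := mem_zpowers_of_commute U ha hbN hbp hab
      have hle : zpowers a ≤ zpowers b := zpowers_le_of_mem hab'
      have hbn : (zpowers b).Normal := ⟨fun x hx g => by
        obtain ⟨i, rfl⟩ := mem_zpowers_iff.mp hx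
        rw [← conj_zpow]
        refine Subgroup.zpow_mem _ ?_ _
        have := (zpowers b).mul_mem (hle (hbc g)) (mem_zpowers b)
        rwa [inv_mul_cancel_right] at this⟩
      have h1 := hmax b hbn
      rw [← Nat.card_zpowers, ← Nat.card_zpowers] at h1
      have := Subgroup.eq_of_le_of_card_ge hle h1
      exact hbN (this ▸ mem_zpowers b)
    intro g hg
    apply this
    intro x hx
    obtain ⟨i, rfl⟩ := mem_zpowers_iff.mp hx
    exact (hg.zpow_left i).eq
  by_cases htop : zpowers a = ⊤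
  · exact Or.inl (isCyclic_iff_exists_zpowers_eq_top.mpr ⟨a, htop⟩)
  right
  have key : ∀ b : G, b ∉ zpowers a → b ^ p ∈ zpowers a →
      p = 2 ∧ b * a * b⁻¹ = a⁻¹ ∧ b ^ 2 = a ^ 2 ^ n := fun b hb hbp =>
    inverts_of_not_commute U ha hb hbp (haN.conj_mem a (mem_zpowers a) b) (fun h => hb (hC b h))
  have hex : ∀ g : G, g ∉ zpowers a → ∃ m : ℕ, g ^ p ^ m ∉ zpowers a ∧ (g ^ p ^ m) ^ p ∈ zpowers a := by
    intro g hg
    obtain ⟨k, hk⟩ := hG g
    exact exists_pow_not_mem_pow_mem _ hg (p := p) (n := k) (hk ▸ (zpowers a).one_mem)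
  obtain ⟨g₀, hg₀⟩ : ∃ g, g ∉ zpowers a := by
    by_contra h
    push Not at h
    exact htop ((Subgroup.eq_top_iff' _).mpr h)
  obtain ⟨m₀, hb, hbp⟩ := hex g₀ hg₀
  set b := g₀ ^ p ^ m₀
  obtain ⟨rfl, hba, hb2⟩ := key b hb hbp
  have hn : 1 ≤ n := by
    by_contra h
    have h0 : n = 0 := by omega
    subst h0
    apply hb
    apply hC
    have : a⁻¹ = a := by
      rw [inv_eq_iff_mul_eq_one, ← pow_two, ← orderOf_dvd_iff_pow_eq_one, ha]; simp
    rw [this, mul_inv_eq_iff_eq_mul] at hba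
    exact hba.symm
  refine ⟨rfl, n, hn, ?_⟩
  -- every element outside `⟨a⟩` inverts `a`
  have hinv : ∀ g : G, g ∉ zpowers a → g * a * g⁻¹ = a⁻¹ := by
    intro g hg
    obtain ⟨m, hm1, hm2⟩ := hex g hg
    have h1 := (key _ hm1 hm2).2.1
    cases m with
    | zero => simpa using h1
    | succ m =>
      exfalso
      obtain ⟨k, hk⟩ := mem_zpowers_iff.mp (haN.conj_mem a (mem_zpowers a) (g ^ 2 ^ m))
      have h2 := conj_pow_eq_zpow hk.symm 2
      rw [← pow_mul, ← pow_succ, h1] at h2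
      have h3 : a ^ (k ^ 2 + 1) = 1 := by rw [zpow_add_one, ← h2]; simp
      rw [← orderOf_dvd_iff_zpow_eq_one, ha] at h3
      have h4 : (4 : ℤ) ∣ k ^ 2 + 1 := by
        refine Dvd.dvd.trans ?_ h3
        obtain ⟨n', rfl⟩ := Nat.exists_eq_add_of_le' hn
        exact ⟨2 ^ n', by push_cast; ring⟩
      have h5 := Int.emod_emod_of_dvd k (show (2 : ℤ) ∣ 4 by norm_num)
      rcases Int.even_or_odd' k with ⟨r, rfl | rfl⟩
      · have : (2 * r) ^ 2 + 1 = 4 * r ^ 2 + 1 := by ring
        omega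
      · have : (2 * r + 1) ^ 2 + 1 = 4 * (r ^ 2 + r) + 2 := by ring
        omega
  refine nonempty_mulEquiv_quaternionGroup a b (by rw [ha, pow_succ']) hb2 hba hb ?_
  rw [Subgroup.eq_top_iff']
  intro g
  have h1 : zpowers a ≤ closure ({a, b} : Set G) := zpowers_le_of_mem (subset_closure (by simp))
  have h2 : b ∈ closure ({a, b} : Set G) := subset_closure (by simp)
  by_cases hg : g ∈ zpowers a
  · exact h1 hg
  · have h3 : Commute a (b⁻¹ * g) := by
      have h4 : b⁻¹ * (g * a * g⁻¹) * b = a := by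
        rw [hinv g hg, ← hba]; group
      have : a * (b⁻¹ * g) = b⁻¹ * g * a := by
        conv_lhs => rw [← h4]
        group
      exact this
    have := (closure ({a, b} : Set G)).mul_mem h2 (h1 (hC _ h3))
    rwa [mul_inv_cancel_left] at this

/-- If commuting elements of order `p` always generate the same subgroup (no subgroup of type
`(p, p)`), then in a finite `p`-group all elements of order `p` generate the same subgroup. -/
theorem unique_of_commute {p : ℕ} [hp : Fact p.Prime] [Finite G] (hG : IsPGroup p G)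
    (U : ∀ x y : G, Commute x y → x ^ p = 1 → y ^ p = 1 → x ≠ 1 → y ∈ zpowers x) :
    ∀ x y : G, x ^ p = 1 → y ^ p = 1 → x ≠ 1 → y ∈ zpowers x := by
  intro x y hx hy hx1
  have : Nontrivial G := ⟨x, 1, hx1⟩
  obtain ⟨⟨c, hc⟩, hc1⟩ := @exists_ne _ hG.center_nontrivial 1
  have hc1' : c ∉ (⊥ : Subgroup G) := fun h => hc1 (Subtype.ext (Subgroup.mem_bot.mp h))
  obtain ⟨n, hn⟩ := hG c
  obtain ⟨m, hm1, hm2⟩ := exists_pow_not_mem_pow_mem ⊥ hc1' (p := p) (n := n) (hn ▸ one_mem _)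
  rw [Subgroup.mem_bot] at hm1 hm2
  have hz : ∀ g : G, Commute g (c ^ p ^ m) := fun g =>
    Commute.pow_right (Subgroup.mem_center_iff.mp hc g) _
  exact zpowers_le_of_mem (U x _ (hz x) hx hm2 hx1) (U _ y (hz y).symm hm2 hy hm1)

end CL.UniqP

namespace CL

open Subgroup

variable {G : Type*} [Group G]

/-- A finite `p`-group with at most one subgroup of order `p` is cyclic or generalized
quaternion (of order at least `8`). -/
theorem isCyclic_or_quaternion_of_unique_subgroup {p : ℕ} [hp : Fact p.Prime] [Finite G]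
    (hG : IsPGroup p G) (huniq : ∀ H K : Subgroup G, Nat.card H = p → Nat.card K = p → H = K) :
    IsCyclic G ∨ (p = 2 ∧ ∃ n : ℕ, 1 ≤ n ∧ Nonempty (G ≃* QuaternionGroup (2 ^ n))) := by
  refine UniqP.isCyclic_or_quaternion hG fun x y hx hy hx1 => ?_
  by_cases hy1 : y = 1
  · exact hy1 ▸ one_mem _
  · rw [huniq (zpowers x) (zpowers y) (by rw [Nat.card_zpowers, orderOf_eq_prime hx hx1])
      (by rw [Nat.card_zpowers, orderOf_eq_prime hy hy1])]
    exact mem_zpowers y

/-- A finite `p`-group with no subgroup of type `(p, p)` (elementwise form) is cyclic or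
generalized quaternion. -/
theorem isCyclic_or_quaternion_of_commute {p : ℕ} [hp : Fact p.Prime] [Finite G]
    (hG : IsPGroup p G)
    (U : ∀ x y : G, Commute x y → x ^ p = 1 → y ^ p = 1 → x ≠ 1 → y ∈ zpowers x) :
    IsCyclic G ∨ (p = 2 ∧ ∃ n : ℕ, 1 ≤ n ∧ Nonempty (G ≃* QuaternionGroup (2 ^ n))) :=
  UniqP.isCyclic_or_quaternion hG (UniqP.unique_of_commute hG U)

/-- A finite `p`-group all of whose elementary abelian subgroups are cyclic is cyclic or
generalized quaternion. -/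
theorem isCyclic_or_quaternion_of_forall_elementary {p : ℕ} [hp : Fact p.Prime] [Finite G]
    (hG : IsPGroup p G)
    (h : ∀ A : Subgroup G, IsMulCommutative A → (∀ a ∈ A, a ^ p = 1) → IsCyclic A) :
    IsCyclic G ∨ (p = 2 ∧ ∃ n : ℕ, 1 ≤ n ∧ Nonempty (G ≃* QuaternionGroup (2 ^ n))) := by
  refine isCyclic_or_quaternion_of_commute hG fun x y hxy hx hy hx1 => ?_
  have hcomm : ∀ a ∈ ({x, y} : Set G), ∀ b ∈ ({x, y} : Set G), a * b = b * a := by
    rintro a (rfl | rfl) b (rfl | rfl)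
    · rfl
    · exact hxy.eq
    · exact hxy.symm.eq
    · rfl
  have hA : IsMulCommutative (closure ({x, y} : Set G)) := isMulCommutative_closure hcomm
  have hexp : ∀ a ∈ closure ({x, y} : Set G), a ^ p = 1 := by
    intro a ha
    induction ha using closure_induction with
    | mem a ha => rcases ha with rfl | rfl <;> assumption
    | one => simp
    | mul a b ha hb iha ihb =>
      have : Commute a b := congrArg Subtype.val (hA.is_comm.comm ⟨a, ha⟩ ⟨b, hb⟩)
      rw [this.mul_pow, iha, ihb, one_mul]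
    | inv a _ iha => rw [inv_pow, iha, inv_one]
  obtain ⟨g, hg⟩ := (Subgroup.isCyclic_iff_exists_zpowers_eq_top _).mp (h _ hA hexp)
  have hxg : x ∈ zpowers g := hg ▸ subset_closure (by simp)
  have hyg : y ∈ zpowers g := hg ▸ subset_closure (by simp)
  have hgp : g ^ p = 1 := hexp g (hg ▸ mem_zpowers g)
  have hle : zpowers x ≤ zpowers g := zpowers_le_of_mem hxg
  have : zpowers x = zpowers g := by
    apply Subgroup.eq_of_le_of_card_ge hle
    rw [Nat.card_zpowers, Nat.card_zpowers, orderOf_eq_prime hx hx1]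
    exact Nat.le_of_dvd hp.out.pos (orderOf_dvd_of_pow_eq_one hgp)
  exact this ▸ hyg

/-- For odd `p`, a finite `p`-group all of whose elementary abelian subgroups are cyclic is
cyclic. -/
theorem isCyclic_of_odd_of_forall_elementary {p : ℕ} [hp : Fact p.Prime] [Finite G]
    (hG : IsPGroup p G) (hp2 : p ≠ 2)
    (h : ∀ A : Subgroup G, IsMulCommutative A → (∀ a ∈ A, a ^ p = 1) → IsCyclic A) :
    IsCyclic G :=
  (isCyclic_or_quaternion_of_forall_elementary hG h).resolve_right fun h => hp2 h.1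

/-- For odd `p`, a finite `p`-group with no subgroup of type `(p, p)` (elementwise form) is
cyclic. -/
theorem isCyclic_of_odd_of_commute {p : ℕ} [hp : Fact p.Prime] [Finite G]
    (hG : IsPGroup p G) (hp2 : p ≠ 2)
    (U : ∀ x y : G, Commute x y → x ^ p = 1 → y ^ p = 1 → x ≠ 1 → y ∈ zpowers x) :
    IsCyclic G :=
  (isCyclic_or_quaternion_of_commute hG U).resolve_right fun h => hp2 h.1

/-- A finite abelian `p`-group with no subgroup of type `(p, p)` (elementwise form) is cyclic. -/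
theorem isCyclic_of_isMulCommutative_of_unique {p : ℕ} [hp : Fact p.Prime] [Finite G]
    [hc : IsMulCommutative G] (hG : IsPGroup p G)
    (U : ∀ x y : G, x ^ p = 1 → y ^ p = 1 → x ≠ 1 → y ∈ zpowers x) : IsCyclic G := by
  rcases UniqP.isCyclic_or_quaternion hG U with h | ⟨-, n, hn, ⟨e⟩⟩
  · exact h
  · exfalso
    have h1 := hc.is_comm.comm (e.symm (QuaternionGroup.a 1)) (e.symm (QuaternionGroup.xa 0))
    rw [← map_mul, ← map_mul, e.symm.apply_eq_iff_eq] at h1
    simp only [QuaternionGroup.a_mul_xa, QuaternionGroup.xa_mul_a, zero_sub, zero_add,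
      QuaternionGroup.xa.injEq] at h1
    have h2 : ((2 : ℕ) : ZMod (2 * 2 ^ n)) = 0 := by push_cast; linear_combination -h1
    rw [ZMod.natCast_eq_zero_iff] at h2
    have h3 := Nat.le_of_dvd (by norm_num) h2
    have h4 : 2 ^ 1 ≤ 2 ^ n := Nat.pow_le_pow_right (by norm_num) hn
    omega

end CL
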