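import Cfsg.Agent.Solv.Core

/-!
# The cores `O_{p'}(G)` and `O_π(G)`

API for `Cfsg.pPrimeCore` and `Cfsg.piCore` (finite groups).
-/

namespace CL

open Subgroup Cfsg

universe u v

section piCore

variable {G : Type u} [Group G] {H : Type v} [Group H] {π : Set ℕ}

/-- `n` is a `π`-number: all its prime divisors lie in `π`. -/
def IsPiNumber (π : Set ℕ) (n : ℕ) : Prop := ∀ p : ℕ, p.Prime → p ∣ n → p ∈ π

theorem IsPiNumber.of_dvd {m n : ℕ} (h : IsPiNumber π n) (hmn : m ∣ n) : IsPiNumber π m :=
  fun p hp hd => h p hp (hd.trans hmn)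

theorem IsPiNumber.mul {m n : ℕ} (hm : IsPiNumber π m) (hn : IsPiNumber π n) :
    IsPiNumber π (m * n) :=
  fun p hp hd => (hp.dvd_mul.mp hd).elim (hm p hp) (hn p hp)

theorem isPiNumber_one (π : Set ℕ) : IsPiNumber π 1 :=
  fun _ hp hd => absurd (Nat.dvd_one.mp hd) hp.ne_one

theorem IsPiNumber.mono {σ : Set ℕ} {n : ℕ} (h : IsPiNumber π n) (hπ : π ⊆ σ) :
    IsPiNumber σ n := fun p hp hd => hπ (h p hp hd)

theorem IsPiNumber.coprime {m n : ℕ} (hm : IsPiNumber π m) (hn : IsPiNumber πᶜ n) :
    m.Coprime n :=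
  Nat.coprime_of_dvd fun p hp h1 h2 => hn p hp h2 (hm p hp h1)

theorem isPiNumber_compl_singleton_iff {p n : ℕ} (hp : p.Prime) :
    IsPiNumber {p}ᶜ n ↔ n.Coprime p := by
  rw [Nat.coprime_comm, hp.coprime_iff_not_dvd]
  refine ⟨fun h hd => h p hp hd rfl, fun h q _ hd hqp => h ?_⟩
  rw [Set.mem_singleton_iff.mp hqp] at hd
  exact hd

theorem isPiNumber_singleton_iff_isPGroup [Finite G] {p : ℕ} [hp : Fact p.Prime] :
    IsPiNumber {p} (Nat.card G) ↔ IsPGroup p G := by
  rw [IsPGroup.iff_card]
  constructor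
  · intro h
    exact ⟨_, Nat.eq_prime_pow_of_unique_prime_dvd Nat.card_pos.ne' fun hq hd => h _ hq hd⟩
  · rintro ⟨n, hn⟩ q hq hd
    rw [hn] at hd
    exact (Nat.prime_dvd_prime_iff_eq hq hp.out).mp (hq.dvd_of_dvd_pow hd)

theorem piCore_isPiNumber (π : Set ℕ) (G : Type u) [Group G] [Finite G] :
    IsPiNumber π (Nat.card (piCore π G)) := by
  refine (sSup_subgroup_induction _
    (fun A : Subgroup G => A.Normal ∧ IsPiNumber π (Nat.card A)) ⟨inferInstance, ?_⟩ ?_
    (fun A hA => hA)).2
  · rw [card_bot]; exact isPiNumber_one π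
  · rintro A B ⟨hA, hA'⟩ ⟨hB, hB'⟩
    exact ⟨inferInstance, (hA'.mul hB').of_dvd (card_sup_dvd_mul A B)⟩

theorem mem_of_dvd_card_piCore [Finite G] {p : ℕ} (hp : p.Prime)
    (h : p ∣ Nat.card (piCore π G)) : p ∈ π := piCore_isPiNumber π G p hp h

theorem le_piCore {N : Subgroup G} [hN : N.Normal] (h : IsPiNumber π (Nat.card N)) :
    N ≤ piCore π G := le_sSup ⟨hN, h⟩

theorem le_piCore_iff [Finite G] {N : Subgroup G} [N.Normal] :
    N ≤ piCore π G ↔ IsPiNumber π (Nat.card N) :=
  ⟨fun h => (piCore_isPiNumber π G).of_dvd (card_dvd_of_le h), le_piCore⟩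

theorem piCore_mono {σ : Set ℕ} (h : π ⊆ σ) : piCore π G ≤ piCore σ G :=
  sSup_le_sSup fun _ hN => ⟨hN.1, fun p hp hd => h (hN.2 p hp hd)⟩

theorem piCore_eq_top_iff [Finite G] : piCore π G = ⊤ ↔ IsPiNumber π (Nat.card G) := by
  rw [eq_top_iff, le_piCore_iff, card_top]

theorem piCore_eq_bot_iff [Finite G] :
    piCore π G = ⊥ ↔ ∀ N : Subgroup G, N.Normal → IsPiNumber π (Nat.card N) → N = ⊥ :=
  ⟨fun h _ _ hN => le_bot_iff.mp (h ▸ le_piCore hN),
    fun h => h _ inferInstance (piCore_isPiNumber π G)⟩

theorem map_piCore_le [Finite G] {f : G →* H} (hf : Function.Surjective f) :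
    (piCore π G).map f ≤ piCore π H :=
  haveI : ((piCore π G).map f).Normal := Normal.map inferInstance f hf
  le_piCore ((piCore_isPiNumber π G).of_dvd (card_map_dvd _ f))

theorem piCore_le_comap [Finite G] {f : G →* H} (hf : Function.Surjective f) :
    piCore π G ≤ (piCore π H).comap f := map_le_iff_le_comap.mp (map_piCore_le hf)

theorem comap_piCore_le [Finite H] (f : G →* H) (hker : IsPiNumber π (Nat.card f.ker)) :
    (piCore π H).comap f ≤ piCore π G :=
  le_piCore ((hker.mul (piCore_isPiNumber π H)).of_dvd (card_comap_dvd f _))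

theorem comap_piCore_eq [Finite G] {f : G →* H} (hf : Function.Surjective f)
    (hker : IsPiNumber π (Nat.card f.ker)) : (piCore π H).comap f = piCore π G :=
  haveI : Finite H := Finite.of_surjective f hf
  le_antisymm (comap_piCore_le f hker) (piCore_le_comap hf)

theorem map_piCore_eq [Finite G] {f : G →* H} (hf : Function.Surjective f)
    (hker : IsPiNumber π (Nat.card f.ker)) : (piCore π G).map f = piCore π H := by
  rw [← comap_piCore_eq hf hker, map_comap_eq_self_of_surjective hf]

theorem isPiNumber_card_ker_of_injective {f : G →* H} (hf : Function.Injective f) :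
    IsPiNumber π (Nat.card f.ker) := by
  rw [(f.ker_eq_bot_iff).mpr hf, card_bot]
  exact isPiNumber_one π

theorem map_equiv_piCore [Finite G] (e : G ≃* H) :
    (piCore π G).map (e : G →* H) = piCore π H :=
  map_piCore_eq e.surjective (isPiNumber_card_ker_of_injective e.injective)

theorem comap_equiv_piCore [Finite G] (e : G ≃* H) :
    (piCore π H).comap (e : G →* H) = piCore π G :=
  comap_piCore_eq e.surjective (isPiNumber_card_ker_of_injective e.injective)

theorem piCore_characteristic (π : Set ℕ) (G : Type u) [Group G] :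
    (piCore π G).Characteristic := by
  rw [characteristic_iff_map_le]
  intro e
  rw [map_le_iff_le_comap]
  refine sSup_le fun N hN => map_le_iff_le_comap.mp ?_
  have : (N.map e.toMonoidHom).Normal := hN.1.map _ e.surjective
  exact le_piCore (IsPiNumber.of_dvd hN.2 (card_map_dvd _ _))

scoped instance instCharacteristicPiCore (π : Set ℕ) (G : Type u) [Group G] :
    (piCore π G).Characteristic := piCore_characteristic π G

theorem piCore_quotient_piCore (π : Set ℕ) (G : Type u) [Group G] [Finite G] :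
    piCore π (G ⧸ piCore π G) = ⊥ := by
  rw [← map_piCore_eq (QuotientGroup.mk'_surjective (piCore π G))
    (by rw [QuotientGroup.ker_mk']; exact piCore_isPiNumber π G), QuotientGroup.map_mk'_self]

theorem piCore_subgroupOf_le [Finite G] (K : Subgroup G) :
    (piCore π G).subgroupOf K ≤ piCore π K :=
  comap_piCore_le K.subtype (isPiNumber_card_ker_of_injective K.subtype_injective)

theorem piCore_inf_le_map_subtype [Finite G] (K : Subgroup G) :
    piCore π G ⊓ K ≤ (piCore π K).map K.subtype := by
  rw [← subgroupOf_map_subtype]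
  exact map_mono (piCore_subgroupOf_le K)

theorem isPiNumber_card_map_subtype_piCore [Finite G] (π : Set ℕ) (K : Subgroup G) :
    IsPiNumber π (Nat.card ((piCore π K).map K.subtype)) := by
  rw [card_map_subtype_eq]; exact piCore_isPiNumber π K

theorem map_subtype_piCore_le [Finite G] (N : Subgroup G) [N.Normal] :
    (piCore π N).map N.subtype ≤ piCore π G :=
  le_piCore (isPiNumber_card_map_subtype_piCore π N)

theorem map_subtype_piCore_eq [Finite G] (N : Subgroup G) [N.Normal] :
    (piCore π N).map N.subtype = piCore π G ⊓ N :=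
  le_antisymm (le_inf (map_subtype_piCore_le N) (map_subtype_le _)) (piCore_inf_le_map_subtype N)

theorem piCore_eq_subgroupOf [Finite G] (N : Subgroup G) [N.Normal] :
    piCore π N = (piCore π G).subgroupOf N :=
  le_antisymm (map_le_iff_le_comap.mp (map_subtype_piCore_le N)) (piCore_subgroupOf_le N)

theorem le_map_subtype_piCore {K N : Subgroup G} (hNK : N ≤ K) (hK : K ≤ normalizer (N : Set G))
    (hN : IsPiNumber π (Nat.card N)) : N ≤ (piCore π K).map K.subtype := by
  have := normal_subgroupOf_of_le_normalizer hK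
  calc N = (N.subgroupOf K).map K.subtype := (map_subgroupOf_eq_of_le hNK).symm
    _ ≤ _ := map_mono (le_piCore (by rwa [card_subgroupOf_eq_of_le hNK]))

theorem normalizer_le_normalizer_piCore (π : Set ℕ) (K : Subgroup G) :
    normalizer (K : Set G) ≤ normalizer (((piCore π K).map K.subtype : Subgroup G) : Set G) :=
  normalizer_le_normalizer_map_subtype K _

theorem map_subtype_piCore_le_of_isSubnormal [Finite G] {K : Subgroup G} (hK : K.IsSubnormal) :
    (piCore π K).map K.subtype ≤ piCore π G := by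
  induction hK with
  | top => exact map_subtype_piCore_le ⊤
  | step K L hKL _ hn ih =>
    refine le_trans ?_ ih
    refine le_map_subtype_piCore ((map_subtype_le _).trans hKL) ?_
      (isPiNumber_card_map_subtype_piCore π K)
    exact ((normal_subgroupOf_iff_le_normalizer hKL).mp hn).trans
      (normalizer_le_normalizer_piCore π K)

theorem le_piCore_of_isSubnormal [Finite G] {K : Subgroup G} (hK : K.IsSubnormal)
    (h : IsPiNumber π (Nat.card K)) : K ≤ piCore π G := by
  refine le_trans ?_ (map_subtype_piCore_le_of_isSubnormal hK)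
  rw [piCore_eq_top_iff.mpr h, ← MonoidHom.range_eq_map, range_subtype]

theorem piCore_singleton [Finite G] (p : ℕ) [Fact p.Prime] : piCore {p} G = pCore p G := by
  unfold piCore pCore
  congr 1
  ext N
  exact and_congr_right fun _ => isPiNumber_singleton_iff_isPGroup

theorem piCore_compl_singleton {p : ℕ} (hp : p.Prime) : piCore {p}ᶜ G = pPrimeCore p G := by
  unfold piCore pPrimeCore
  congr 1
  ext N
  exact and_congr_right fun _ => isPiNumber_compl_singleton_iff hp

theorem piCore_inf_piCore_compl [Finite G] : piCore π G ⊓ piCore πᶜ G = ⊥ :=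
  disjoint_iff.mp (disjoint_of_coprime_natCard ((piCore_isPiNumber π G).coprime (piCore_isPiNumber πᶜ G)))

theorem piCore_le_centralizer_piCore_compl [Finite G] :
    piCore π G ≤ centralizer (piCore πᶜ G : Set G) :=
  le_centralizer_of_normal_of_inf_eq_bot piCore_inf_piCore_compl

theorem pCore_le_piCore [Finite G] {p : ℕ} [Fact p.Prime] (hp : p ∈ π) :
    pCore p G ≤ piCore π G := by
  rw [← piCore_singleton]
  exact piCore_mono (Set.singleton_subset_iff.mpr hp)

/-- A normal `π`-subgroup lies in every Hall `π`-subgroup; more generally in every subgroup whose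
index has no prime divisor in `π`. -/
theorem le_of_normal_of_coprime_index [Finite G] {N K : Subgroup G} [N.Normal]
    (h : (Nat.card N).Coprime K.index) : N ≤ K := by
  have h1 : K.relIndex (K ⊔ N) ∣ K.index := relIndex_dvd_index_of_le le_sup_left
  have h2 : K.relIndex (K ⊔ N) ∣ Nat.card N := by
    have h3 := card_sup_mul_card_inf K N
    rw [← card_mul_relIndex_of_le (le_sup_left : K ≤ K ⊔ N), mul_assoc] at h3
    exact Dvd.intro _ (Nat.eq_of_mul_eq_mul_left Nat.card_pos h3)
  have h4 : K.relIndex (K ⊔ N) = 1 := Nat.eq_one_of_dvd_coprimes h h2 h1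
  exact le_sup_right.trans (relIndex_eq_one.mp h4)

theorem piCore_le_of_isPiHall [Finite G] {K : Subgroup G} (hK : IsPiHall π K) :
    piCore π G ≤ K :=
  le_of_normal_of_coprime_index
    (Nat.coprime_of_dvd fun p hp h1 => hK.2 p hp (piCore_isPiNumber π G p hp h1))

end piCore

section pPrimeCore

variable {G : Type*} [Group G] {H : Type*} [Group H] {p : ℕ}

theorem pPrimeCore_coprime (p : ℕ) (G : Type*) [Group G] [Finite G] :
    (Nat.card (pPrimeCore p G)).Coprime p := by
  refine (sSup_subgroup_induction _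
    (fun A : Subgroup G => A.Normal ∧ (Nat.card A).Coprime p) ⟨inferInstance, ?_⟩ ?_
    (fun A hA => hA)).2
  · rw [card_bot]; exact Nat.coprime_one_left p
  · rintro A B ⟨hA, hA'⟩ ⟨hB, hB'⟩
    exact ⟨inferInstance, Nat.Coprime.coprime_dvd_left (card_sup_dvd_mul A B) (hA'.mul_left hB')⟩

theorem not_dvd_card_pPrimeCore (p : ℕ) [hp : Fact p.Prime] (G : Type*) [Group G] [Finite G] :
    ¬ p ∣ Nat.card (pPrimeCore p G) :=
  hp.out.coprime_iff_not_dvd.mp (pPrimeCore_coprime p G).symm

theorem le_pPrimeCore {N : Subgroup G} [hN : N.Normal] (h : (Nat.card N).Coprime p) :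
    N ≤ pPrimeCore p G := le_sSup ⟨hN, h⟩

theorem le_pPrimeCore_of_not_dvd [hp : Fact p.Prime] {N : Subgroup G} [N.Normal]
    (h : ¬ p ∣ Nat.card N) : N ≤ pPrimeCore p G :=
  le_pPrimeCore (hp.out.coprime_iff_not_dvd.mpr h).symm

theorem le_pPrimeCore_iff [Finite G] {N : Subgroup G} [N.Normal] :
    N ≤ pPrimeCore p G ↔ (Nat.card N).Coprime p :=
  ⟨fun h => Nat.Coprime.coprime_dvd_left (card_dvd_of_le h) (pPrimeCore_coprime p G),
    le_pPrimeCore⟩

theorem coprime_of_le_pPrimeCore [Finite G] {N : Subgroup G} (h : N ≤ pPrimeCore p G) :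
    (Nat.card N).Coprime p :=
  Nat.Coprime.coprime_dvd_left (card_dvd_of_le h) (pPrimeCore_coprime p G)

theorem pPrimeCore_eq_top_iff [Finite G] : pPrimeCore p G = ⊤ ↔ (Nat.card G).Coprime p := by
  rw [eq_top_iff, le_pPrimeCore_iff, card_top]

theorem pPrimeCore_eq_bot_iff [Finite G] :
    pPrimeCore p G = ⊥ ↔ ∀ N : Subgroup G, N.Normal → (Nat.card N).Coprime p → N = ⊥ :=
  ⟨fun h _ _ hN => le_bot_iff.mp (h ▸ le_pPrimeCore hN),
    fun h => h _ inferInstance (pPrimeCore_coprime p G)⟩

theorem map_pPrimeCore_le [Finite G] {f : G →* H} (hf : Function.Surjective f) :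
    (pPrimeCore p G).map f ≤ pPrimeCore p H :=
  haveI : ((pPrimeCore p G).map f).Normal := Normal.map inferInstance f hf
  le_pPrimeCore (Nat.Coprime.coprime_dvd_left (card_map_dvd _ f) (pPrimeCore_coprime p G))

theorem pPrimeCore_le_comap [Finite G] {f : G →* H} (hf : Function.Surjective f) :
    pPrimeCore p G ≤ (pPrimeCore p H).comap f := map_le_iff_le_comap.mp (map_pPrimeCore_le hf)

theorem comap_pPrimeCore_le [Finite H] (f : G →* H) (hker : (Nat.card f.ker).Coprime p) :
    (pPrimeCore p H).comap f ≤ pPrimeCore p G :=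
  le_pPrimeCore (Nat.Coprime.coprime_dvd_left (card_comap_dvd f _)
    (hker.mul_left (pPrimeCore_coprime p H)))

theorem comap_pPrimeCore_eq [Finite G] {f : G →* H} (hf : Function.Surjective f)
    (hker : (Nat.card f.ker).Coprime p) : (pPrimeCore p H).comap f = pPrimeCore p G :=
  haveI : Finite H := Finite.of_surjective f hf
  le_antisymm (comap_pPrimeCore_le f hker) (pPrimeCore_le_comap hf)

theorem map_pPrimeCore_eq [Finite G] {f : G →* H} (hf : Function.Surjective f)
    (hker : (Nat.card f.ker).Coprime p) : (pPrimeCore p G).map f = pPrimeCore p H := by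
  rw [← comap_pPrimeCore_eq hf hker, map_comap_eq_self_of_surjective hf]

theorem coprime_card_ker_of_injective {f : G →* H} (hf : Function.Injective f) :
    (Nat.card f.ker).Coprime p := by
  rw [(f.ker_eq_bot_iff).mpr hf, card_bot]
  exact Nat.coprime_one_left p

theorem map_equiv_pPrimeCore [Finite G] (e : G ≃* H) :
    (pPrimeCore p G).map (e : G →* H) = pPrimeCore p H :=
  map_pPrimeCore_eq e.surjective (coprime_card_ker_of_injective e.injective)

theorem comap_equiv_pPrimeCore [Finite G] (e : G ≃* H) :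
    (pPrimeCore p H).comap (e : G →* H) = pPrimeCore p G :=
  comap_pPrimeCore_eq e.surjective (coprime_card_ker_of_injective e.injective)

theorem pPrimeCore_eq_bot_congr [Finite G] (e : G ≃* H) :
    pPrimeCore p G = ⊥ ↔ pPrimeCore p H = ⊥ := by
  rw [← map_equiv_pPrimeCore e, map_eq_bot_iff_of_injective _ e.injective]

theorem pPrimeCore_characteristic (p : ℕ) (G : Type*) [Group G] :
    (pPrimeCore p G).Characteristic := by
  rw [characteristic_iff_map_le]
  intro e
  rw [map_le_iff_le_comap]
  refine sSup_le fun N hN => map_le_iff_le_comap.mp ?_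
  have : (N.map e.toMonoidHom).Normal := hN.1.map _ e.surjective
  exact le_pPrimeCore (Nat.Coprime.coprime_dvd_left (card_map_dvd _ _) hN.2)

scoped instance instCharacteristicPPrimeCore (p : ℕ) (G : Type*) [Group G] :
    (pPrimeCore p G).Characteristic := pPrimeCore_characteristic p G

/-- `O_{p'}(G / O_{p'}(G)) = 1`. -/
theorem pPrimeCore_quotient_pPrimeCore (p : ℕ) (G : Type*) [Group G] [Finite G] :
    pPrimeCore p (G ⧸ pPrimeCore p G) = ⊥ := by
  rw [← map_pPrimeCore_eq (QuotientGroup.mk'_surjective (pPrimeCore p G))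
    (by rw [QuotientGroup.ker_mk']; exact pPrimeCore_coprime p G), QuotientGroup.map_mk'_self]

theorem pPrimeCore_subgroupOf_le [Finite G] (K : Subgroup G) :
    (pPrimeCore p G).subgroupOf K ≤ pPrimeCore p K :=
  comap_pPrimeCore_le K.subtype (coprime_card_ker_of_injective K.subtype_injective)

theorem pPrimeCore_inf_le_map_subtype [Finite G] (K : Subgroup G) :
    pPrimeCore p G ⊓ K ≤ (pPrimeCore p K).map K.subtype := by
  rw [← subgroupOf_map_subtype]
  exact map_mono (pPrimeCore_subgroupOf_le K)

theorem coprime_card_map_subtype_pPrimeCore [Finite G] (p : ℕ) (K : Subgroup G) :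
    (Nat.card ((pPrimeCore p K).map K.subtype)).Coprime p := by
  rw [card_map_subtype_eq]; exact pPrimeCore_coprime p K

theorem map_subtype_pPrimeCore_le [Finite G] (N : Subgroup G) [N.Normal] :
    (pPrimeCore p N).map N.subtype ≤ pPrimeCore p G :=
  le_pPrimeCore (coprime_card_map_subtype_pPrimeCore p N)

theorem map_subtype_pPrimeCore_eq [Finite G] (N : Subgroup G) [N.Normal] :
    (pPrimeCore p N).map N.subtype = pPrimeCore p G ⊓ N :=
  le_antisymm (le_inf (map_subtype_pPrimeCore_le N) (map_subtype_le _))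
    (pPrimeCore_inf_le_map_subtype N)

theorem pPrimeCore_eq_subgroupOf [Finite G] (N : Subgroup G) [N.Normal] :
    pPrimeCore p N = (pPrimeCore p G).subgroupOf N :=
  le_antisymm (map_le_iff_le_comap.mp (map_subtype_pPrimeCore_le N)) (pPrimeCore_subgroupOf_le N)

theorem le_map_subtype_pPrimeCore {K N : Subgroup G} (hNK : N ≤ K)
    (hK : K ≤ normalizer (N : Set G)) (hN : (Nat.card N).Coprime p) :
    N ≤ (pPrimeCore p K).map K.subtype := by
  have := normal_subgroupOf_of_le_normalizer hK
  calc N = (N.subgroupOf K).map K.subtype := (map_subgroupOf_eq_of_le hNK).symm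
    _ ≤ _ := map_mono (le_pPrimeCore (by rwa [card_subgroupOf_eq_of_le hNK]))

theorem normalizer_le_normalizer_pPrimeCore (p : ℕ) (K : Subgroup G) :
    normalizer (K : Set G) ≤
      normalizer (((pPrimeCore p K).map K.subtype : Subgroup G) : Set G) :=
  normalizer_le_normalizer_map_subtype K _

theorem map_subtype_pPrimeCore_le_of_isSubnormal [Finite G] {K : Subgroup G}
    (hK : K.IsSubnormal) : (pPrimeCore p K).map K.subtype ≤ pPrimeCore p G := by
  induction hK with
  | top => exact map_subtype_pPrimeCore_le ⊤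
  | step K L hKL _ hn ih =>
    refine le_trans ?_ ih
    refine le_map_subtype_pPrimeCore ((map_subtype_le _).trans hKL) ?_
      (coprime_card_map_subtype_pPrimeCore p K)
    exact ((normal_subgroupOf_iff_le_normalizer hKL).mp hn).trans
      (normalizer_le_normalizer_pPrimeCore p K)

theorem le_pPrimeCore_of_isSubnormal [Finite G] {K : Subgroup G} (hK : K.IsSubnormal)
    (h : (Nat.card K).Coprime p) : K ≤ pPrimeCore p G := by
  refine le_trans ?_ (map_subtype_pPrimeCore_le_of_isSubnormal hK)
  rw [pPrimeCore_eq_top_iff.mpr h, ← MonoidHom.range_eq_map, range_subtype]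

theorem map_subtype_pPrimeCore_eq_of_isSubnormal [Finite G] {K : Subgroup G}
    (hK : K.IsSubnormal) : (pPrimeCore p K).map K.subtype = pPrimeCore p G ⊓ K :=
  le_antisymm (le_inf (map_subtype_pPrimeCore_le_of_isSubnormal hK) (map_subtype_le _))
    (pPrimeCore_inf_le_map_subtype K)

/-- A `p`-group has order coprime to every number coprime to `p`. -/
theorem coprime_card_of_isPGroup [Finite G] (h : IsPGroup p G) {n : ℕ} (hn : n.Coprime p) :
    (Nat.card G).Coprime n := by
  obtain ⟨k, hk⟩ := isPGroup_iff_card_dvd_pow.mp h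
  exact Nat.Coprime.coprime_dvd_left hk (Nat.Coprime.pow_left k hn.symm)

/-- A `p`-subgroup and a `p'`-subgroup meet trivially. -/
theorem inf_eq_bot_of_isPGroup_of_coprime [Finite G] {P K : Subgroup G} (hP : IsPGroup p P)
    (hK : (Nat.card K).Coprime p) : P ⊓ K = ⊥ :=
  disjoint_iff.mp (disjoint_of_coprime_natCard (coprime_card_of_isPGroup hP hK))

theorem inf_pPrimeCore_eq_bot [Finite G] {P : Subgroup G} (hP : IsPGroup p P) :
    P ⊓ pPrimeCore p G = ⊥ :=
  inf_eq_bot_of_isPGroup_of_coprime hP (pPrimeCore_coprime p G)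

theorem pCore_inf_pPrimeCore [Finite G] : pCore p G ⊓ pPrimeCore p G = ⊥ :=
  inf_pPrimeCore_eq_bot (pCore_isPGroup p G)

theorem pCore_le_centralizer_pPrimeCore [Finite G] :
    pCore p G ≤ centralizer (pPrimeCore p G : Set G) :=
  le_centralizer_of_normal_of_inf_eq_bot pCore_inf_pPrimeCore

theorem pPrimeCore_le_centralizer_pCore [Finite G] :
    pPrimeCore p G ≤ centralizer (pCore p G : Set G) :=
  le_centralizer_iff.mp pCore_le_centralizer_pPrimeCore

theorem coprime_card_of_isPGroup_of_ne [Finite G] {q : ℕ} [hp : Fact p.Prime] [hq : Fact q.Prime]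
    (h : IsPGroup q G) (hne : q ≠ p) : (Nat.card G).Coprime p :=
  coprime_card_of_isPGroup h ((Nat.coprime_primes hp.out hq.out).mpr hne.symm)

theorem pCore_le_pPrimeCore_of_ne [Finite G] {q : ℕ} [Fact p.Prime] [Fact q.Prime] (h : q ≠ p) :
    pCore q G ≤ pPrimeCore p G :=
  le_pPrimeCore (coprime_card_of_isPGroup_of_ne (pCore_isPGroup q G) h)

/-! ### `O_{p',p}(G)` -/

theorem pPrimeCore_le_pPrimePCore : pPrimeCore p G ≤ pPrimePCore p G := by
  have := ker_le_comap (QuotientGroup.mk' (pPrimeCore p G)) (pCore p (G ⧸ pPrimeCore p G))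
  rwa [QuotientGroup.ker_mk'] at this

theorem pCore_le_pPrimePCore : pCore p G ≤ pPrimePCore p G :=
  pCore_le_comap (QuotientGroup.mk'_surjective _)

theorem pPrimePCore_characteristic (p : ℕ) (G : Type*) [Group G] :
    (pPrimePCore p G).Characteristic :=
  Characteristic.comap_quotient_mk (pCore_characteristic p _)

scoped instance instCharacteristicPPrimePCore (p : ℕ) (G : Type*) [Group G] :
    (pPrimePCore p G).Characteristic := pPrimePCore_characteristic p G

theorem pPrimePCore_eq_pCore [Finite G] (h : pPrimeCore p G = ⊥) : pPrimePCore p G = pCore p G := by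
  refine comap_pCore_eq (QuotientGroup.mk'_surjective _) ?_
  rw [QuotientGroup.ker_mk', h]
  exact IsPGroup.of_bot

end pPrimeCore

end CL
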