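import Cfsg.Agent.Solv.Coprime

/-!
# Coprime action on abelian groups (ambient form)
-/

set_option autoImplicit false

namespace CL

open Subgroup
open scoped Pointwise commutatorElement IsMulCommutative

variable {G : Type*} [Group G]

/-- Conjugation by an element normalising `V`, as an endomorphism of `V`. -/
def conjOn {A V : Subgroup G} (hAV : A ≤ normalizer (V : Set G)) (a : A) : V →* V where
  toFun := fun l => ⟨a * l * (a : G)⁻¹, conj_mem_of_le_normalizer hAV a.2 l.2⟩
  map_one' := by ext; simp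
  map_mul' := by intro x y; ext; simp [mul_assoc]

theorem coe_conjOn {A V : Subgroup G} (hAV : A ≤ normalizer (V : Set G)) (a : A) (v : V) :
    (conjOn hAV a v : G) = a * v * (a : G)⁻¹ := rfl

theorem conjOn_mul {A V : Subgroup G} (hAV : A ≤ normalizer (V : Set G)) (a b : A) (v : V) :
    conjOn hAV (a * b) v = conjOn hAV a (conjOn hAV b v) := by
  ext; simp [coe_conjOn, mul_assoc]

theorem conjOn_one {A V : Subgroup G} (hAV : A ≤ normalizer (V : Set G)) (v : V) :
    conjOn hAV 1 v = v := by
  ext; simp [coe_conjOn]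

theorem isSolvable_of_isMulCommutative (V : Type*) [Group V] [IsMulCommutative V] :
    Group.IsSolvable V :=
  Group.isSolvable_of_comm fun a b => (IsMulCommutative.is_comm (M := V)).comm a b

/-- `C_V(A) ∩ [V, A] = 1` for a coprime action on an abelian group. -/
theorem coprime_centralizer_inf_commutator [Finite G] {A V : Subgroup G} [IsMulCommutative V]
    (hAV : A ≤ normalizer (V : Set G)) (hcop : (Nat.card A).Coprime (Nat.card V)) :
    (V ⊓ centralizer (A : Set G)) ⊓ ⁅V, A⁆ = ⊥ := by
  classical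
  have := Fintype.ofFinite A
  let φ : V →* V := ∏ a : A, conjOn hAV a
  have hφ : ∀ v, φ v = ∏ a : A, conjOn hAV a v := fun v => MonoidHom.finsetProd_apply _ _ _
  have h1 : ∀ (b : A) (v : V), φ (conjOn hAV b v) = φ v := by
    intro b v
    rw [hφ, hφ]
    simp only [← conjOn_mul]
    exact Fintype.prod_equiv (Equiv.mulRight b) _ _ (fun _ => rfl)
  have h2 : ⁅V, A⁆ ≤ φ.ker.map V.subtype := by
    rw [commutator_le]
    intro v hv a ha
    refine ⟨⟨v, hv⟩ * (conjOn hAV ⟨a, ha⟩ ⟨v, hv⟩)⁻¹, ?_, ?_⟩
    · show φ _ = 1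
      rw [map_mul, map_inv, h1, mul_inv_cancel]
    · simp [coe_conjOn, commutatorElement_def, mul_assoc]
  rw [eq_bot_iff]
  rintro v ⟨⟨hv, hc⟩, hv2⟩
  obtain ⟨w, hw, rfl⟩ := h2 hv2
  have h3 : ∀ a : A, conjOn hAV a w = w := by
    intro a
    ext
    have := mem_centralizer_iff.1 hc a a.2
    rw [coe_subtype] at this
    rw [coe_conjOn, this]; group
  have h4 : w ^ Nat.card A = 1 := by
    have : φ w = 1 := hw
    rw [hφ] at this
    simpa [h3] using this
  have h5 : w = 1 := by
    rw [← orderOf_eq_one_iff]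
    exact Nat.eq_one_of_dvd_coprimes hcop (orderOf_dvd_of_pow_eq_one h4) (orderOf_dvd_natCard w)
  simp [h5]

/-- `V = C_V(A) [V, A]` for a coprime action on an abelian group. -/
theorem coprime_centralizer_sup_commutator [Finite G] {A V : Subgroup G} [IsMulCommutative V]
    (hAV : A ≤ normalizer (V : Set G)) (hcop : (Nat.card A).Coprime (Nat.card V)) :
    (V ⊓ centralizer (A : Set G)) ⊔ ⁅V, A⁆ = V := by
  rw [sup_comm]
  exact coprime_commutator_sup_centralizer hAV hcop (Or.inr (isSolvable_of_isMulCommutative V))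

/-- A nontrivial finite subgroup has an element of prime order. -/
theorem exists_prime_orderOf_mem_of_ne_bot {H : Subgroup G} [Finite H] (hH : H ≠ ⊥) :
    ∃ x ∈ H, (orderOf x).Prime := by
  obtain ⟨p, hp, hd⟩ := Nat.exists_prime_and_dvd (n := Nat.card H)
    (by rwa [Ne, Subgroup.card_eq_one])
  have := Fact.mk hp
  obtain ⟨x, hx⟩ := exists_prime_orderOf_dvd_card' p hd
  exact ⟨x, x.2, by rw [Subgroup.orderOf_coe, hx]; exact hp⟩

/-- A coprime action on an abelian group that fixes all elements of prime order is trivial. -/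
theorem coprime_le_centralizer_of_prime_order [Finite G] {A V : Subgroup G} [IsMulCommutative V]
    (hAV : A ≤ normalizer (V : Set G)) (hcop : (Nat.card A).Coprime (Nat.card V))
    (hΩ : ∀ v ∈ V, (orderOf v).Prime → ∀ a ∈ A, a * v = v * a) :
    A ≤ centralizer (V : Set G) := by
  rw [le_centralizer_iff, ← commutator_eq_bot_iff_le_centralizer]
  by_contra hne
  obtain ⟨x, hx, hp⟩ := exists_prime_orderOf_mem_of_ne_bot hne
  have hxV : x ∈ V := le_normalizer_iff_commutator_le_left.1 hAV hx
  have : x ∈ (V ⊓ centralizer (A : Set G)) ⊓ ⁅V, A⁆ :=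
    ⟨⟨hxV, mem_centralizer_iff.2 (hΩ x hxV hp)⟩, hx⟩
  rw [coprime_centralizer_inf_commutator hAV hcop, mem_bot] at this
  rw [this, orderOf_one] at hp
  exact Nat.not_prime_one hp

/-- Order form of the splitting `V = C_V(A) × [V, A]`. -/
theorem coprime_card_centralizer_mul_card_commutator [Finite G] {A V : Subgroup G}
    [IsMulCommutative V] (hAV : A ≤ normalizer (V : Set G))
    (hcop : (Nat.card A).Coprime (Nat.card V)) :
    Nat.card ↥(V ⊓ centralizer (A : Set G)) * Nat.card ↥(⁅V, A⁆ : Subgroup G) = Nat.card V := by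
  have hle : ⁅V, A⁆ ≤ V := le_normalizer_iff_commutator_le_left.1 hAV
  have hc : IsComplement' ((V ⊓ centralizer (A : Set G)).subgroupOf V) (⁅V, A⁆.subgroupOf V) := by
    refine isComplement'_of_disjoint_and_mul_eq_univ ?_ ?_
    · rw [disjoint_iff, ← Subgroup.inf_subgroupOf_right, eq_bot_iff]
      intro x hx
      have : (x : G) ∈ (V ⊓ centralizer (A : Set G)) ⊓ ⁅V, A⁆ := ⟨hx.1.1, hx.2⟩
      rw [coprime_centralizer_inf_commutator hAV hcop, mem_bot] at this
      exact Subtype.ext this
    · rw [← Subgroup.mul_normal, ← subgroupOf_sup inf_le_left hle,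
        coprime_centralizer_sup_commutator hAV hcop, subgroupOf_self, coe_top]
  rw [← hc.card_mul_card, card_subgroupOf_of_le inf_le_left, card_subgroupOf_of_le hle]

end CL
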