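import Cfsg.Agent.Base

/-!
# Minimal normal subgroups

`CL.IsMinNormal N`: `N` is a minimal normal subgroup of the ambient group.
Existence below any nontrivial normal subgroup, elementary abelian in solvable groups,
central of prime order in nilpotent groups; normal subgroups of nilpotent groups meet the centre.
-/

namespace CL

open Subgroup Cfsg
open scoped commutatorElement

variable {G : Type*} [Group G]

/-- `N` is a minimal normal subgroup of `G`. -/
structure IsMinNormal (N : Subgroup G) : Prop where
  normal : N.Normal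
  ne_bot : N ≠ ⊥
  eq_bot_or_eq : ∀ M : Subgroup G, M.Normal → M ≤ N → M = ⊥ ∨ M = N

theorem IsMinNormal.eq_of_le {N M : Subgroup G} (hN : IsMinNormal N) (hM : M.Normal)
    (hle : M ≤ N) (hne : M ≠ ⊥) : M = N :=
  (hN.eq_bot_or_eq M hM hle).resolve_left hne

/-- A minimal normal subgroup is contained in, or meets trivially, each normal subgroup. -/
theorem IsMinNormal.le_or_inf_eq_bot {N : Subgroup G} (hN : IsMinNormal N) (M : Subgroup G)
    [hM : M.Normal] : N ≤ M ∨ N ⊓ M = ⊥ := by
  have := hN.normal
  rcases hN.eq_bot_or_eq (N ⊓ M) inferInstance inf_le_left with h | h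
  · exact Or.inr h
  · exact Or.inl (inf_eq_left.mp h)

/-- Every nontrivial normal subgroup of a finite group contains a minimal normal subgroup. -/
theorem exists_isMinNormal_le [Finite G] (K : Subgroup G) [hK : K.Normal] (hne : K ≠ ⊥) :
    ∃ N : Subgroup G, IsMinNormal N ∧ N ≤ K := by
  obtain ⟨N, ⟨hN1, hN2, hN3⟩, hmin⟩ := WellFounded.has_min (wellFounded_lt (α := Subgroup G))
    {N : Subgroup G | N.Normal ∧ N ≠ ⊥ ∧ N ≤ K} ⟨K, hK, hne, le_rfl⟩
  refine ⟨N, ⟨hN1, hN2, fun M hM hMN => ?_⟩, hN3⟩
  by_cases h : M = ⊥
  · exact Or.inl h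
  · right
    by_contra hne'
    exact hmin M ⟨hM, h, hMN.trans hN3⟩ (lt_of_le_of_ne hMN hne')

/-- A nontrivial finite group has a minimal normal subgroup. -/
theorem exists_isMinNormal (G : Type*) [Group G] [Finite G] [Nontrivial G] :
    ∃ N : Subgroup G, IsMinNormal N := by
  obtain ⟨N, hN, -⟩ := exists_isMinNormal_le (⊤ : Subgroup G) top_ne_bot
  exact ⟨N, hN⟩

/-- A minimal normal subgroup has no proper nontrivial characteristic subgroup. -/
theorem IsMinNormal.char_eq_bot_or_top {N : Subgroup G} (hN : IsMinNormal N) (K : Subgroup N)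
    [K.Characteristic] : K = ⊥ ∨ K = ⊤ := by
  have := hN.normal
  rcases hN.eq_bot_or_eq (K.map N.subtype) inferInstance (map_subtype_le K) with h | h
  · left
    exact (map_eq_bot_iff_of_injective K N.subtype_injective).mp h
  · right
    apply map_injective N.subtype_injective
    rw [h, ← MonoidHom.range_eq_map, range_subtype]

/-- A solvable minimal normal subgroup is abelian. -/
theorem IsMinNormal.isMulCommutative {N : Subgroup G} (hN : IsMinNormal N)
    [Group.IsSolvable N] : IsMulCommutative N := by
  have : Nontrivial N := (nontrivial_iff_ne_bot N).mpr hN.ne_bot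
  rcases hN.char_eq_bot_or_top (_root_.commutator N) with h | h
  · refine ⟨⟨fun a b => ?_⟩⟩
    have : ⁅a, b⁆ ∈ _root_.commutator N := commutator_mem_commutator (mem_top a) (mem_top b)
    rw [h, mem_bot] at this
    exact commutatorElement_eq_one_iff_mul_comm.mp this
  · exact absurd h (Group.IsSolvable.commutator_lt_top_of_nontrivial N).ne

/-- In an abelian group the elements killed by `n` form a characteristic subgroup. -/
def powKerSubgroup (A : Type*) [Group A] [IsMulCommutative A] (n : ℕ) : Subgroup A where
  carrier := {a | a ^ n = 1}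
  one_mem' := one_pow n
  mul_mem' := fun {a b} ha hb => by
    have hab : Commute a b := mul_comm' a b
    simp only [Set.mem_ofPred_eq] at ha hb ⊢
    rw [hab.mul_pow, ha, hb, one_mul]
  inv_mem' := fun {a} ha => by
    simp only [Set.mem_ofPred_eq] at ha ⊢
    rw [inv_pow, ha, inv_one]

theorem mem_powKerSubgroup {A : Type*} [Group A] [IsMulCommutative A] {n : ℕ} {a : A} :
    a ∈ powKerSubgroup A n ↔ a ^ n = 1 := Iff.rfl

theorem powKerSubgroup_characteristic (A : Type*) [Group A] [IsMulCommutative A] (n : ℕ) :
    (powKerSubgroup A n).Characteristic := by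
  rw [characteristic_iff_le_comap]
  intro φ a ha
  rw [mem_comap, mem_powKerSubgroup, ← map_pow, mem_powKerSubgroup.mp ha, map_one]

/-- An abelian minimal normal subgroup of a finite group has exponent `p` for every prime `p`
dividing its order. -/
theorem IsMinNormal.pow_eq_one_of_dvd [Finite G] {N : Subgroup G} (hN : IsMinNormal N)
    [IsMulCommutative N] {p : ℕ} (hp : p.Prime) (hdvd : p ∣ Nat.card N) :
    ∀ x ∈ N, x ^ p = 1 := by
  have : Fact p.Prime := ⟨hp⟩
  obtain ⟨a, ha⟩ := exists_prime_orderOf_dvd_card' p hdvd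
  have := powKerSubgroup_characteristic N p
  rcases hN.char_eq_bot_or_top (powKerSubgroup N p) with h | h
  · have : a ∈ powKerSubgroup N p := by rw [mem_powKerSubgroup, ← ha, pow_orderOf_eq_one]
    rw [h, mem_bot] at this
    rw [this, orderOf_one] at ha
    exact absurd ha.symm hp.one_lt.ne'
  · intro x hx
    have : (⟨x, hx⟩ : N) ∈ powKerSubgroup N p := h ▸ mem_top _
    exact congrArg Subtype.val (mem_powKerSubgroup.mp this)

/-- A solvable minimal normal subgroup of a finite group is an elementary abelian `p`-group for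
some prime `p`. -/
theorem IsMinNormal.exists_prime_elementary [Finite G] {N : Subgroup G} (hN : IsMinNormal N)
    [Group.IsSolvable N] : ∃ p : ℕ, p.Prime ∧ IsElementaryAbelian p N := by
  have := hN.isMulCommutative
  have h1 : Nat.card N ≠ 1 := fun h => hN.ne_bot (card_eq_one.mp h)
  obtain ⟨p, hp, hdvd⟩ := Nat.exists_prime_and_dvd h1
  exact ⟨p, hp, inferInstance, hN.pow_eq_one_of_dvd hp hdvd⟩

/-- A subgroup of exponent dividing `p` is a `p`-group. -/
theorem isPGroup_of_forall_pow_eq_one {p : ℕ} {N : Subgroup G} (h : ∀ x ∈ N, x ^ p = 1) :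
    IsPGroup p N := fun x => ⟨1, Subtype.ext (by simpa using h x x.2)⟩

theorem isPGroup_of_isElementaryAbelian {p : ℕ} {N : Subgroup G} (h : IsElementaryAbelian p N) :
    IsPGroup p N := isPGroup_of_forall_pow_eq_one h.2

/-- A solvable minimal normal subgroup of a finite group is an abelian `p`-group of exponent `p`
for some prime `p`. -/
theorem IsMinNormal.exists_prime_isPGroup [Finite G] {N : Subgroup G} (hN : IsMinNormal N)
    [Group.IsSolvable N] :
    ∃ p : ℕ, p.Prime ∧ IsPGroup p N ∧ IsMulCommutative N ∧ ∀ x ∈ N, x ^ p = 1 := by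
  obtain ⟨p, hp, h⟩ := hN.exists_prime_elementary
  exact ⟨p, hp, isPGroup_of_isElementaryAbelian h, h.1, h.2⟩

/-- A minimal normal subgroup that is a `p`-group is elementary abelian. -/
theorem IsMinNormal.isElementaryAbelian_of_isPGroup [Finite G] {N : Subgroup G}
    (hN : IsMinNormal N) {p : ℕ} [hp : Fact p.Prime] (h : IsPGroup p N) :
    IsElementaryAbelian p N := by
  have := h.isNilpotent
  have := hN.isMulCommutative
  refine ⟨inferInstance, hN.pow_eq_one_of_dvd hp.out ?_⟩
  rcases h.card_eq_or_dvd with h1 | h1
  · exact absurd (card_eq_one.mp h1) hN.ne_bot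
  · exact h1

/-- A nontrivial solvable normal subgroup `K` of a finite group contains a nontrivial normal
(in the whole group) elementary abelian `p`-subgroup for some prime `p`. -/
theorem exists_normal_elementary_le [Finite G] (K : Subgroup G) [K.Normal] [Group.IsSolvable K]
    (hne : K ≠ ⊥) :
    ∃ (p : ℕ) (N : Subgroup G), p.Prime ∧ IsMinNormal N ∧ N ≤ K ∧ IsElementaryAbelian p N := by
  obtain ⟨N, hN, hle⟩ := exists_isMinNormal_le K hne
  have : Group.IsSolvable N :=
    Group.isSolvable_of_isSolvable_injective (inclusion_injective hle)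
  obtain ⟨p, hp, h⟩ := hN.exists_prime_elementary
  exact ⟨p, N, hp, hN, hle, h⟩

/-- A nontrivial finite solvable group has a nontrivial normal elementary abelian
`p`-subgroup for some prime `p`. -/
theorem exists_normal_elementary (G : Type*) [Group G] [Finite G] [Group.IsSolvable G]
    [Nontrivial G] :
    ∃ (p : ℕ) (N : Subgroup G), p.Prime ∧ IsMinNormal N ∧ IsElementaryAbelian p N := by
  obtain ⟨p, N, hp, hN, -, h⟩ := exists_normal_elementary_le (⊤ : Subgroup G) top_ne_bot
  exact ⟨p, N, hp, hN, h⟩

/-! ### Nilpotent groups -/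

/-- In a nilpotent group, `⁅N, G⁆ < N` for each nontrivial normal subgroup `N`. -/
theorem commutator_top_lt_of_isNilpotent [Group.IsNilpotent G] (N : Subgroup G) [N.Normal]
    (hN : N ≠ ⊥) : ⁅N, (⊤ : Subgroup G)⁆ < N := by
  refine lt_of_le_of_ne (commutator_le_left N ⊤) fun h => hN ?_
  obtain ⟨n, hn⟩ := Subgroup.nilpotent_iff_lowerCentralSeries.mp ‹Group.IsNilpotent G›
  have : ∀ k, N ≤ (⊤ : Subgroup G).lowerCentralSeries k := by
    intro k
    induction k with
    | zero => exact le_top
    | succ k ih =>
      rw [Subgroup.lowerCentralSeries_succ, ← h]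
      exact commutator_mono ih le_rfl
  exact le_bot_iff.mp (hn ▸ this n)

/-- A nontrivial normal subgroup of a nilpotent group meets the centre nontrivially. -/
theorem inf_center_ne_bot_of_isNilpotent [Group.IsNilpotent G] (N : Subgroup G) [N.Normal]
    (hN : N ≠ ⊥) : N ⊓ center G ≠ ⊥ := by
  intro h
  obtain ⟨n, hn⟩ := Group.IsNilpotent.nilpotent G
  have : ∀ k, N ⊓ Subgroup.upperCentralSeries G k = ⊥ := by
    intro k
    induction k with
    | zero => simp
    | succ k ih =>
      rw [eq_bot_iff, ← h]
      intro x hx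
      refine mem_inf.mpr ⟨hx.1, mem_center_iff.mpr fun g => ?_⟩
      have h1 : ⁅x, g⁆ ∈ Subgroup.upperCentralSeries G k :=
        Subgroup.mem_upperCentralSeries_succ_iff.mp hx.2 g
      have h2 : ⁅x, g⁆ ∈ N := by
        rw [commutatorElement_def]
        have := ‹N.Normal›.conj_mem _ (N.inv_mem hx.1) g
        simpa [mul_assoc] using N.mul_mem hx.1 this
      have h3 : ⁅x, g⁆ ∈ N ⊓ Subgroup.upperCentralSeries G k := ⟨h2, h1⟩
      rw [ih, mem_bot, commutatorElement_eq_one_iff_mul_comm] at h3
      exact h3.symm
  exact hN (by simpa [hn] using this n)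

/-- A subgroup of the centre is normal. -/
theorem normal_of_le_center {N : Subgroup G} (h : N ≤ center G) : N.Normal :=
  ⟨fun n hn g => by
    rw [mem_center_iff.mp (h hn) g, mul_inv_cancel_right]; exact hn⟩

/-- A minimal normal subgroup of a nilpotent group is central. -/
theorem IsMinNormal.le_center [Group.IsNilpotent G] {N : Subgroup G} (hN : IsMinNormal N) :
    N ≤ center G := by
  have := hN.normal
  exact (hN.le_or_inf_eq_bot (center G)).resolve_right
    (inf_center_ne_bot_of_isNilpotent N hN.ne_bot)

/-- A central minimal normal subgroup of a finite group has prime order. -/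
theorem IsMinNormal.card_prime_of_le_center [Finite G] {N : Subgroup G} (hN : IsMinNormal N)
    (hc : N ≤ center G) : (Nat.card N).Prime := by
  have h1 : Nat.card N ≠ 1 := fun h => hN.ne_bot (card_eq_one.mp h)
  obtain ⟨p, hp, hdvd⟩ := Nat.exists_prime_and_dvd h1
  have : Fact p.Prime := ⟨hp⟩
  obtain ⟨a, ha⟩ := exists_prime_orderOf_dvd_card' p hdvd
  have hle : zpowers (a : G) ≤ N := zpowers_le.mpr a.2
  have hcard : Nat.card (zpowers (a : G)) = p := by
    rw [Nat.card_zpowers, orderOf_coe, ha]
  have hne : zpowers (a : G) ≠ ⊥ := fun h => by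
    rw [h, card_bot] at hcard
    exact hp.one_lt.ne hcard
  rw [← hN.eq_of_le (normal_of_le_center (hle.trans hc)) hle hne, hcard]
  exact hp

/-- A minimal normal subgroup of a finite nilpotent group has prime order. -/
theorem IsMinNormal.card_prime [Finite G] [Group.IsNilpotent G] {N : Subgroup G}
    (hN : IsMinNormal N) : (Nat.card N).Prime :=
  hN.card_prime_of_le_center hN.le_center

/-- Two distinct minimal normal subgroups meet trivially. -/
theorem IsMinNormal.inf_eq_bot_of_ne {N M : Subgroup G} (hN : IsMinNormal N) (hM : IsMinNormal M)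
    (hne : N ≠ M) : N ⊓ M = ⊥ := by
  have := hM.normal
  rcases hN.le_or_inf_eq_bot M with h | h
  · exact absurd (hM.eq_of_le hN.normal h hN.ne_bot) hne
  · exact h

/-- Normal subgroups meeting trivially centralise each other. -/
theorem le_centralizer_of_normal_of_inf_eq_bot {N M : Subgroup G} [N.Normal] [M.Normal]
    (h : N ⊓ M = ⊥) : N ≤ centralizer (M : Set G) := by
  rw [← commutator_eq_bot_iff_le_centralizer, eq_bot_iff, ← h]
  exact commutator_le_inf N M

/-- Two distinct minimal normal subgroups centralise each other. -/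
theorem IsMinNormal.le_centralizer_of_ne {N M : Subgroup G} (hN : IsMinNormal N)
    (hM : IsMinNormal M) (hne : N ≠ M) : N ≤ centralizer (M : Set G) := by
  have := hN.normal
  have := hM.normal
  exact le_centralizer_of_normal_of_inf_eq_bot (hN.inf_eq_bot_of_ne hM hne)

/-- Induction principle for finite solvable groups through minimal normal subgroups is usually
run on the order: the quotient by a nontrivial subgroup is smaller. -/
theorem card_quotient_lt [Finite G] (N : Subgroup G) (hN : N ≠ ⊥) :
    Nat.card (G ⧸ N) < Nat.card G := by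
  have h := N.index_mul_card
  have h1 : 1 < Nat.card N := (one_lt_card_iff_ne_bot N).mpr hN
  have h2 : 0 < N.index := Nat.pos_of_ne_zero index_ne_zero_of_finite
  rw [← index_eq_card, ← h]
  nlinarith

/-- A proper subgroup of a finite group has smaller order. -/
theorem card_lt_of_ne_top [Finite G] (H : Subgroup G) (hH : H ≠ ⊤) : Nat.card H < Nat.card G := by
  have h := H.index_mul_card
  have h1 : 1 < H.index := one_lt_index_of_ne_top hH
  have h2 : 0 < Nat.card H := Nat.card_pos
  rw [← h]
  nlinarith

/-- A strictly smaller subgroup of a finite group has smaller order. -/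
theorem card_lt_of_lt [Finite G] {H K : Subgroup G} (h : H < K) : Nat.card H < Nat.card K := by
  refine lt_of_le_of_ne (card_le_of_le h.le) fun h' => h.ne ?_
  exact eq_of_le_of_card_ge h.le h'.ge

end CL
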