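import Cfsg.Agent.Base
import Cfsg.Prelude.Def_Solvable

/-!
Frobenius groups, elementary part: malnormal subgroups, the action on cosets, the size of the
Frobenius kernel, semidirect products with fixed-point-free action.
-/

namespace CL.Frob

open Subgroup Cfsg Pointwise

variable {G : Type*} [Group G]

theorem mem_conj_smul_iff {H : Subgroup G} {g x : G} :
    x ∈ MulAut.conj g • H ↔ g⁻¹ * x * g ∈ H := by
  rw [Subgroup.mem_pointwise_smul_iff_inv_smul_mem]
  simp [MulAut.smul_def]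

/-- `H` meets each of its conjugates by elements outside `H` trivially. -/
def IsMalnormal (H : Subgroup G) : Prop :=
  ∀ g x : G, x ∈ H → g * x * g⁻¹ ∈ H → x ≠ 1 → g ∈ H

theorem isMalnormal_iff {H : Subgroup G} :
    IsMalnormal H ↔ ∀ g : G, g ∉ H → H ⊓ MulAut.conj g • H = ⊥ := by
  constructor
  · intro h g hg
    rw [Subgroup.eq_bot_iff_forall]
    rintro x ⟨hx1, hx2⟩
    by_contra hx
    refine hg ((Subgroup.inv_mem_iff H).mp (h g⁻¹ x hx1 ?_ hx))
    rw [inv_inv]; exact mem_conj_smul_iff.mp hx2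
  · intro h g x hx hgx hx1
    by_contra hg
    have hg' : g⁻¹ ∉ H := fun h' => hg ((Subgroup.inv_mem_iff H).mp h')
    have : x ∈ H ⊓ MulAut.conj g⁻¹ • H := ⟨hx, mem_conj_smul_iff.mpr (by rwa [inv_inv])⟩
    rw [h _ hg'] at this
    exact hx1 this

theorem isFrobeniusComplement_iff {H : Subgroup G} :
    IsFrobeniusComplement H ↔ H ≠ ⊥ ∧ H ≠ ⊤ ∧ IsMalnormal H := by
  rw [isMalnormal_iff]; rfl

theorem isMalnormal_of_isFrobeniusComplement {H : Subgroup G} (h : IsFrobeniusComplement H) :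
    IsMalnormal H := (isFrobeniusComplement_iff.mp h).2.2

theorem IsMalnormal.mem_of_commute {H : Subgroup G} (hH : IsMalnormal H) {x g : G} (hx : x ∈ H)
    (hx1 : x ≠ 1) (h : g * x = x * g) : g ∈ H :=
  hH g x hx (by rwa [h, mul_inv_cancel_right]) hx1

theorem IsMalnormal.centralizer_le {H : Subgroup G} (hH : IsMalnormal H) {x : G} (hx : x ∈ H)
    (hx1 : x ≠ 1) : centralizer {x} ≤ H := fun _ hg =>
  hH.mem_of_commute hx hx1 (Subgroup.mem_centralizer_singleton_iff.mp hg)

theorem IsMalnormal.normalizer_le {H : Subgroup G} (hH : IsMalnormal H) {A : Subgroup G}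
    (hA : A ≤ H) (hA1 : A ≠ ⊥) : normalizer (A : Set G) ≤ H := by
  intro g hg
  obtain ⟨⟨x, hx⟩, hx1⟩ := (Subgroup.ne_bot_iff_exists_ne_one).mp hA1
  exact hH g x (hA hx) (hA ((Subgroup.mem_normalizer_iff.mp hg x).mp hx))
    (fun h => hx1 (Subtype.ext h))

theorem IsMalnormal.comap {H : Subgroup G} (hH : IsMalnormal H) {L : Type*} [Group L] (f : L →* G)
    (hf : Function.Injective f) : IsMalnormal (H.comap f) := by
  intro g x hx hgx hx1
  refine hH (f g) (f x) hx (by simpa using hgx) fun h => hx1 (hf (by rw [h, map_one]))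

theorem IsMalnormal.subgroupOf {H : Subgroup G} (hH : IsMalnormal H) (L : Subgroup G) :
    IsMalnormal (H.subgroupOf L) := hH.comap _ L.subtype_injective

theorem IsMalnormal.conj_smul {H : Subgroup G} (hH : IsMalnormal H) (a : G) :
    IsMalnormal (MulAut.conj a • H) := by
  intro g x hx hgx hx1
  rw [mem_conj_smul_iff] at hx hgx ⊢
  refine hH _ _ hx (by convert hgx using 1; group) fun h => hx1 ?_
  simpa [mul_assoc, inv_mul_eq_one] using h

theorem mem_kernel_iff {H : Subgroup G} {x : G} :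
    x ∈ frobeniusKernel H ↔ x = 1 ∨ ∀ g : G, g * x * g⁻¹ ∉ H := by
  refine or_congr Iff.rfl ⟨fun h g hg => h g⁻¹ ?_, fun h g hg => h g⁻¹ ?_⟩
  · rw [mem_conj_smul_iff, inv_inv]; exact hg
  · rw [inv_inv]; exact mem_conj_smul_iff.mp hg

theorem one_mem_kernel (H : Subgroup G) : (1 : G) ∈ frobeniusKernel H := Or.inl rfl

theorem conj_mem_kernel {H : Subgroup G} {x : G} (hx : x ∈ frobeniusKernel H) (g : G) :
    g * x * g⁻¹ ∈ frobeniusKernel H := by
  rw [mem_kernel_iff] at hx ⊢
  rcases hx with rfl | hx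
  · left; simp
  · right; intro a ha; exact hx (a * g) (by convert ha using 1; group)

theorem inv_mem_kernel {H : Subgroup G} {x : G} (hx : x ∈ frobeniusKernel H) :
    x⁻¹ ∈ frobeniusKernel H := by
  rw [mem_kernel_iff] at hx ⊢
  rcases hx with rfl | hx
  · left; simp
  · right; intro a ha; exact hx a (by convert H.inv_mem ha using 1; group)

theorem eq_one_of_mem_kernel {H : Subgroup G} {x : G} (hx : x ∈ frobeniusKernel H) (hxH : x ∈ H) :
    x = 1 :=
  (mem_kernel_iff.mp hx).resolve_right fun h => h 1 (by simpa using hxH)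

theorem kernel_conj_smul (H : Subgroup G) (a : G) :
    frobeniusKernel (MulAut.conj a • H) = frobeniusKernel H := by
  ext x
  simp only [mem_kernel_iff, mem_conj_smul_iff]
  refine or_congr Iff.rfl ⟨fun h g hg => h (a * g) ?_, fun h g hg => h (a⁻¹ * g) ?_⟩
  · convert hg using 1; group
  · convert hg using 1; group

theorem smul_mk_eq_iff {H : Subgroup G} (x g : G) :
    x • (g : G ⧸ H) = g ↔ g⁻¹ * x * g ∈ H := by
  rw [MulAction.Quotient.smul_mk, smul_eq_mul, eq_comm, QuotientGroup.eq, mul_assoc]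

theorem IsMalnormal.fixed_unique {H : Subgroup G} (hH : IsMalnormal H) {x : G} (hx : x ≠ 1)
    {ω ω' : G ⧸ H} (h : x • ω = ω) (h' : x • ω' = ω') : ω = ω' := by
  obtain ⟨a, rfl⟩ := QuotientGroup.mk_surjective ω
  obtain ⟨b, rfl⟩ := QuotientGroup.mk_surjective ω'
  rw [smul_mk_eq_iff] at h h'
  rw [QuotientGroup.eq]
  refine hH _ _ h' (by convert h using 1; group) fun h1 => hx ?_
  simpa [mul_assoc, inv_mul_eq_one] using h1

theorem mem_kernel_iff_fixed {H : Subgroup G} {x : G} :
    x ∈ frobeniusKernel H ↔ x = 1 ∨ ∀ ω : G ⧸ H, x • ω ≠ ω := by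
  rw [mem_kernel_iff]
  refine or_congr Iff.rfl ⟨fun h ω => ?_, fun h g hg => h (g⁻¹ : G) ?_⟩
  · obtain ⟨a, rfl⟩ := QuotientGroup.mk_surjective ω
    rw [Ne, smul_mk_eq_iff]
    simpa using h a⁻¹
  · rw [smul_mk_eq_iff, inv_inv]; exact hg

/-- Orbit counting for an action in which non-identity elements fix at most one point. -/
theorem card_add_card_fixing {Γ X : Type*} [Group Γ] [Finite Γ] [Finite X] [MulAction Γ X]
    (h : ∀ x : Γ, x ≠ 1 → ∀ ω ω' : X, x • ω = ω → x • ω' = ω' → ω = ω') :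
    Nat.card X + Nat.card {x : Γ // x ≠ 1 ∧ ∃ ω : X, x • ω = ω} =
      Nat.card (MulAction.orbitRel.Quotient Γ X) * Nat.card Γ := by
  classical
  have := Fintype.ofFinite Γ
  have := Fintype.ofFinite X
  have := Fintype.ofFinite (MulAction.orbitRel.Quotient Γ X)
  have key := MulAction.sum_card_fixedBy_eq_card_orbits_mul_card_group Γ X
  simp only [Nat.card_eq_fintype_card]
  rw [← key, ← Finset.add_sum_erase _ _ (Finset.mem_univ (1 : Γ))]
  congr 1
  · simp
  · rw [Fintype.card_subtype, Finset.card_filter, ← Finset.add_sum_erase _ _ (Finset.mem_univ (1 : Γ))]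
    simp only [ne_eq, not_true_eq_false, false_and, if_false, zero_add]
    refine Finset.sum_congr rfl fun x hx => ?_
    have hx1 : x ≠ 1 := Finset.ne_of_mem_erase hx
    split_ifs with h1
    · obtain ⟨-, ω, hω⟩ := h1
      exact (Fintype.card_eq_one_iff.mpr ⟨⟨ω, hω⟩, fun ⟨ω', hω'⟩ =>
        Subtype.ext (h x hx1 _ _ hω' hω)⟩).symm
    · rw [eq_comm, Fintype.card_eq_zero_iff]
      exact ⟨fun ⟨ω, hω⟩ => h1 ⟨hx1, ω, hω⟩⟩

theorem card_kernel_add_card [Finite G] (H : Subgroup G) :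
    Nat.card (frobeniusKernel H) + Nat.card {x : G // x ≠ 1 ∧ ∃ ω : G ⧸ H, x • ω = ω} =
      Nat.card G := by
  classical
  rw [← Nat.card_sum]
  refine Nat.card_congr ((Equiv.sumCongr (Equiv.refl _) (Equiv.subtypeEquivRight fun x => ?_)).trans
    (Equiv.sumCompl (· ∈ frobeniusKernel H)))
  rw [mem_kernel_iff_fixed]; push Not; rfl

/-- The Frobenius kernel of a malnormal subgroup has `[G : H]` elements. -/
theorem IsMalnormal.card_kernel [Finite G] {H : Subgroup G} (hH : IsMalnormal H) :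
    Nat.card (frobeniusKernel H) = H.index := by
  have h1 := card_add_card_fixing (Γ := G) (X := G ⧸ H) fun x hx ω ω' => hH.fixed_unique hx
  have h2 := card_kernel_add_card H
  have : Nat.card (MulAction.orbitRel.Quotient G (G ⧸ H)) = 1 := by
    rw [Nat.card_eq_one_iff_unique]
    exact ⟨(MulAction.pretransitive_iff_subsingleton_quotient G (G ⧸ H)).mp inferInstance,
      ⟨Quotient.mk'' ((1 : G) : G ⧸ H)⟩⟩
  rw [this, one_mul] at h1
  rw [Subgroup.index]
  omega

/-- If every non-identity element of a finite group fixes exactly one point then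
`|X| ≡ 1` modulo the group order. -/
theorem card_modEq_one_of_existsUnique_fixed {Γ X : Type*} [Group Γ] [Finite Γ] [Finite X]
    [MulAction Γ X] (h : ∀ x : Γ, x ≠ 1 → ∃! ω : X, x • ω = ω) :
    Nat.card X ≡ 1 [MOD Nat.card Γ] := by
  classical
  have h1 := card_add_card_fixing (Γ := Γ) (X := X)
    fun x hx ω ω' h1 h2 => (h x hx).unique h1 h2
  have h2 : Nat.card {x : Γ // x ≠ 1 ∧ ∃ ω : X, x • ω = ω} + 1 = Nat.card Γ := by
    have : Nat.card {x : Γ // x = 1} = 1 := by simp
    rw [← this, add_comm, ← Nat.card_sum]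
    refine Nat.card_congr ((Equiv.sumCongr (Equiv.refl _)
      (Equiv.subtypeEquivRight fun x => ?_)).trans (Equiv.sumCompl (· = (1 : Γ))))
    exact ⟨fun h => h.1, fun hx => ⟨hx, (h x hx).exists⟩⟩
  have h3 : Nat.card X + Nat.card Γ =
      1 + Nat.card (MulAction.orbitRel.Quotient Γ X) * Nat.card Γ := by omega
  have h4 : Nat.card X + Nat.card Γ ≡ 1 [MOD Nat.card Γ] := by
    rw [h3]; simp [Nat.ModEq]
  simpa [Nat.ModEq] using h4

theorem IsMalnormal.index_modEq_one [Finite G] {H : Subgroup G} (hH : IsMalnormal H) :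
    H.index ≡ 1 [MOD Nat.card H] := by
  refine card_modEq_one_of_existsUnique_fixed (Γ := H) (X := G ⧸ H) fun x hx => ?_
  have hx' : (x : G) ≠ 1 := fun h => hx (Subtype.ext h)
  have h1 : (x : G) • ((1 : G) : G ⧸ H) = (1 : G) := by rw [smul_mk_eq_iff]; simp
  exact ⟨((1 : G) : G ⧸ H), h1, fun ω hω => hH.fixed_unique hx' hω h1⟩

theorem coprime_of_modEq_one {a n : ℕ} (h : a ≡ 1 [MOD n]) : n.Coprime a := by
  rw [Nat.Coprime, Nat.gcd_comm, h.gcd_eq, Nat.gcd_one_left]

theorem IsMalnormal.coprime_card_index [Finite G] {H : Subgroup G} (hH : IsMalnormal H) :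
    (Nat.card H).Coprime H.index := coprime_of_modEq_one hH.index_modEq_one

/-! ### Fixed-point-free action of `A` on `K` inside a common group -/

/-- If `A` normalizes `K` and no non-identity element of `A` centralizes a non-identity element
of `K`, then `|K| ≡ 1 mod |A|`. -/
theorem card_modEq_one_of_fpf {A K : Subgroup G} [Finite A] [Finite K]
    (hAK : A ≤ normalizer (K : Set G))
    (hfpf : ∀ a ∈ A, a ≠ 1 → K ⊓ centralizer {a} = ⊥) : Nat.card K ≡ 1 [MOD Nat.card A] := by
  let act : MulAction A K :=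
    { smul := fun a k => ⟨a * k * a⁻¹, (Subgroup.mem_normalizer_iff.mp (hAK a.2) k).mp k.2⟩
      one_smul := fun k => Subtype.ext (by change (1 : G) * k * (1 : G)⁻¹ = k; simp)
      mul_smul := fun a b k => Subtype.ext (by
        change (a * b : G) * k * (a * b : G)⁻¹ = a * (b * k * (b : G)⁻¹) * (a : G)⁻¹; group) }
  refine card_modEq_one_of_existsUnique_fixed (Γ := A) (X := K) fun a ha => ⟨1, ?_, fun k hk => ?_⟩
  · exact Subtype.ext (by change (a : G) * 1 * (a : G)⁻¹ = 1; simp)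
  · have h1 : (a : G) * k * (a : G)⁻¹ = k := congrArg Subtype.val hk
    have h2 : (k : G) ∈ K ⊓ centralizer {(a : G)} :=
      ⟨k.2, Subgroup.mem_centralizer_singleton_iff.mpr (mul_inv_eq_iff_eq_mul.mp h1).symm⟩
    rw [hfpf a a.2 fun h => ha (Subtype.ext h)] at h2
    exact Subtype.ext h2

theorem coprime_of_fpf {A K : Subgroup G} [Finite A] [Finite K]
    (hAK : A ≤ normalizer (K : Set G))
    (hfpf : ∀ a ∈ A, a ≠ 1 → K ⊓ centralizer {a} = ⊥) : (Nat.card A).Coprime (Nat.card K) :=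
  coprime_of_modEq_one (card_modEq_one_of_fpf hAK hfpf)

/-- The fixed-point-free condition is symmetric. -/
theorem fpf_symm {A K : Subgroup G} (hfpf : ∀ a ∈ A, a ≠ 1 → K ⊓ centralizer {a} = ⊥) :
    ∀ k ∈ K, k ≠ 1 → A ⊓ centralizer {k} = ⊥ := by
  intro k hk hk1
  rw [Subgroup.eq_bot_iff_forall]
  rintro a ⟨ha, hak⟩
  by_contra ha1
  have : k ∈ K ⊓ centralizer {a} := ⟨hk, Subgroup.mem_centralizer_singleton_iff.mpr
    (Subgroup.mem_centralizer_singleton_iff.mp hak).symm⟩
  rw [hfpf a ha ha1] at this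
  exact hk1 this

theorem fpf_iff {A K : Subgroup G} : (∀ a ∈ A, a ≠ 1 → K ⊓ centralizer {a} = ⊥) ↔
    ∀ a ∈ A, ∀ k ∈ K, a * k = k * a → a = 1 ∨ k = 1 := by
  constructor
  · intro h a ha k hk hak
    by_cases ha1 : a = 1
    · exact Or.inl ha1
    · right
      have : k ∈ K ⊓ centralizer {a} := ⟨hk, Subgroup.mem_centralizer_singleton_iff.mpr hak.symm⟩
      rw [h a ha ha1] at this
      exact this
  · intro h a ha ha1
    rw [Subgroup.eq_bot_iff_forall]
    rintro k ⟨hk, hka⟩
    exact (h a ha k hk (Subgroup.mem_centralizer_singleton_iff.mp hka).symm).resolve_left ha1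

/-- In a semidirect product `G = K ⋊ H`, `H` is malnormal iff it acts fixed-point-freely on `K`. -/
theorem isMalnormal_iff_fpf {K H : Subgroup G} [hK : K.Normal] (hc : IsComplement' K H) :
    IsMalnormal H ↔ ∀ h ∈ H, h ≠ 1 → K ⊓ centralizer {h} = ⊥ := by
  have hdisj := hc.disjoint
  rw [Subgroup.disjoint_def] at hdisj
  constructor
  · intro hH h hh hh1
    rw [Subgroup.eq_bot_iff_forall]
    rintro k ⟨hk, hkh⟩
    exact hdisj hk (hH.centralizer_le hh hh1 hkh)
  · intro hf g x hx hgx hx1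
    obtain ⟨⟨⟨k, hk⟩, ⟨h, hh⟩⟩, rfl⟩ := hc.2 g
    simp only at hgx ⊢
    have hy : h * x * h⁻¹ ∈ H := H.mul_mem (H.mul_mem hh hx) (H.inv_mem hh)
    have hy1 : h * x * h⁻¹ ≠ 1 := fun h1 => hx1 (by simpa [mul_inv_eq_one] using h1)
    have h1 : k * (h * x * h⁻¹) * k⁻¹ * (h * x * h⁻¹)⁻¹ = 1 := by
      apply hdisj
      · have := K.mul_mem hk (hK.conj_mem _ (K.inv_mem hk) (h * x * h⁻¹))
        convert this using 1; group
      · refine H.mul_mem ?_ (H.inv_mem hy)
        convert hgx using 1; group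
    have h2 : k ∈ K ⊓ centralizer {h * x * h⁻¹} := by
      refine ⟨hk, Subgroup.mem_centralizer_singleton_iff.mpr ?_⟩
      rw [mul_inv_eq_one, mul_inv_eq_iff_eq_mul] at h1
      exact h1
    rw [hf _ hy hy1, Subgroup.mem_bot] at h2
    rw [h2, one_mul]; exact hh

theorem isFrobeniusComplement_iff_fpf {K H : Subgroup G} [K.Normal] (hc : IsComplement' K H)
    (hK : K ≠ ⊥) (hH : H ≠ ⊥) :
    IsFrobeniusComplement H ↔ ∀ h ∈ H, h ≠ 1 → K ⊓ centralizer {h} = ⊥ := by
  rw [isFrobeniusComplement_iff, isMalnormal_iff_fpf hc]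
  refine ⟨fun h => h.2.2, fun h => ⟨hH, ?_, h⟩⟩
  rintro rfl
  exact hK (by simpa using hc.disjoint)

/-- A normal complement of a malnormal subgroup is the Frobenius kernel. -/
theorem IsMalnormal.coe_eq_kernel [Finite G] {K H : Subgroup G} [hK : K.Normal]
    (hH : IsMalnormal H) (hc : IsComplement' K H) : (K : Set G) = frobeniusKernel H := by
  have hdisj := hc.disjoint
  rw [Subgroup.disjoint_def] at hdisj
  refine Set.eq_of_subset_of_ncard_le (fun k hk => ?_) ?_ (Set.toFinite _)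
  · rw [mem_kernel_iff, or_iff_not_imp_left]
    intro hk1 g hg
    exact hk1 (by simpa [mul_inv_eq_one] using hdisj (hK.conj_mem k hk g) hg)
  · rw [← Nat.card_coe_set_eq, ← Nat.card_coe_set_eq, hH.card_kernel, hc.index_eq_card]
    rfl

/-- If the Frobenius kernel of a malnormal subgroup is a subgroup then it is a normal
complement. -/
theorem IsMalnormal.isComplement'_of_coe_eq_kernel [Finite G] {K H : Subgroup G}
    (hH : IsMalnormal H) (hK : (K : Set G) = frobeniusKernel H) :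
    K.Normal ∧ IsComplement' K H := by
  have hmem : ∀ x, x ∈ K ↔ x ∈ frobeniusKernel H := fun x => by rw [← hK]; rfl
  refine ⟨⟨fun x hx g => (hmem _).mpr (conj_mem_kernel ((hmem _).mp hx) g)⟩, ?_⟩
  refine Subgroup.isComplement'_of_card_mul_and_disjoint ?_ ?_
  · rw [← H.index_mul_card, ← hH.card_kernel, ← hK]; rfl
  · rw [Subgroup.disjoint_def]
    exact fun hx hxH => eq_one_of_mem_kernel ((hmem _).mp hx) hxH

/-- In a Frobenius group `K ⋊ H`, every element outside `K` is conjugate into `H` by an element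
of `K`. -/
theorem IsMalnormal.exists_conj_mem_of_not_mem [Finite G] {K H : Subgroup G} [hK : K.Normal]
    (hH : IsMalnormal H) (hc : IsComplement' K H) {x : G} (hx : x ∉ K) :
    ∃ k ∈ K, k * x * k⁻¹ ∈ H := by
  have : x ∉ frobeniusKernel H := by rwa [← hH.coe_eq_kernel hc]
  rw [mem_kernel_iff] at this
  push Not at this
  obtain ⟨-, g, hg⟩ := this
  obtain ⟨⟨⟨h, hh⟩, ⟨k, hk⟩⟩, rfl⟩ := hc.symm.2 g
  refine ⟨k, hk, ?_⟩
  have := H.mul_mem (H.mul_mem (H.inv_mem hh) hg) hh
  convert this using 1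
  group

/-- In a Frobenius group `K ⋊ H`, the centralizer of a non-identity element of `K` lies in `K`. -/
theorem IsMalnormal.centralizer_le_kernel [Finite G] {K H : Subgroup G} [hK : K.Normal]
    (hH : IsMalnormal H) (hc : IsComplement' K H) {k : G} (hk : k ∈ K) (hk1 : k ≠ 1) :
    centralizer {k} ≤ K := by
  intro x hx
  by_contra hxK
  obtain ⟨a, -, ha⟩ := hH.exists_conj_mem_of_not_mem hc hxK
  have hx1 : a * x * a⁻¹ ≠ 1 := fun h => hxK (by
    have : x = 1 := by simpa [mul_inv_eq_one] using h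
    exact this ▸ K.one_mem)
  have h1 : a * k * a⁻¹ ∈ H := hH.mem_of_commute ha hx1 (by
    have := Subgroup.mem_centralizer_singleton_iff.mp hx
    calc a * k * a⁻¹ * (a * x * a⁻¹) = a * (k * x) * a⁻¹ := by group
      _ = a * (x * k) * a⁻¹ := by rw [this]
      _ = _ := by group)
  have := Subgroup.disjoint_def.mp hc.disjoint (hK.conj_mem k hk a) h1
  exact hk1 (by simpa [mul_inv_eq_one] using this)

end CL.Frob
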