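import Cfsg.Agent.Base
import Cfsg.Agent.Solv.Frobenius

/-!
Frobenius groups, elementary part II: complements of even order, comparison of two malnormal
subgroups.
-/

namespace CL.Frob

open Subgroup Cfsg Pointwise

variable {G : Type*} [Group G]

/-- The product of two involutions fixing different points lies in the kernel. -/
theorem IsMalnormal.mul_mem_kernel_of_involutions {H : Subgroup G} (hH : IsMalnormal H) {s t : G}
    (hs1 : s ≠ 1) (hs : s * s = 1) (ht1 : t ≠ 1) (ht : t * t = 1) {α β : G ⧸ H}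
    (hα : s • α = α) (hβ : t • β = β) (hαβ : α ≠ β) : s * t ∈ frobeniusKernel H := by
  rw [mem_kernel_iff_fixed, or_iff_not_imp_left]
  intro h1 ω hω
  have h2 : t • ω = s • ω := by
    have := congrArg (s • ·) hω
    simpa only [← mul_smul, ← mul_assoc, hs, one_mul] using this
  have h3 : (s * t) • (s • ω) = s • ω := by
    conv_lhs => rw [← h2, ← mul_smul, mul_assoc, ht, mul_one]
  have h4 : s • ω = ω := hH.fixed_unique h1 h3 hω
  exact hαβ ((hH.fixed_unique hs1 hα h4).trans (hH.fixed_unique ht1 (h2.trans h4) hβ))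

/-- If a malnormal subgroup contains an involution, its Frobenius kernel is closed under
multiplication. -/
theorem IsMalnormal.mul_mem_kernel_of_involution [Finite G] {H : Subgroup G} (hH : IsMalnormal H)
    {t : G} (ht : t ∈ H) (ht1 : t ≠ 1) (ht2 : t * t = 1) {x y : G} (hx : x ∈ frobeniusKernel H)
    (hy : y ∈ frobeniusKernel H) : x * y ∈ frobeniusKernel H := by
  classical
  -- one involution for each point
  let s : G ⧸ H → G := fun ω => ω.out * t * ω.out⁻¹
  have hs1 : ∀ ω, s ω ≠ 1 := fun ω h => ht1 (by simpa [s, mul_inv_eq_one] using h)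
  have hs2 : ∀ ω, s ω * s ω = 1 := fun ω => by
    calc s ω * s ω = ω.out * (t * t) * ω.out⁻¹ := by simp only [s]; group
      _ = 1 := by rw [ht2]; simp
  have hs3 : ∀ ω, s ω • ω = ω := fun ω => by
    conv_lhs => rw [← QuotientGroup.out_eq' ω]
    conv_rhs => rw [← QuotientGroup.out_eq' ω]
    rw [smul_mk_eq_iff, QuotientGroup.out_eq']
    simpa [s, mul_assoc] using ht
  have hs4 : ∀ α β, s α * s β ∈ frobeniusKernel H := fun α β => by
    by_cases h : α = β
    · rw [h, hs2]; exact one_mem_kernel H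
    · exact hH.mul_mem_kernel_of_involutions (hs1 α) (hs2 α) (hs1 β) (hs2 β) (hs3 α) (hs3 β) h
  let ω₀ : G ⧸ H := ((1 : G) : G ⧸ H)
  let f : G ⧸ H → frobeniusKernel H := fun ω => ⟨s ω₀ * s ω, hs4 _ _⟩
  have hf : Function.Injective f := fun α β h => by
    have h1 : s α = s β := mul_left_cancel (congrArg Subtype.val h)
    exact hH.fixed_unique (hs1 α) (hs3 α) (h1 ▸ hs3 β)
  have hf' : Function.Bijective f := hf.bijective_of_nat_card_le (by rw [hH.card_kernel]; rfl)
  obtain ⟨α, hα⟩ := hf'.2 ⟨x⁻¹, inv_mem_kernel hx⟩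
  obtain ⟨β, hβ⟩ := hf'.2 ⟨y, hy⟩
  have h1 : s ω₀ * s α = x⁻¹ := congrArg Subtype.val hα
  have h2 : s ω₀ * s β = y := congrArg Subtype.val hβ
  have h3 : x = s α * s ω₀ := by
    rw [← inv_inv x, ← h1, mul_inv_rev, inv_eq_of_mul_eq_one_right (hs2 α),
      inv_eq_of_mul_eq_one_right (hs2 ω₀)]
  rw [h3, ← h2, mul_assoc, ← mul_assoc (s ω₀), hs2, one_mul]
  exact hs4 _ _

theorem two_mul_index_le [Finite G] {H : Subgroup G} (h : H ≠ ⊥) : 2 * H.index ≤ Nat.card G := by
  rw [← H.card_mul_index]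
  exact Nat.mul_le_mul_right _ ((Subgroup.one_lt_card_iff_ne_bot H).mpr h)

/-- Two nontrivial malnormal subgroups of a finite group have conjugates that meet
nontrivially. -/
theorem IsMalnormal.exists_conj_mem_inter [Finite G] {S T : Subgroup G} (hS : IsMalnormal S)
    (hT : IsMalnormal T) (hS1 : S ≠ ⊥) (hT1 : T ≠ ⊥) :
    ∃ x ∈ S, x ≠ 1 ∧ ∃ g : G, g * x * g⁻¹ ∈ T := by
  classical
  by_contra h
  push Not at h
  have huniv : frobeniusKernel S ∪ frobeniusKernel T = Set.univ := by
    rw [Set.eq_univ_iff_forall]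
    intro x
    by_contra hx
    rw [Set.mem_union, mem_kernel_iff, mem_kernel_iff] at hx
    push Not at hx
    obtain ⟨⟨hx1, a, ha⟩, -, b, hb⟩ := hx
    refine h _ ha (fun h1 => hx1 (by simpa [mul_inv_eq_one] using h1)) (b * a⁻¹) ?_
    convert hb using 1; group
  have h1 := Set.ncard_union_add_ncard_inter (frobeniusKernel S) (frobeniusKernel T)
  have h2 : 0 < (frobeniusKernel S ∩ frobeniusKernel T).ncard :=
    (Set.ncard_pos (Set.toFinite _)).mpr ⟨1, one_mem_kernel S, one_mem_kernel T⟩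
  rw [huniv, Set.ncard_univ, ← Nat.card_coe_set_eq (frobeniusKernel S),
    ← Nat.card_coe_set_eq (frobeniusKernel T), hS.card_kernel, hT.card_kernel] at h1
  have h3 := two_mul_index_le hS1
  have h4 := two_mul_index_le hT1
  omega

/-- A subgroup `L` meeting the Frobenius kernel of a malnormal subgroup `H` trivially is
conjugate to a subgroup of `H`. -/
theorem IsMalnormal.exists_conj_smul_le [Finite G] {H L : Subgroup G} (hH : IsMalnormal H)
    (hL : ∀ x ∈ L, x ∈ frobeniusKernel H → x = 1) : ∃ g : G, MulAut.conj g • L ≤ H := by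
  by_cases hL1 : L = ⊥
  · exact ⟨1, by simp [hL1]⟩
  have hfix : ∀ x ∈ L, x ≠ 1 → ∃ g : G, x ∈ MulAut.conj g • H := by
    intro x hx hx1
    by_contra h
    push Not at h
    exact hx1 (hL x hx (Or.inr h))
  obtain ⟨⟨x, hx⟩, hx1⟩ := (Subgroup.ne_bot_iff_exists_ne_one).mp hL1
  have hx1' : x ≠ 1 := fun h => hx1 (Subtype.ext h)
  obtain ⟨a, ha⟩ := hfix x hx hx1'
  have hmal : ∀ g : G, IsMalnormal ((MulAut.conj g • H).subgroupOf L) := fun g =>
    (hH.conj_smul g).subgroupOf L
  have hne : ∀ (g y : G) (_ : y ∈ L), y ≠ 1 → y ∈ MulAut.conj g • H →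
      (MulAut.conj g • H).subgroupOf L ≠ ⊥ := fun g y hy hy1 hyg h => by
    have : (⟨y, hy⟩ : L) ∈ (MulAut.conj g • H).subgroupOf L := hyg
    rw [h, Subgroup.mem_bot] at this
    exact hy1 (congrArg Subtype.val this)
  -- the kernel of `L ∩ H^a` in `L` is trivial
  have hker : frobeniusKernel ((MulAut.conj a • H).subgroupOf L) = {1} := by
    rw [Set.eq_singleton_iff_unique_mem]
    refine ⟨one_mem_kernel _, fun y hy => ?_⟩
    by_contra hy1
    have hy1' : (y : G) ≠ 1 := fun h => hy1 (Subtype.ext h)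
    obtain ⟨b, hb⟩ := hfix y y.2 hy1'
    obtain ⟨z, hz, hz1, c, hc⟩ := (hmal b).exists_conj_mem_inter (hmal a)
      (hne b y y.2 hy1' hb) (hne a x hx hx1' ha)
    rw [Subgroup.mem_subgroupOf, mem_conj_smul_iff] at hz hc
    have h1 : a⁻¹ * c * b ∈ H := hH _ _ hz (by convert hc using 1; push_cast; group) (fun h =>
      hz1 (Subtype.ext (by simpa [mul_assoc, inv_mul_eq_one] using h)))
    refine ((mem_kernel_iff.mp hy).resolve_left hy1) c ?_
    rw [Subgroup.mem_subgroupOf, mem_conj_smul_iff]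
    rw [mem_conj_smul_iff] at hb
    convert H.mul_mem (H.mul_mem h1 hb) (H.inv_mem h1) using 1
    push_cast; group
  have h1 := (hmal a).card_kernel
  rw [hker, Nat.card_unique, eq_comm, Subgroup.index_eq_one, Subgroup.subgroupOf_eq_top] at h1
  refine ⟨a⁻¹, ?_⟩
  rw [map_inv, Subgroup.pointwise_smul_subset_iff, inv_inv]
  exact h1

/-- Of two malnormal subgroups, the one of smaller order is conjugate into the other. -/
theorem IsMalnormal.exists_conj_smul_le_of_card_le [Finite G] {H H₀ : Subgroup G}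
    (hH : IsMalnormal H) (hH₀ : IsMalnormal H₀) (hle : Nat.card H₀ ≤ Nat.card H) :
    ∃ g : G, MulAut.conj g • H₀ ≤ H := by
  classical
  refine hH.exists_conj_smul_le fun k hk₀ hk => ?_
  by_contra hk1
  let s : G ⧸ H₀ → G := fun ω => ω.out * k * ω.out⁻¹
  have hs1 : ∀ ω, s ω ≠ 1 := fun ω h => hk1 (by simpa [s, mul_inv_eq_one] using h)
  have hs3 : ∀ ω, s ω • ω = ω := fun ω => by
    conv_lhs => rw [← QuotientGroup.out_eq' ω]
    conv_rhs => rw [← QuotientGroup.out_eq' ω]
    rw [smul_mk_eq_iff, QuotientGroup.out_eq']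
    simpa [s, mul_assoc] using hk₀
  let f : Option (G ⧸ H₀) → frobeniusKernel H := fun o => match o with
    | none => ⟨1, one_mem_kernel H⟩
    | some ω => ⟨s ω, conj_mem_kernel hk _⟩
  have hf : Function.Injective f := by
    rintro (_ | α) (_ | β) h
    · rfl
    · exact absurd (congrArg Subtype.val h).symm (hs1 β)
    · exact absurd (congrArg Subtype.val h) (hs1 α)
    · have h1 : s α = s β := congrArg Subtype.val h
      rw [hH₀.fixed_unique (hs1 α) (hs3 α) (h1 ▸ hs3 β)]
  have h1 := Nat.card_le_card_of_injective f hf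
  rw [hH.card_kernel, Finite.card_option, ← Subgroup.index] at h1
  have h2 := H.card_mul_index
  have h3 := H₀.card_mul_index
  have h4 : Nat.card H₀ * (H₀.index + 1) ≤ Nat.card H * H.index := Nat.mul_le_mul hle h1
  have h5 : 0 < Nat.card H₀ := Nat.card_pos
  nlinarith

end CL.Frob
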