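import Cfsg.Agent.Solv.CoprimeAbelian

/-!
# Generation by centralisers under a coprime action of an abelian group
-/

set_option autoImplicit false

namespace CL

open Subgroup
open scoped Pointwise commutatorElement IsMulCommutative

/-- The norm `∏_{j<q} γ^j w` is fixed by `γ` when `γ ^ q = 1`. -/
theorem end_apply_prod_pow {W : Type*} [CommGroup W] (γ : Monoid.End W) {q : ℕ} (h : γ ^ q = 1)
    (w : W) : γ (∏ j ∈ Finset.range q, (γ ^ j) w) = ∏ j ∈ Finset.range q, (γ ^ j) w := by
  rw [map_prod]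
  have h1 : ∀ j, γ ((γ ^ j) w) = (γ ^ (j + 1)) w := fun j => by rw [pow_succ']; rfl
  simp only [h1]
  have h2 := Finset.prod_range_succ' (fun j => (γ ^ j) w) q
  have h3 := Finset.prod_range_succ (fun j => (γ ^ j) w) q
  rw [h2, h, pow_zero] at h3
  exact mul_right_cancel h3

/-- The partition identity for `ℤ/q × ℤ/q` acting on an abelian group. -/
theorem pow_mem_of_fixed_mem {W : Type*} [CommGroup W] (α β : Monoid.End W) {q : ℕ}
    (hα : α ^ q = 1) (hβ : β ^ q = 1) (hc : Commute α β) (H : Subgroup W)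
    (h1 : ∀ j, 0 < j → j < q → ∀ w, (α ^ j) w = w → w ∈ H)
    (h2 : ∀ i, ∀ w, (α ^ i * β) w = w → w ∈ H) (w : W) : w ^ q ∈ H := by
  rcases q with _ | q
  · simp
  have h3 : ∏ i ∈ Finset.range (q + 1), ∏ j ∈ Finset.range (q + 1), ((α ^ i * β) ^ j) w ∈ H :=
    H.prod_mem fun i _ => h2 i _ (end_apply_prod_pow _ (by
      rw [(hc.pow_left i).mul_pow, hβ, ← pow_mul, mul_comm i, pow_mul, hα, one_pow, mul_one]) w)
  rw [Finset.prod_comm, Finset.prod_range_succ'] at h3
  have h4 : ∏ j ∈ Finset.range q, ∏ i ∈ Finset.range (q + 1), ((α ^ i * β) ^ (j + 1)) w ∈ H := by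
    refine H.prod_mem fun j hj => h1 (j + 1) (by omega) (by simpa using hj) _ ?_
    have : ∀ i, ((α ^ i * β) ^ (j + 1)) w = ((α ^ (j + 1)) ^ i) ((β ^ (j + 1)) w) := fun i => by
      rw [(hc.pow_left i).mul_pow, ← pow_mul, mul_comm i, pow_mul]; rfl
    simp only [this]
    exact end_apply_prod_pow _ (by rw [← pow_mul, mul_comm, pow_mul, hα, one_pow]) _
  have h5 := (H.mul_mem_cancel_left h4).1 h3
  simpa using h5

/-- A finite non-cyclic abelian group contains `ℤ/q × ℤ/q` for some prime `q`. -/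
theorem exists_rank_two_of_not_isCyclic (A : Type*) [CommGroup A] [Finite A] (hA : ¬ IsCyclic A) :
    ∃ q : ℕ, q.Prime ∧ ∃ x y : A, orderOf x = q ∧ y ^ q = 1 ∧ y ∉ zpowers x := by
  classical
  obtain ⟨x, hx⟩ := Monoid.exists_orderOf_eq_exponent (G := A) Monoid.ExponentExists.of_finite
  have hne : ∃ n, ∃ y : A, y ∉ zpowers x ∧ orderOf y = n := by
    by_contra! h
    exact hA ⟨⟨x, fun y => by_contra fun hy => h _ y hy rfl⟩⟩
  obtain ⟨y, hy, hyn⟩ := Nat.find_spec hne
  have hy1 : orderOf y ≠ 1 := by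
    rw [Ne, orderOf_eq_one_iff]; rintro rfl; exact hy (one_mem _)
  obtain ⟨q, hq, hqd⟩ := Nat.exists_prime_and_dvd hy1
  have hyq : y ^ q ∈ zpowers x := by
    by_contra hcon
    have := Nat.find_min' hne ⟨_, hcon, rfl⟩
    rw [← hyn, orderOf_pow_of_dvd hq.ne_zero hqd] at this
    exact absurd this (not_le.2 (Nat.div_lt_self (orderOf_pos y) hq.one_lt))
  obtain ⟨k, hk⟩ := (mem_powers_iff_mem_zpowers.2 hyq)
  simp only at hk
  have hqn : q ∣ orderOf x := hx ▸ hqd.trans (Monoid.order_dvd_exponent y)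
  obtain ⟨m, hm⟩ := hqn
  have hm0 : 0 < m := Nat.pos_of_ne_zero (by rintro rfl; exact (orderOf_pos x).ne' hm)
  have hk' : q ∣ k := by
    have : x ^ (k * m) = 1 := by
      rw [pow_mul, hk, ← pow_mul, ← hm, hx, Monoid.pow_exponent_eq_one]
    have h2 := orderOf_dvd_of_pow_eq_one this
    rw [hm] at h2
    exact Nat.dvd_of_mul_dvd_mul_right hm0 h2
  obtain ⟨k', rfl⟩ := hk'
  refine ⟨q, hq, x ^ m, y * (x ^ k')⁻¹, ?_, ?_, fun h => hy ?_⟩
  · rw [orderOf_pow_of_dvd hm0.ne' (hm ▸ dvd_mul_left m q), hm, Nat.mul_div_cancel _ hm0]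
  · rw [mul_pow, ← hk, inv_pow, ← pow_mul, mul_comm k', mul_inv_cancel]
  · have h1 : y * (x ^ k')⁻¹ ∈ zpowers x :=
      (zpowers_le_of_mem (pow_mem (mem_zpowers x) m)) h
    simpa using Subgroup.mul_mem _ h1 (pow_mem (mem_zpowers x) k')

variable {G : Type*} [Group G]

/-- A subgroup of `K` containing a Sylow `p`-subgroup of `K` for every prime `p` is `K`. -/
theorem eq_of_le_of_forall_sylow_le [Finite G] {H K : Subgroup G} (hHK : H ≤ K)
    (h : ∀ p : ℕ, p.Prime → ∃ P : Subgroup G, P ≤ H ∧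
      Nat.card P = p ^ (Nat.card K).factorization p) : H = K := by
  refine eq_of_le_of_card_ge hHK (Nat.le_of_dvd Nat.card_pos ?_)
  rw [← Nat.factorization_prime_le_iff_dvd Nat.card_pos.ne' Nat.card_pos.ne']
  intro p hp
  obtain ⟨P, hP, hc⟩ := h p hp
  rw [← hp.pow_dvd_iff_le_factorization Nat.card_pos.ne', ← hc]
  exact card_dvd_of_le hP

/-- Core of the generation theorem: two commuting elements `x, y` acting as `ℤ/q × ℤ/q`. -/
theorem le_of_rank_two_aux [Finite G] {A : Subgroup G} {x y : G} (hx : x ∈ A) (hy : y ∈ A)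
    (hxy : Commute x y) {q : ℕ} (hqA : q ∣ Nat.card A) (K : Subgroup G) (hK : Group.IsSolvable K)
    (hAK : A ≤ normalizer (K : Set G)) (hcop : (Nat.card A).Coprime (Nat.card K))
    (hxq : x ^ q ∈ centralizer (K : Set G)) (hyq : y ^ q ∈ centralizer (K : Set G))
    (H : Subgroup G) (h1 : ∀ j, 0 < j → j < q → K ⊓ centralizer {x ^ j} ≤ H)
    (h2 : ∀ i : ℕ, K ⊓ centralizer {x ^ i * y} ≤ H) : K ≤ H := by
  induction K using WellFoundedLT.induction with
  | ind K ih =>
    by_cases hb : K = ⊥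
    · rw [hb]; exact bot_le
    have hlt := commutator_lt_of_isSolvable hK hb
    have hK' : ⁅K, K⁆ ≤ H := ih _ hlt (isSolvable_of_le hlt.le hK) (le_normalizer_commutator hAK hAK)
      (coprime_card_of_le le_rfl hlt.le hcop) (centralizer_le hlt.le hxq)
      (centralizer_le hlt.le hyq)
      (fun j h h' => (inf_le_inf_right _ hlt.le).trans (h1 j h h'))
      (fun i => (inf_le_inf_right _ hlt.le).trans (h2 i))
    let ρ : A →* Monoid.End (Abelianization K) :=
      { toFun := fun a => Abelianization.map (conjOn hAK a)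
        map_one' := by
          have : conjOn hAK 1 = MonoidHom.id K := MonoidHom.ext (conjOn_one hAK)
          rw [this, Abelianization.map_id]; rfl
        map_mul' := fun a b => by
          have : conjOn hAK (a * b) = (conjOn hAK a).comp (conjOn hAK b) :=
            MonoidHom.ext (conjOn_mul hAK a b)
          rw [this, ← Abelianization.map_comp]; rfl }
    have hρ : ∀ (a : A) (k : K), ρ a (Abelianization.of k) = Abelianization.of (conjOn hAK a k) :=
      fun a k => rfl
    have hρ1 : ∀ a : A, (a : G) ∈ centralizer (K : Set G) → ρ a = 1 := by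
      intro a ha
      have : conjOn hAK a = MonoidHom.id K := by
        ext k
        rw [coe_conjOn, ← mem_centralizer_iff.1 ha k k.2]; simp
      show Abelianization.map (conjOn hAK a) = _
      rw [this, Abelianization.map_id]; rfl
    have hfix : ∀ a : A, K ⊓ centralizer {(a : G)} ≤ H → ∀ w, ρ a w = w →
        w ∈ (H.subgroupOf K).map Abelianization.of := by
      intro a ha w hw
      obtain ⟨k, rfl⟩ : ∃ k : K, Abelianization.of k = w := QuotientGroup.mk_surjective w
      have hz : zpowers (a : G) ≤ A := zpowers_le_of_mem a.2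
      obtain ⟨n, hn, c, hc, h⟩ := coprime_fixed_mod (A := zpowers (a : G)) (N := ⁅K, K⁆)
        (hz.trans (le_normalizer_commutator hAK hAK)) (coprime_card_of_le hz hlt.le hcop)
        (Or.inr (isSolvable_of_le hlt.le hK)) hlt.le k.2 (fun b hb => by
          obtain ⟨m, rfl⟩ := mem_powers_iff_mem_zpowers.2 hb
          have h3 : ρ (a ^ m) (Abelianization.of k) = Abelianization.of k := by
            rw [map_pow]
            induction m with
            | zero => rfl
            | succ m ihm =>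
              rw [pow_succ]
              show (ρ a ^ m) (ρ a _) = _
              rw [hw]; exact ihm (pow_mem (mem_zpowers _) m)
          rw [hρ, ← mul_inv_eq_one, ← map_inv, ← map_mul, ← MonoidHom.mem_ker,
            Abelianization.ker_of] at h3
          rw [← map_subtype_commutator]
          exact ⟨_, h3, by simp [coe_conjOn]⟩)
      refine ⟨k, ?_, rfl⟩
      show (k : G) ∈ H
      rw [h]
      refine H.mul_mem (hK' hn) (ha ⟨hc.1, centralizer_le ?_ hc.2⟩)
      simp
    have hall := pow_mem_of_fixed_mem (ρ ⟨x, hx⟩) (ρ ⟨y, hy⟩) (q := q)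
      (by rw [← map_pow]; exact hρ1 _ hxq) (by rw [← map_pow]; exact hρ1 _ hyq)
      (Commute.map (show Commute (⟨x, hx⟩ : A) ⟨y, hy⟩ from Subtype.ext hxy) ρ)
      ((H.subgroupOf K).map Abelianization.of)
      (fun j h h' w hw => hfix ((⟨x, hx⟩ : A) ^ j) (by simpa using h1 j h h') w
        (by rwa [map_pow]))
      (fun i w hw => hfix ((⟨x, hx⟩ : A) ^ i * ⟨y, hy⟩) (by simpa using h2 i) w
        (by rwa [map_mul, map_pow]))
    intro k hk
    obtain ⟨k', hk'⟩ := (powCoprime (hcop.coprime_dvd_left hqA).symm).surjective ⟨k, hk⟩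
    rw [powCoprime_apply] at hk'
    obtain ⟨h, hh, he⟩ := hall (Abelianization.of k')
    rw [← map_pow, hk', eq_comm, ← mul_inv_eq_one, ← map_inv, ← map_mul, ← MonoidHom.mem_ker,
      Abelianization.ker_of] at he
    have h5 : k * (h : G)⁻¹ ∈ H := hK' (by
      rw [← map_subtype_commutator]; exact ⟨_, he, rfl⟩)
    simpa using H.mul_mem h5 hh

/-- Relative generation theorem: `A` abelian acting coprimely on `K`, `D ≤ A` centralising `K` with `A/D`
not cyclic. Then `K` is generated by the `C_K(a)`, `a ∈ A \ D`. -/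
theorem coprime_le_of_forall_centralizer_le [Finite G] {A D K : Subgroup G} [IsMulCommutative A]
    (hAK : A ≤ normalizer (K : Set G)) (hcop : (Nat.card A).Coprime (Nat.card K))
    (hDK : D ≤ centralizer (K : Set G)) (hA : ∀ a ∈ A, ¬ A ≤ D ⊔ zpowers a)
    (H : Subgroup G) (hH : ∀ a ∈ A, a ∉ D → K ⊓ centralizer {a} ≤ H) : K ≤ H := by
  have hnc : ¬ IsCyclic (A ⧸ D.subgroupOf A) := by
    rintro ⟨g, hg⟩
    obtain ⟨a, rfl⟩ := QuotientGroup.mk_surjective g
    refine hA a a.2 (fun b hb => ?_)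
    obtain ⟨n, hn⟩ := hg ((⟨b, hb⟩ : A) : A ⧸ D.subgroupOf A)
    simp only at hn
    rw [← QuotientGroup.mk_zpow, QuotientGroup.eq] at hn
    have h1 : ((a : G) ^ n)⁻¹ * b ∈ D := by simpa [mem_subgroupOf] using hn
    have : b = (a : G) ^ n * (((a : G) ^ n)⁻¹ * b) := by group
    rw [this, sup_comm]
    exact mul_mem_sup (zpow_mem (mem_zpowers _) n) h1
  obtain ⟨q, hq, x', y', hx', hy', hxy⟩ := exists_rank_two_of_not_isCyclic _ hnc
  obtain ⟨x, rfl⟩ := QuotientGroup.mk_surjective x'
  obtain ⟨y, rfl⟩ := QuotientGroup.mk_surjective y'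
  have hqA : q ∣ Nat.card A := hx' ▸ (_root_.orderOf_dvd_natCard _).trans (card_quotient_dvd_card _)
  have hxq : (x : G) ^ q ∈ D := by
    have : ((x ^ q : A) : A ⧸ D.subgroupOf A) = 1 := by
      rw [QuotientGroup.mk_pow, ← hx', pow_orderOf_eq_one]
    simpa [mem_subgroupOf] using (QuotientGroup.eq_one_iff _).1 this
  have hyq : (y : G) ^ q ∈ D := by
    have : ((y ^ q : A) : A ⧸ D.subgroupOf A) = 1 := by rw [QuotientGroup.mk_pow, hy']
    simpa [mem_subgroupOf] using (QuotientGroup.eq_one_iff _).1 this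
  have h1 : ∀ j, 0 < j → j < q → (x : G) ^ j ∉ D := by
    intro j h h' hD
    have : ((x ^ j : A) : A ⧸ D.subgroupOf A) = 1 := (QuotientGroup.eq_one_iff _).2 hD
    rw [QuotientGroup.mk_pow] at this
    exact absurd (Nat.le_of_dvd h (hx' ▸ orderOf_dvd_of_pow_eq_one this)) (not_le.2 h')
  have h2 : ∀ i : ℕ, (x : G) ^ i * y ∉ D := by
    intro i hD
    have : ((x ^ i * y : A) : A ⧸ D.subgroupOf A) = 1 := (QuotientGroup.eq_one_iff _).2 hD
    rw [QuotientGroup.mk_mul, QuotientGroup.mk_pow, mul_eq_one_iff_inv_eq] at this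
    exact hxy (this ▸ inv_mem (pow_mem (mem_zpowers _) i))
  rw [← inf_eq_left, inf_comm]
  refine eq_of_le_of_forall_sylow_le inf_le_right (fun p hp => ?_)
  have := Fact.mk hp
  obtain ⟨P, hPK, hP, hAP⟩ := coprime_exists_invariant_sylow hAK hcop
    (Or.inl (isSolvable_of_isMulCommutative A)) p
  refine ⟨P, le_inf ?_ hPK, hP⟩
  have : Group.IsNilpotent P := (IsPGroup.of_card hP).isNilpotent
  exact le_of_rank_two_aux x.2 y.2 (congrArg Subtype.val (mul_comm x y)) hqA P inferInstance hAP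
    (coprime_card_of_le le_rfl hPK hcop) (centralizer_le hPK (hDK hxq))
    (centralizer_le hPK (hDK hyq)) H
    (fun j h h' => (inf_le_inf_right _ hPK).trans (hH _ (A.pow_mem x.2 j) (h1 j h h')))
    (fun i => (inf_le_inf_right _ hPK).trans (hH _ (A.mul_mem (A.pow_mem x.2 i) y.2) (h2 i)))

/-- A non-cyclic abelian group `A` acting coprimely on `K`: any subgroup containing all `C_K(a)`,
`1 ≠ a ∈ A`, contains `K`. -/
theorem coprime_le_of_not_isCyclic [Finite G] {A K : Subgroup G} [IsMulCommutative A]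
    (hA : ¬ IsCyclic A) (hAK : A ≤ normalizer (K : Set G))
    (hcop : (Nat.card A).Coprime (Nat.card K))
    (H : Subgroup G) (hH : ∀ a ∈ A, a ≠ 1 → K ⊓ centralizer {a} ≤ H) : K ≤ H :=
  coprime_le_of_forall_centralizer_le (D := ⊥) hAK hcop bot_le (fun a ha h => hA (by
    rw [bot_sup_eq] at h
    rw [le_antisymm h (zpowers_le_of_mem ha)]
    infer_instance)) H (fun a ha h => hH a ha (by rwa [mem_bot] at h))

/-- `K = ⟨C_K(a) : 1 ≠ a ∈ A⟩` for a non-cyclic abelian `A` acting coprimely. -/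
theorem coprime_iSup_centralizer [Finite G] {A K : Subgroup G} [IsMulCommutative A]
    (hA : ¬ IsCyclic A) (hAK : A ≤ normalizer (K : Set G))
    (hcop : (Nat.card A).Coprime (Nat.card K)) :
    (⨆ a ∈ {a : G | a ∈ A ∧ a ≠ 1}, K ⊓ centralizer {a}) = K :=
  le_antisymm (iSup₂_le fun _ _ => inf_le_left) (coprime_le_of_not_isCyclic hA hAK hcop _
    (fun a ha h => le_iSup₂_of_le (f := fun a (_ : a ∈ {a : G | a ∈ A ∧ a ≠ 1}) =>
      K ⊓ centralizer {a}) a ⟨ha, h⟩ le_rfl))

/-- A non-cyclic abelian group acting coprimely on `K ≠ 1` has a non-identity element with non-trivial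
fixed points. -/
theorem coprime_exists_centralizer_ne_bot [Finite G] {A K : Subgroup G} [IsMulCommutative A]
    (hA : ¬ IsCyclic A) (hAK : A ≤ normalizer (K : Set G))
    (hcop : (Nat.card A).Coprime (Nat.card K)) (hK : K ≠ ⊥) :
    ∃ a ∈ A, a ≠ 1 ∧ K ⊓ centralizer {a} ≠ ⊥ := by
  by_contra! h
  exact hK (eq_bot_iff.2 (coprime_le_of_not_isCyclic hA hAK hcop ⊥ fun a ha h1 => (h a ha h1).le))

/-- Cocyclic version, relative form: `K` is generated by the `C_K(B)` with `D ≤ B ≤ A` and `A/B`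
cyclic. -/
theorem coprime_le_of_cocyclic_aux [Finite G] {A : Subgroup G} [IsMulCommutative A] (H : Subgroup G)
    (D : Subgroup G) (hD : D ≤ A) (K : Subgroup G)
    (hAK : A ≤ normalizer (K : Set G)) (hcop : (Nat.card A).Coprime (Nat.card K))
    (hDK : D ≤ centralizer (K : Set G))
    (hH : ∀ B : Subgroup G, D ≤ B → B ≤ A → (∃ a ∈ A, B ⊔ zpowers a = A) →
      K ⊓ centralizer (B : Set G) ≤ H) : K ≤ H := by
  induction D using WellFoundedGT.induction generalizing K with
  | ind D ih =>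
    by_cases hc : ∃ a ∈ A, A ≤ D ⊔ zpowers a
    · obtain ⟨a, ha, h⟩ := hc
      refine le_trans (le_inf le_rfl (le_centralizer_iff.1 hDK)) (hH D le_rfl hD ⟨a, ha, ?_⟩)
      exact le_antisymm (sup_le hD (zpowers_le_of_mem ha)) h
    · push Not at hc
      refine coprime_le_of_forall_centralizer_le hAK hcop hDK hc H (fun a ha haD => ?_)
      have hlt : D < D ⊔ zpowers a :=
        lt_of_le_of_ne le_sup_left (fun h => haD (h ▸ mem_sup_right (mem_zpowers a)))
      refine ih _ hlt (sup_le hD (zpowers_le_of_mem ha)) _ (le_normalizer_inf hAK ?_)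
        (coprime_card_of_le le_rfl inf_le_left hcop) (sup_le ?_ ?_) (fun B h1 h2 h3 => ?_)
      · have : A ≤ centralizer {a} := fun b hb =>
          mem_centralizer_singleton_iff.2 (congrArg Subtype.val (mul_comm (⟨b, hb⟩ : A) ⟨a, ha⟩))
        exact this.trans le_normalizer
      · exact hDK.trans (centralizer_le (SetLike.coe_subset_coe.2 inf_le_left))
      · rw [zpowers_le, mem_centralizer_iff]
        exact fun k hk => mem_centralizer_singleton_iff.1 hk.2
      · exact (inf_le_inf_right _ inf_le_left).trans (hH B (hlt.le.trans h1) h2 h3)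

/-- `A` abelian acting coprimely on `K`: `K` is generated by the `C_K(B)` with `B ≤ A` and `A/B` cyclic. -/
theorem coprime_le_of_cocyclic [Finite G] {A K : Subgroup G} [IsMulCommutative A]
    (hAK : A ≤ normalizer (K : Set G)) (hcop : (Nat.card A).Coprime (Nat.card K)) (H : Subgroup G)
    (hH : ∀ B : Subgroup G, B ≤ A → (∃ a ∈ A, B ⊔ zpowers a = A) →
      K ⊓ centralizer (B : Set G) ≤ H) : K ≤ H :=
  coprime_le_of_cocyclic_aux H ⊥ bot_le K hAK hcop bot_le (fun B _ => hH B)

/-- Hyperplane version: `A` abelian of exponent dividing the prime `p`, `p ∤ |K|`; then `K` is generated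
by the `C_K(B)` with `B ≤ A` of index dividing `p`. -/
theorem coprime_le_of_hyperplanes [Finite G] {A K : Subgroup G} [IsMulCommutative A] {p : ℕ}
    (hAp : ∀ a ∈ A, a ^ p = 1)
    (hAK : A ≤ normalizer (K : Set G)) (hcop : (Nat.card A).Coprime (Nat.card K)) (H : Subgroup G)
    (hH : ∀ B : Subgroup G, B ≤ A → B.relIndex A ∣ p → K ⊓ centralizer (B : Set G) ≤ H) :
    K ≤ H := by
  refine coprime_le_of_cocyclic hAK hcop H (fun B hB ⟨a, ha, h⟩ => hH B hB ?_)
  have h1 : (B.subgroupOf A).relIndex ((zpowers a).subgroupOf A ⊔ B.subgroupOf A) =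
      (B.subgroupOf A).relIndex ((zpowers a).subgroupOf A) := relIndex_sup_right _ _
  rw [← subgroupOf_sup (zpowers_le_of_mem ha) hB, sup_comm, h, subgroupOf_self, relIndex_top_right,
    relIndex_subgroupOf (zpowers_le_of_mem ha)] at h1
  rw [relIndex, h1]
  refine (relIndex_dvd_card _ _).trans ?_
  rw [Nat.card_zpowers]
  exact orderOf_dvd_of_pow_eq_one (hAp a ha)

end CL
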