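import Cfsg.Agent.Base

/-!
# Glauberman's lemma on coprime action (ambient form)

`G` is a finite group acting on `X`; `A, L ≤ G` with `A` normalising `L`, of coprime orders, one of them
solvable.  If the `L`-orbit of `x₀` is `A`-invariant then it contains an `A`-fixed point
(`CL.glauberman_fixed`), and `C_L(A)` is transitive on the `A`-fixed points of an `L`-orbit
(`CL.glauberman_conj`).  An `A`-invariant coset `N k` contains an `A`-fixed element
(`CL.exists_centralizer_of_coset`).
-/

set_option autoImplicit false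

namespace CL

open Subgroup MulAction
open scoped commutatorElement Pointwise

universe u

/-- Averaging: a cocycle with values in a finite abelian group of coprime order splits. -/
theorem cocycle_split_comm {A Q : Type*} [Group A] [Finite A] [CommGroup Q] [Finite Q]
    (hcop : (Nat.card A).Coprime (Nat.card Q)) (c : A → Q →* Q) (f : A → Q)
    (hf : ∀ a b, f (b * a) = c b (f a) * f b) : ∃ t : Q, ∀ b, t = c b t * f b := by
  classical
  have := Fintype.ofFinite A
  set s : Q := ∏ a, f a with hs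
  have hinj : Function.Bijective (fun x : Q => x ^ Nat.card A) := (powCoprime hcop.symm).bijective
  obtain ⟨t, ht⟩ := hinj.2 s
  refine ⟨t, fun b => hinj.1 ?_⟩
  have h1 : s = c b s * f b ^ Nat.card A := by
    calc s = ∏ a, f (b * a) := (Fintype.prod_equiv (Equiv.mulLeft b) _ _ (fun _ => rfl)).symm
      _ = ∏ a, (c b (f a) * f b) := by simp only [hf]
      _ = c b s * f b ^ Nat.card A := by
        rw [Finset.prod_mul_distrib, Finset.prod_const, hs, map_prod, Finset.card_univ,
          Nat.card_eq_fintype_card]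
  simp only at ht ⊢
  rw [mul_pow, ← map_pow, ht, ← h1]

section
variable {G : Type u} [Group G]

theorem conj_mem_of_le_normalizer {A L : Subgroup G} (h : A ≤ normalizer (L : Set G)) {a l : G}
    (ha : a ∈ A) (hl : l ∈ L) : a * l * a⁻¹ ∈ L := le_normalizer_iff.1 h a ha l hl

theorem conj_inv_mem_of_le_normalizer {A L : Subgroup G} (h : A ≤ normalizer (L : Set G)) {a l : G}
    (ha : a ∈ A) (hl : l ∈ L) : a⁻¹ * l * a ∈ L := by
  simpa using le_normalizer_iff.1 h a⁻¹ (A.inv_mem ha) l hl

theorem inf_eq_bot_of_coprime_card {A L : Subgroup G}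
    (h : (Nat.card A).Coprime (Nat.card L)) : A ⊓ L = ⊥ := by
  apply Subgroup.eq_bot_of_card_eq
  exact Nat.eq_one_of_dvd_coprimes h (card_dvd_of_le inf_le_left) (card_dvd_of_le inf_le_right)

theorem le_normalizer_commutator {A H K : Subgroup G} (hH : A ≤ normalizer (H : Set G))
    (hK : A ≤ normalizer (K : Set G)) : A ≤ normalizer ((⁅H, K⁆ : Subgroup G) : Set G) := by
  rw [Subgroup.commutator_def, le_normalizer_closure_iff]
  rintro a ha _ ⟨h, hh, k, hk, rfl⟩
  rw [conjugate_commutatorElement]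
  exact subset_closure ⟨_, conj_mem_of_le_normalizer hH ha hh, _,
    conj_mem_of_le_normalizer hK ha hk, rfl⟩

theorem le_normalizer_centralizer {A B : Subgroup G} (h : A ≤ normalizer (B : Set G)) :
    A ≤ normalizer ((centralizer (B : Set G) : Subgroup G) : Set G) := by
  rw [le_normalizer_iff]
  intro a ha c hc
  rw [mem_centralizer_iff] at hc ⊢
  intro b hb
  have := hc _ (conj_inv_mem_of_le_normalizer h ha hb)
  calc b * (a * c * a⁻¹) = a * (a⁻¹ * b * a * c) * a⁻¹ := by group
    _ = a * (c * (a⁻¹ * b * a)) * a⁻¹ := by rw [this]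
    _ = a * c * a⁻¹ * b := by group

theorem le_normalizer_inf {A H K : Subgroup G} (hH : A ≤ normalizer (H : Set G))
    (hK : A ≤ normalizer (K : Set G)) : A ≤ normalizer ((H ⊓ K : Subgroup G) : Set G) :=
  (le_inf hH hK).trans inf_normalizer_le_normalizer_inf

theorem le_normalizer_sup {A H K : Subgroup G} (hH : A ≤ normalizer (H : Set G))
    (hK : A ≤ normalizer (K : Set G)) : A ≤ normalizer ((H ⊔ K : Subgroup G) : Set G) :=
  (le_inf hH hK).trans (normalizer_inf_normalizer_le_normalizer_sup H K)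

theorem isSolvable_of_le {H K : Subgroup G} (h : H ≤ K) (hK : Group.IsSolvable K) :
    Group.IsSolvable H :=
  Group.isSolvable_of_isSolvable_injective (Subgroup.inclusion_injective h)

theorem commutator_lt_of_isSolvable {L : Subgroup G} (hL : Group.IsSolvable L) (h : L ≠ ⊥) :
    ⁅L, L⁆ < L := by
  rw [← nontrivial_iff_ne_bot] at h
  rw [← Subgroup.map_subtype_commutator]
  conv_rhs => rw [← L.range_subtype, MonoidHom.range_eq_map]
  rw [map_subtype_lt_map_subtype]
  exact Group.IsSolvable.commutator_lt_top_of_nontrivial L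

/-- The abelian step: an `A`-invariant `L`-orbit contains an `A`-invariant `[L,L]`-orbit. -/
theorem glauberman_comm_step {X : Type*} [MulAction G X] [Finite G] {A L : Subgroup G}
    (hAL : A ≤ normalizer (L : Set G)) (hcop : (Nat.card A).Coprime (Nat.card L)) (x₀ : X)
    (h : ∀ a ∈ A, ∃ l ∈ L, a • x₀ = l • x₀) :
    ∃ l ∈ L, ∀ a ∈ A, ∃ l' ∈ ⁅L, L⁆, a • l • x₀ = l' • l • x₀ := by
  classical
  let T : Subgroup L := _root_.commutator L ⊔ (stabilizer G x₀).subgroupOf L
  have hT : T.Normal := Subgroup.Normal.of_commutator_le _ le_sup_left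
  have hTmem : ∀ t : L, t ∈ T ↔ ∃ l' ∈ ⁅L, L⁆, (t : G) • x₀ = l' • x₀ := by
    intro t
    constructor
    · intro ht
      have : t ∈ ((_root_.commutator L : Set L) * ((stabilizer G x₀).subgroupOf L : Set L)) := by
        rw [← Subgroup.normal_mul]; exact ht
      obtain ⟨u, hu, v, hv, rfl⟩ := this
      refine ⟨u, ?_, ?_⟩
      · rw [← Subgroup.map_subtype_commutator]; exact ⟨u, hu, rfl⟩
      · have hv' : (v : G) • x₀ = x₀ := hv
        simp [mul_smul, hv']
    · rintro ⟨l', hl', ht⟩
      rw [← Subgroup.map_subtype_commutator] at hl'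
      obtain ⟨u, hu, rfl⟩ := hl'
      have : t = u * (u⁻¹ * t) := by group
      rw [this]
      refine T.mul_mem (le_sup_left (a := _root_.commutator L) hu)
        (le_sup_right (a := _root_.commutator L) ?_)
      show ((u⁻¹ * t : L) : G) • x₀ = x₀
      simp only [coe_mul, coe_inv, mul_smul, ht, coe_subtype, inv_smul_smul]
  choose! f hfL hf using h
  let cj : A → L →* L := fun a =>
    { toFun := fun l => ⟨a * l * (a : G)⁻¹, conj_mem_of_le_normalizer hAL a.2 l.2⟩
      map_one' := by ext; simp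
      map_mul' := by intro x y; ext; simp [mul_assoc] }
  have hcjT : ∀ a : A, T ≤ T.comap (cj a) := by
    intro a
    refine sup_le ?_ ?_
    · rw [← map_le_iff_le_comap]
      refine le_trans ?_ le_sup_left
      rw [_root_.commutator_def, map_commutator]
      exact commutator_mono le_top le_top
    · intro s hs
      have hs' : (s : G) • x₀ = x₀ := hs
      have hfa := hf a a.2
      let F : L := ⟨f a, hfL a a.2⟩
      have h1 : F⁻¹ * cj a s * F ∈ T := by
        refine le_sup_right (a := _root_.commutator L) ?_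
        show ((f a)⁻¹ * (a * s * (a : G)⁻¹) * f a) • x₀ = x₀
        simp only [mul_smul]
        rw [← hfa, inv_smul_smul, hs', hfa, inv_smul_smul]
      have := hT.conj_mem _ h1 F
      simpa [mul_assoc] using this
  let _ : CommGroup (L ⧸ T) :=
    { (inferInstance : Group (L ⧸ T)) with
      mul_comm := (Subgroup.Normal.quotient_commutative_iff_commutator_le.2
        (le_sup_left : _root_.commutator L ≤ T)).is_comm.comm }
  have hcop' : (Nat.card A).Coprime (Nat.card (L ⧸ T)) :=
    hcop.coprime_dvd_right (Subgroup.card_quotient_dvd_card T)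
  obtain ⟨t, ht⟩ := cocycle_split_comm hcop' (fun a => QuotientGroup.map T T (cj a) (hcjT a))
    (fun a => ((⟨f a, hfL a a.2⟩ : L) : L ⧸ T)) (by
      intro a b
      rw [QuotientGroup.map_mk, ← QuotientGroup.mk_mul, QuotientGroup.eq, hTmem]
      refine ⟨1, one_mem _, ?_⟩
      show ((f (b * a))⁻¹ * (b * f a * (b : G)⁻¹ * f b)) • x₀ = _
      simp only [mul_smul]
      rw [← hf b b.2, inv_smul_smul, ← hf a a.2, ← mul_smul (b : G), hf _ (A.mul_mem b.2 a.2),
        inv_smul_smul, one_smul])
  obtain ⟨l, rfl⟩ := QuotientGroup.mk_surjective t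
  refine ⟨l, l.2, fun a ha => ?_⟩
  have := ht ⟨a, ha⟩
  rw [QuotientGroup.map_mk, ← QuotientGroup.mk_mul, QuotientGroup.eq, hTmem] at this
  obtain ⟨l', hl', h2⟩ := this
  refine ⟨l * l' * (l : G)⁻¹, conj_mem_of_le_normalizer (normalizer_commutator_ge_left _ _) l.2 hl', ?_⟩
  change ((l : G)⁻¹ * (a * l * a⁻¹ * f a)) • x₀ = _ at h2
  simp only [mul_smul] at h2 ⊢
  rw [← hf a ha, inv_smul_smul] at h2
  rw [inv_smul_smul, ← h2, smul_inv_smul]

/-- Glauberman's lemma when `L` is solvable. -/
theorem glauberman_fixed_of_right {X : Type*} [MulAction G X] [Finite G] {A : Subgroup G}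
    (L : Subgroup G) (hL : Group.IsSolvable L)
    (hAL : A ≤ normalizer (L : Set G)) (hcop : (Nat.card A).Coprime (Nat.card L)) (x₀ : X)
    (h : ∀ a ∈ A, ∃ l ∈ L, a • x₀ = l • x₀) :
    ∃ l ∈ L, ∀ a ∈ A, a • l • x₀ = l • x₀ := by
  induction L using WellFoundedLT.induction generalizing x₀ with
  | ind L ih =>
    by_cases hb : L = ⊥
    · subst hb
      refine ⟨1, one_mem _, fun a ha => ?_⟩
      obtain ⟨l, hl, h1⟩ := h a ha
      rw [mem_bot] at hl
      subst hl
      simpa using h1
    · have hlt := commutator_lt_of_isSolvable hL hb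
      obtain ⟨l, hl, h1⟩ := glauberman_comm_step hAL hcop x₀ h
      obtain ⟨l', hl', h2⟩ := ih _ hlt (isSolvable_of_le hlt.le hL)
        (le_normalizer_commutator hAL hAL) (hcop.coprime_dvd_right (card_dvd_of_le hlt.le))
        (l • x₀) h1
      exact ⟨l' * l, L.mul_mem (hlt.le hl') hl, fun a ha => by simpa [mul_smul] using h2 a ha⟩

/-- Glauberman's lemma when `A` is a `p`-group. -/
theorem glauberman_fixed_of_pgroup {X : Type*} [MulAction G X] [Finite G] {A L : Subgroup G}
    {p : ℕ} [Fact p.Prime] (hA : IsPGroup p A) (hp : ¬ p ∣ Nat.card L)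
    (hAL : A ≤ normalizer (L : Set G)) (x₀ : X)
    (h : ∀ a ∈ A, ∃ l ∈ L, a • x₀ = l • x₀) :
    ∃ l ∈ L, ∀ a ∈ A, a • l • x₀ = l • x₀ := by
  let S : SubMulAction A X :=
    { carrier := orbit L x₀
      smul_mem' := by
        rintro a _ ⟨l, rfl⟩
        obtain ⟨l', hl', h1⟩ := h a a.2
        refine ⟨⟨(a : G) * l * (a : G)⁻¹ * l',
          L.mul_mem (conj_mem_of_le_normalizer hAL a.2 l.2) hl'⟩, ?_⟩
        show ((a : G) * l * (a : G)⁻¹ * l') • x₀ = (a : G) • (l : G) • x₀
        simp only [mul_smul]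
        rw [← h1, inv_smul_smul] }
  have hcard : ¬ p ∣ Nat.card S := by
    intro hd
    apply hp
    refine hd.trans ?_
    have : Nat.card S = (stabilizer L x₀).index := by
      rw [index_stabilizer]; rfl
    rw [this]
    exact index_dvd_card _
  obtain ⟨⟨_, ⟨l, rfl⟩⟩, hx⟩ := hA.nonempty_fixed_point_of_prime_not_dvd_card S hcard
  exact ⟨l, l.2, fun a ha => congrArg Subtype.val (hx ⟨a, ha⟩)⟩

theorem eq_one_of_mem_of_conj_mem_of_coprime {A N : Subgroup G}
    (hcop : (Nat.card A).Coprime (Nat.card N)) {z c : G} (hA : z ∈ A) (hN : c * z * c⁻¹ ∈ N) :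
    z = 1 := by
  rw [← orderOf_eq_one_iff]
  refine Nat.eq_one_of_dvd_coprimes hcop (A.orderOf_dvd_natCard hA) ?_
  have := N.orderOf_dvd_natCard hN
  rwa [show orderOf (c * z * c⁻¹) = orderOf z from
    ((MulAut.conj c).orderOf_eq z)] at this

/-- From the fixed-point form (for `X = G ⧸ A`) to invariant cosets. -/
theorem coset_of_fixed {A N : Subgroup G} (hAN : A ≤ normalizer (N : Set G))
    (hcop : (Nat.card A).Coprime (Nat.card N))
    (H : ∀ x₀ : G ⧸ A, (∀ a ∈ A, ∃ l ∈ N, a • x₀ = l • x₀) →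
      ∃ l ∈ N, ∀ a ∈ A, a • l • x₀ = l • x₀)
    {k : G} (hfix : ∀ a ∈ A, a * k * a⁻¹ * k⁻¹ ∈ N) :
    ∃ n ∈ N, n * k ∈ centralizer (A : Set G) := by
  obtain ⟨n, hn, h1⟩ := H (k : G ⧸ A) (fun a ha => ⟨_, hfix a ha, by
    simp only [MulAction.Quotient.smul_mk, smul_eq_mul]
    rw [QuotientGroup.eq]
    simpa [mul_assoc] using ha⟩)
  refine ⟨n, hn, ?_⟩
  rw [mem_centralizer_iff]
  intro a ha
  have h2 := h1 a ha
  simp only [MulAction.Quotient.smul_mk, smul_eq_mul] at h2
  rw [QuotientGroup.eq] at h2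
  have h4 : a⁻¹ * (n * k) * a * (n * k)⁻¹ ∈ N := by
    have := N.mul_mem (N.mul_mem (conj_inv_mem_of_le_normalizer hAN ha hn)
      (hfix _ (A.inv_mem ha))) (N.inv_mem hn)
    simpa [mul_assoc] using this
  set c := n * k
  have h3 : (a * c)⁻¹ * c * a = 1 :=
    eq_one_of_mem_of_conj_mem_of_coprime hcop (A.mul_mem h2 ha) (c := c)
      (by simpa [mul_assoc] using h4)
  calc a * c = a * c * ((a * c)⁻¹ * c * a) := by rw [h3, mul_one]
    _ = c * a := by group

/-- Glauberman's lemma when `A` is solvable (action on a type in the universe of `G`). -/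
theorem glauberman_fixed_of_left_aux [Finite G] (A : Subgroup G) (hA : Group.IsSolvable A) :
    ∀ (X : Type u) [MulAction G X] (L : Subgroup G) (_ : A ≤ normalizer (L : Set G))
      (_ : (Nat.card A).Coprime (Nat.card L)) (x₀ : X) (_ : ∀ a ∈ A, ∃ l ∈ L, a • x₀ = l • x₀),
      ∃ l ∈ L, ∀ a ∈ A, a • l • x₀ = l • x₀ := by
  induction A using WellFoundedLT.induction with
  | ind A ih =>
    intro X _ L hAL hcop x₀ h
    by_cases hb : A = ⊥
    · subst hb
      exact ⟨1, one_mem _, fun a ha => by rw [mem_bot] at ha; subst ha; simp⟩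
    have : Nontrivial A := (nontrivial_iff_ne_bot A).2 hb
    obtain ⟨B₀, hB₀, hle⟩ := (eq_top_or_exists_le_coatom (_root_.commutator A)).resolve_left
      (Group.IsSolvable.commutator_lt_top_of_nontrivial A).ne
    have hB₀n : B₀.Normal := Subgroup.Normal.of_commutator_le _ hle
    obtain ⟨p, hp, hpd⟩ := Nat.exists_prime_and_dvd (n := B₀.index)
      (by rw [Ne, index_eq_one]; exact hB₀.1)
    have := Fact.mk hp
    obtain ⟨P₀⟩ : Nonempty (Sylow p A) := inferInstance
    have hP₀ : B₀ ⊔ P₀ = ⊤ := by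
      apply hB₀.2
      refine lt_of_le_of_ne le_sup_left (fun he => ?_)
      have : (P₀ : Subgroup A) ≤ B₀ := he ▸ le_sup_right
      exact P₀.not_dvd_index (hpd.trans (index_dvd_of_le this))
    set B := B₀.map A.subtype with hB
    set P := (P₀ : Subgroup A).map A.subtype with hP
    have hBA : B < A := by
      conv_rhs => rw [← A.range_subtype, MonoidHom.range_eq_map]
      rw [hB, map_subtype_lt_map_subtype]
      exact hB₀.1.lt_top
    have hPA : P ≤ A := map_subtype_le _
    have hBP : B ⊔ P = A := by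
      rw [hB, hP, ← Subgroup.map_sup, hP₀, ← MonoidHom.range_eq_map, range_subtype]
    have hAB : A ≤ normalizer (B : Set G) := by
      rw [le_normalizer_iff]
      rintro a ha _ ⟨b, hb, rfl⟩
      exact ⟨_, hB₀n.conj_mem b hb ⟨a, ha⟩, rfl⟩
    have hpL : ¬ p ∣ Nat.card L := fun hd =>
      hp.one_lt.ne' (Nat.eq_one_of_dvd_coprimes hcop (hpd.trans (index_dvd_card _)) hd)
    have ihB := ih B hBA (isSolvable_of_le hBA.le hA)
    have hcopB : (Nat.card B).Coprime (Nat.card L) := hcop.coprime_dvd_left (card_dvd_of_le hBA.le)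
    obtain ⟨l₀, hl₀, h₀⟩ := ihB X L (hBA.le.trans hAL) hcopB x₀ (fun a ha => h a (hBA.le ha))
    -- `P` acts on the `C_L(B)`-orbit of `l₀ • x₀`
    have key : ∀ a ∈ P, ∃ c ∈ L ⊓ centralizer (B : Set G), a • l₀ • x₀ = c • l₀ • x₀ := by
      intro a ha
      obtain ⟨l, hl, h1⟩ := h a (hPA ha)
      set y := a • l₀ • x₀ with hy
      have hyB : ∀ b ∈ B, b • y = y := by
        intro b hb
        have := h₀ _ (conj_inv_mem_of_le_normalizer hAB (hPA ha) hb)
        rw [mul_smul, mul_smul, inv_smul_eq_iff] at this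
        exact this
      set k := a * l₀ * a⁻¹ * l * l₀⁻¹ with hk
      have hkL : k ∈ L := L.mul_mem (L.mul_mem (conj_mem_of_le_normalizer hAL (hPA ha) hl₀) hl)
        (L.inv_mem hl₀)
      have hky : k • l₀ • x₀ = y := by
        simp only [hk, hy, mul_smul, inv_smul_smul, ← h1]
      have hBN : B ≤ normalizer ((L ⊓ stabilizer G y : Subgroup G) : Set G) :=
        le_normalizer_inf (hBA.le.trans hAL) (le_trans (fun b hb => hyB b hb) le_normalizer)
      obtain ⟨n, hn, hc⟩ := coset_of_fixed hBN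
        (hcopB.coprime_dvd_right (card_dvd_of_le inf_le_left))
        (ihB (G ⧸ B) _ hBN (hcopB.coprime_dvd_right (card_dvd_of_le inf_le_left))) (k := k)
        (fun b hb => ⟨L.mul_mem (conj_mem_of_le_normalizer (hBA.le.trans hAL) hb hkL)
          (L.inv_mem hkL), by
            show (b * k * b⁻¹ * k⁻¹) • y = y
            simp only [mul_smul]
            rw [← hky, inv_smul_smul, h₀ _ (B.inv_mem hb), hky, hyB b hb]⟩)
      refine ⟨n * k, ⟨L.mul_mem hn.1 hkL, hc⟩, ?_⟩
      rw [mul_smul, hky]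
      exact hn.2.symm
    obtain ⟨c, hc, h2⟩ := glauberman_fixed_of_pgroup (P₀.isPGroup'.map A.subtype)
      (fun hd => hpL (hd.trans (card_dvd_of_le (inf_le_left : L ⊓ centralizer (B : Set G) ≤ L))))
      (le_normalizer_inf (hPA.trans hAL) (le_normalizer_centralizer (hPA.trans hAB))) (l₀ • x₀) key
    refine ⟨c * l₀, L.mul_mem hc.1 hl₀, ?_⟩
    have : B ⊔ P ≤ stabilizer G ((c * l₀) • x₀) := by
      refine sup_le (fun b hb => ?_) (fun a ha => ?_)
      · show b • (c * l₀) • x₀ = _
        rw [mul_smul, ← mul_smul b, mem_centralizer_iff.1 hc.2 b hb, mul_smul, h₀ b hb]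
      · show a • (c * l₀) • x₀ = _
        rw [mul_smul]; exact h2 a ha
    rw [hBP] at this
    exact fun a ha => this ha

/-- **Glauberman's lemma**, existence part. -/
theorem glauberman_fixed {X : Type*} [MulAction G X] [Finite G] {A L : Subgroup G}
    (hAL : A ≤ normalizer (L : Set G)) (hcop : (Nat.card A).Coprime (Nat.card L))
    (hsolv : Group.IsSolvable A ∨ Group.IsSolvable L) (x₀ : X)
    (h : ∀ a ∈ A, ∃ l ∈ L, a • x₀ = l • x₀) :
    ∃ l ∈ L, ∀ a ∈ A, a • l • x₀ = l • x₀ := by
  rcases hsolv with hA | hL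
  · obtain ⟨l, hl, h1⟩ := glauberman_fixed_of_left_aux A hA (G ⧸ stabilizer G x₀) L hAL hcop
      ((1 : G) : G ⧸ stabilizer G x₀) (fun a ha => by
        obtain ⟨l, hl, h1⟩ := h a ha
        refine ⟨l, hl, ?_⟩
        simp only [MulAction.Quotient.smul_mk, smul_eq_mul, mul_one]
        rw [QuotientGroup.eq, mem_stabilizer_iff, mul_smul, ← h1, inv_smul_smul])
    refine ⟨l, hl, fun a ha => ?_⟩
    have h2 := h1 a ha
    simp only [MulAction.Quotient.smul_mk, smul_eq_mul, mul_one] at h2
    rw [QuotientGroup.eq, mem_stabilizer_iff, mul_smul, inv_smul_eq_iff, mul_smul] at h2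
    exact h2.symm
  · exact glauberman_fixed_of_right L hL hAL hcop x₀ h

/-- An `A`-invariant right coset `N k` (`A` normalising `N`, `|A|` and `|N|` coprime, `A` or `N` solvable,
`k` any element of `G`) contains an element centralised by `A`. -/
theorem exists_centralizer_of_coset [Finite G] {A N : Subgroup G}
    (hAN : A ≤ normalizer (N : Set G)) (hcop : (Nat.card A).Coprime (Nat.card N))
    (hsolv : Group.IsSolvable A ∨ Group.IsSolvable N)
    {k : G} (hfix : ∀ a ∈ A, a * k * a⁻¹ * k⁻¹ ∈ N) :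
    ∃ n ∈ N, n * k ∈ centralizer (A : Set G) :=
  coset_of_fixed hAN hcop (glauberman_fixed hAN hcop hsolv) hfix

theorem solvable_or_of_le {A K N : Subgroup G} (hNK : N ≤ K)
    (hsolv : Group.IsSolvable A ∨ Group.IsSolvable K) : Group.IsSolvable A ∨ Group.IsSolvable N :=
  hsolv.imp_right (isSolvable_of_le hNK)

theorem coprime_card_of_le {A K B N : Subgroup G} (hBA : B ≤ A) (hNK : N ≤ K)
    (hcop : (Nat.card A).Coprime (Nat.card K)) : (Nat.card B).Coprime (Nat.card N) :=
  (hcop.coprime_dvd_left (card_dvd_of_le hBA)).coprime_dvd_right (card_dvd_of_le hNK)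

/-- Left-coset version of `exists_centralizer_of_coset`. -/
theorem exists_centralizer_of_left_coset [Finite G] {A N : Subgroup G}
    (hAN : A ≤ normalizer (N : Set G)) (hcop : (Nat.card A).Coprime (Nat.card N))
    (hsolv : Group.IsSolvable A ∨ Group.IsSolvable N)
    {k : G} (hfix : ∀ a ∈ A, k⁻¹ * (a * k * a⁻¹) ∈ N) :
    ∃ n ∈ N, k * n ∈ centralizer (A : Set G) := by
  obtain ⟨n, hn, hc⟩ := exists_centralizer_of_coset hAN hcop hsolv (k := k⁻¹)
    (fun a ha => by simpa [mul_assoc] using N.inv_mem (hfix a ha))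
  exact ⟨n⁻¹, N.inv_mem hn, by simpa using Subgroup.inv_mem _ hc⟩

/-- **Glauberman's lemma**, conjugacy part: `C_L(A)` is transitive on the `A`-fixed points of an
`L`-orbit. -/
theorem glauberman_conj {X : Type*} [MulAction G X] [Finite G] {A L : Subgroup G}
    (hAL : A ≤ normalizer (L : Set G)) (hcop : (Nat.card A).Coprime (Nat.card L))
    (hsolv : Group.IsSolvable A ∨ Group.IsSolvable L) {x y : X}
    (hx : ∀ a ∈ A, a • x = x) (hy : ∀ a ∈ A, a • y = y) {l : G} (hl : l ∈ L) (hxy : l • x = y) :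
    ∃ c ∈ L ⊓ centralizer (A : Set G), c • x = y := by
  obtain ⟨n, hn, hc⟩ := exists_centralizer_of_coset (N := L ⊓ stabilizer G y)
    (le_normalizer_inf hAL (le_trans (fun b hb => hy b hb) le_normalizer))
    (coprime_card_of_le le_rfl inf_le_left hcop) (solvable_or_of_le inf_le_left hsolv) (k := l)
    (fun b hb => ⟨L.mul_mem (conj_mem_of_le_normalizer hAL hb hl) (L.inv_mem hl), by
      show (b * l * b⁻¹ * l⁻¹) • y = y
      simp only [mul_smul]
      rw [← hxy, inv_smul_smul, hx _ (A.inv_mem hb), hxy, hy b hb]⟩)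
  refine ⟨n * l, ⟨L.mul_mem hn.1 hl, hc⟩, ?_⟩
  rw [mul_smul, hxy]
  exact hn.2

end

end CL
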