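import Cfsg.Agent.Base

/-!
Basic facts on conjugate subgroups `MulAut.conj g • H`.
-/

set_option autoImplicit false

open scoped Pointwise

namespace CL.Cj

variable {G : Type*} [Group G]

theorem mem_conj_iff {H : Subgroup G} {g x : G} :
    x ∈ MulAut.conj g • H ↔ g⁻¹ * x * g ∈ H := by
  rw [Subgroup.mem_pointwise_smul_iff_inv_smul_mem]
  simp [MulAut.smul_def]

theorem conj_mem_conj_iff {H : Subgroup G} {g x : G} :
    g * x * g⁻¹ ∈ MulAut.conj g • H ↔ x ∈ H := by
  rw [mem_conj_iff]; simp [mul_assoc]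

theorem conj_mem_conj {H : Subgroup G} {x : G} (g : G) (hx : x ∈ H) :
    g * x * g⁻¹ ∈ MulAut.conj g • H := conj_mem_conj_iff.2 hx

theorem exists_of_mem_conj {H : Subgroup G} {g x : G} (hx : x ∈ MulAut.conj g • H) :
    ∃ y ∈ H, x = g * y * g⁻¹ :=
  ⟨g⁻¹ * x * g, mem_conj_iff.1 hx, by group⟩

theorem conj_conj (g h : G) (H : Subgroup G) :
    MulAut.conj g • MulAut.conj h • H = MulAut.conj (g * h) • H := by
  rw [map_mul, mul_smul]

theorem conj_one (H : Subgroup G) : MulAut.conj (1 : G) • H = H := by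
  rw [map_one, one_smul]

theorem conj_inv_conj (g : G) (H : Subgroup G) :
    MulAut.conj g⁻¹ • MulAut.conj g • H = H := by
  rw [conj_conj, inv_mul_cancel, conj_one]

theorem conj_conj_inv (g : G) (H : Subgroup G) :
    MulAut.conj g • MulAut.conj g⁻¹ • H = H := by
  rw [conj_conj, mul_inv_cancel, conj_one]

theorem conj_eq_map (g : G) (H : Subgroup G) :
    MulAut.conj g • H = H.map (MulAut.conj g).toMonoidHom := rfl

theorem conj_le_conj_iff {g : G} {H K : Subgroup G} :
    MulAut.conj g • H ≤ MulAut.conj g • K ↔ H ≤ K :=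
  Subgroup.pointwise_smul_le_pointwise_smul_iff

theorem conj_mono (g : G) {H K : Subgroup G} (h : H ≤ K) :
    MulAut.conj g • H ≤ MulAut.conj g • K := conj_le_conj_iff.2 h

theorem conj_le_iff {g : G} {H K : Subgroup G} :
    MulAut.conj g • H ≤ K ↔ H ≤ MulAut.conj g⁻¹ • K := by
  rw [map_inv]; exact Subgroup.pointwise_smul_subset_iff

theorem le_conj_iff {g : G} {H K : Subgroup G} :
    H ≤ MulAut.conj g • K ↔ MulAut.conj g⁻¹ • H ≤ K := by
  rw [map_inv]; exact Subgroup.subset_pointwise_smul_iff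

theorem conj_inj {g : G} {H K : Subgroup G} :
    MulAut.conj g • H = MulAut.conj g • K ↔ H = K :=
  (MulAction.injective _).eq_iff

theorem conj_eq_iff {g : G} {H K : Subgroup G} :
    MulAut.conj g • H = K ↔ H = MulAut.conj g⁻¹ • K := by
  constructor
  · rintro rfl; rw [conj_inv_conj]
  · rintro rfl; rw [conj_conj_inv]

theorem mem_normalizer_iff_conj_eq {H : Subgroup G} {g : G} :
    g ∈ Subgroup.normalizer (H : Set G) ↔ MulAut.conj g • H = H :=
  Subgroup.mem_normalizer_iff_map_conj_eq

theorem conj_eq_of_mem_normalizer {H : Subgroup G} {g : G}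
    (hg : g ∈ Subgroup.normalizer (H : Set G)) : MulAut.conj g • H = H :=
  mem_normalizer_iff_conj_eq.1 hg

theorem conj_eq_of_mem {H : Subgroup G} {g : G} (hg : g ∈ H) : MulAut.conj g • H = H :=
  conj_eq_of_mem_normalizer (Subgroup.le_normalizer hg)

theorem conj_le_of_mem {H K : Subgroup G} {g : G} (hg : g ∈ K) (h : H ≤ K) :
    MulAut.conj g • H ≤ K := by
  rw [← conj_eq_of_mem hg]; exact conj_mono g h

theorem conj_le_of_mem_normalizer {H K : Subgroup G} {g : G}
    (hg : g ∈ Subgroup.normalizer (K : Set G)) (h : H ≤ K) : MulAut.conj g • H ≤ K := by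
  rw [← conj_eq_of_mem_normalizer hg]; exact conj_mono g h

theorem conj_top (g : G) : MulAut.conj g • (⊤ : Subgroup G) = ⊤ :=
  conj_eq_of_mem (Subgroup.mem_top g)

theorem conj_bot (g : G) : MulAut.conj g • (⊥ : Subgroup G) = ⊥ := Subgroup.smul_bot _

theorem conj_eq_top_iff {g : G} {H : Subgroup G} : MulAut.conj g • H = ⊤ ↔ H = ⊤ := by
  rw [conj_eq_iff, conj_top]

theorem conj_eq_bot_iff {g : G} {H : Subgroup G} : MulAut.conj g • H = ⊥ ↔ H = ⊥ := by
  rw [conj_eq_iff, conj_bot]

theorem conj_sup (g : G) (H K : Subgroup G) :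
    MulAut.conj g • (H ⊔ K) = MulAut.conj g • H ⊔ MulAut.conj g • K := Subgroup.smul_sup _ _ _

theorem conj_inf (g : G) (H K : Subgroup G) :
    MulAut.conj g • (H ⊓ K) = MulAut.conj g • H ⊓ MulAut.conj g • K := Subgroup.smul_inf _ _ _

theorem conj_iSup {ι : Sort*} (g : G) (H : ι → Subgroup G) :
    MulAut.conj g • (⨆ i, H i) = ⨆ i, MulAut.conj g • H i := Subgroup.map_iSup _ _

theorem conj_sSup (g : G) (S : Set (Subgroup G)) :
    MulAut.conj g • sSup S = ⨆ H ∈ S, MulAut.conj g • H := by
  rw [sSup_eq_iSup, conj_iSup]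
  simp only [conj_iSup]

theorem conj_commutator (g : G) (H K : Subgroup G) :
    MulAut.conj g • ⁅H, K⁆ = ⁅MulAut.conj g • H, MulAut.conj g • K⁆ :=
  Subgroup.map_commutator _ _ _

theorem conj_normalizer (g : G) (H : Subgroup G) :
    MulAut.conj g • Subgroup.normalizer (H : Set G) =
      Subgroup.normalizer ((MulAut.conj g • H : Subgroup G) : Set G) :=
  Subgroup.map_equiv_normalizer_eq H (MulAut.conj g)

theorem conj_centralizer (g : G) (H : Subgroup G) :
    MulAut.conj g • Subgroup.centralizer (H : Set G) =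
      Subgroup.centralizer ((MulAut.conj g • H : Subgroup G) : Set G) := by
  ext x
  rw [mem_conj_iff, Subgroup.mem_centralizer_iff, Subgroup.mem_centralizer_iff]
  constructor
  · intro h y hy
    have h1 := h _ (mem_conj_iff.1 hy)
    calc y * x = g * (g⁻¹ * y * g * (g⁻¹ * x * g)) * g⁻¹ := by group
      _ = g * (g⁻¹ * x * g * (g⁻¹ * y * g)) * g⁻¹ := by rw [h1]
      _ = x * y := by group
  · intro h y hy
    have h1 := h _ (conj_mem_conj g hy)
    calc y * (g⁻¹ * x * g) = g⁻¹ * (g * y * g⁻¹ * x) * g := by group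
      _ = g⁻¹ * (x * (g * y * g⁻¹)) * g := by rw [h1]
      _ = g⁻¹ * x * g * y := by group

theorem conj_zpowers (g x : G) :
    MulAut.conj g • Subgroup.zpowers x = Subgroup.zpowers (g * x * g⁻¹) := by
  rw [conj_eq_map, MonoidHom.map_zpowers]; rfl

/-- The isomorphism `H ≃* g H g⁻¹`. -/
def conjEquiv (g : G) (H : Subgroup G) : H ≃* (MulAut.conj g • H : Subgroup G) :=
  Subgroup.equivSMul (MulAut.conj g) H

theorem card_conj (g : G) (H : Subgroup G) :
    Nat.card (MulAut.conj g • H : Subgroup G) = Nat.card H :=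
  (Nat.card_congr (conjEquiv g H).toEquiv).symm

theorem index_conj (g : G) (H : Subgroup G) : (MulAut.conj g • H).index = H.index :=
  Subgroup.index_map_of_bijective (MulAut.conj g).bijective H

theorem isPGroup_conj {p : ℕ} {H : Subgroup G} (g : G) (h : IsPGroup p H) :
    IsPGroup p (MulAut.conj g • H : Subgroup G) := h.of_equiv (conjEquiv g H)

theorem isNilpotent_conj {H : Subgroup G} (g : G) (h : Group.IsNilpotent H) :
    Group.IsNilpotent (MulAut.conj g • H : Subgroup G) :=
  Group.nilpotent_of_mulEquiv (conjEquiv g H)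

theorem isSolvable_conj {H : Subgroup G} (g : G) (h : Group.IsSolvable H) :
    Group.IsSolvable (MulAut.conj g • H : Subgroup G) :=
  Group.isSolvable_of_surjective (f := (conjEquiv g H).toMonoidHom) (conjEquiv g H).surjective

/-- In a finite group, `g H g⁻¹ ≤ H` already forces `g` to normalise `H`. -/
theorem mem_normalizer_of_conj_le {H : Subgroup G} [Finite H] {g : G}
    (h : MulAut.conj g • H ≤ H) : g ∈ Subgroup.normalizer (H : Set G) :=
  mem_normalizer_iff_conj_eq.2 (Subgroup.eq_of_le_of_card_ge h (card_conj g H).ge)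

theorem mem_normalizer_of_le_conj {H : Subgroup G} [Finite H] {g : G}
    (h : H ≤ MulAut.conj g • H) : g ∈ Subgroup.normalizer (H : Set G) := by
  have := mem_normalizer_of_conj_le (le_conj_iff.1 h)
  simpa using Subgroup.inv_mem _ this

/-- If `K` permutes a family of subgroups by conjugation, it normalises their join. -/
theorem le_normalizer_sSup {S : Set (Subgroup G)} {K : Subgroup G}
    (h : ∀ k ∈ K, ∀ U ∈ S, MulAut.conj k • U ∈ S) :
    K ≤ Subgroup.normalizer ((sSup S : Subgroup G) : Set G) := by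
  have key : ∀ k ∈ K, MulAut.conj k • sSup S ≤ sSup S := by
    intro k hk
    rw [conj_sSup]
    exact iSup₂_le fun U hU => le_sSup (h k hk U hU)
  intro k hk
  rw [mem_normalizer_iff_conj_eq]
  refine le_antisymm (key k hk) ?_
  rw [le_conj_iff]
  exact key _ (K.inv_mem hk)

/-- `K` normalises `H` iff all `K`-conjugates of `H` lie in `H`. -/
theorem le_normalizer_iff_conj_le {H K : Subgroup G} :
    K ≤ Subgroup.normalizer (H : Set G) ↔ ∀ k ∈ K, MulAut.conj k • H ≤ H := by
  constructor
  · intro h k hk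
    exact (conj_eq_of_mem_normalizer (h hk)).le
  · intro h k hk
    rw [mem_normalizer_iff_conj_eq]
    refine le_antisymm (h k hk) ?_
    rw [le_conj_iff]
    exact h _ (K.inv_mem hk)

theorem normal_iff_conj_le {H : Subgroup G} : H.Normal ↔ ∀ g : G, MulAut.conj g • H ≤ H := by
  rw [← Subgroup.normalizer_eq_top_iff, eq_top_iff, le_normalizer_iff_conj_le]
  simp

theorem normal_of_top_le_normalizer {H : Subgroup G}
    (h : ⊤ ≤ Subgroup.normalizer (H : Set G)) : H.Normal :=
  Subgroup.normalizer_eq_top_iff.1 (top_le_iff.1 h)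

theorem conj_eq_of_normal (g : G) (H : Subgroup G) [H.Normal] : MulAut.conj g • H = H :=
  Subgroup.Normal.conj_smul_eq_self g H

theorem conj_le_normalClosure (g : G) (H : Subgroup G) :
    MulAut.conj g • H ≤ Subgroup.normalClosure (H : Set G) := by
  rw [← conj_eq_of_normal g (Subgroup.normalClosure (H : Set G))]
  exact conj_mono g Subgroup.le_normalClosure

theorem normalClosure_eq_iSup_conj (H : Subgroup G) :
    Subgroup.normalClosure (H : Set G) = ⨆ g : G, MulAut.conj g • H := by
  refine le_antisymm ?_ (iSup_le fun g => conj_le_normalClosure g H)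
  have : (⨆ g : G, MulAut.conj g • H).Normal := by
    rw [normal_iff_conj_le]
    intro g
    rw [conj_iSup]
    refine iSup_le fun h => ?_
    rw [conj_conj]
    exact le_iSup (fun g : G => MulAut.conj g • H) (g * h)
  refine Subgroup.normalClosure_le_normal ?_
  have := le_iSup (fun g : G => MulAut.conj g • H) 1
  rw [conj_one] at this
  exact this

theorem coe_sylow_smul {p : ℕ} (g : G) (P : Sylow p G) :
    ((g • P : Sylow p G) : Subgroup G) = MulAut.conj g • (P : Subgroup G) := rfl

end CL.Cj
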