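import Cfsg.Agent.Base
import Cfsg.Agent.Solv.ConjSub

/-!
Relative (ambient) subnormality: `CL.SubnIn H V` says that `H` is a subnormal subgroup of `V`,
both being subgroups of an ambient group `G`.  Wielandt's join theorem.
-/

set_option autoImplicit false

open scoped Pointwise

namespace CL

open Cj

variable {G : Type*} [Group G]

/-- `H` is a normal subgroup of `K` (both subgroups of `G`). -/
def NormIn (H K : Subgroup G) : Prop := H ≤ K ∧ K ≤ Subgroup.normalizer (H : Set G)

/-- `H` is a subnormal subgroup of `V` (both subgroups of `G`). -/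
def SubnIn (H V : Subgroup G) : Prop := Relation.ReflTransGen NormIn H V

namespace NormIn

variable {H K L : Subgroup G}

theorem le (h : NormIn H K) : H ≤ K := h.1

theorem le_normalizer (h : NormIn H K) : K ≤ Subgroup.normalizer (H : Set G) := h.2

theorem refl (H : Subgroup G) : NormIn H H := ⟨le_rfl, Subgroup.le_normalizer⟩

theorem bot (K : Subgroup G) : NormIn ⊥ K := ⟨bot_le, Subgroup.le_normalizer_of_normal⟩

theorem of_normal (H : Subgroup G) [H.Normal] : NormIn H ⊤ :=
  ⟨le_top, Subgroup.le_normalizer_of_normal⟩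

theorem of_normal_of_le [H.Normal] (h : H ≤ K) : NormIn H K :=
  ⟨h, Subgroup.le_normalizer_of_normal⟩

theorem top_iff : NormIn H ⊤ ↔ H.Normal :=
  ⟨fun h => normal_of_top_le_normalizer h.2, fun _ => of_normal H⟩

protected theorem normalizer (H : Subgroup G) : NormIn H (Subgroup.normalizer (H : Set G)) :=
  ⟨Subgroup.le_normalizer, le_rfl⟩

theorem iff_subgroupOf : NormIn H K ↔ H ≤ K ∧ (H.subgroupOf K).Normal := by
  refine and_congr_right fun h => ?_
  rw [Subgroup.normal_subgroupOf_iff_le_normalizer h]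

theorem normal_subgroupOf (h : NormIn H K) : (H.subgroupOf K).Normal := (iff_subgroupOf.1 h).2

theorem conj_mem (h : NormIn H K) {k x : G} (hk : k ∈ K) (hx : x ∈ H) : k * x * k⁻¹ ∈ H :=
  Subgroup.le_normalizer_iff.1 h.2 k hk x hx

theorem conj_eq (h : NormIn H K) {k : G} (hk : k ∈ K) : MulAut.conj k • H = H :=
  conj_eq_of_mem_normalizer (h.2 hk)

theorem of_le (h : NormIn H K) (h1 : H ≤ L) (h2 : L ≤ K) : NormIn H L := ⟨h1, h2.trans h.2⟩

theorem map {G' : Type*} [Group G'] (h : NormIn H K) (f : G →* G') :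
    NormIn (H.map f) (K.map f) :=
  ⟨Subgroup.map_mono h.1, (Subgroup.map_mono h.2).trans (Subgroup.le_normalizer_map f)⟩

theorem comap {G' : Type*} [Group G'] (h : NormIn H K) (f : G' →* G) :
    NormIn (H.comap f) (K.comap f) :=
  ⟨Subgroup.comap_mono h.1, (Subgroup.comap_mono h.2).trans (Subgroup.le_normalizer_comap f)⟩

theorem conj (h : NormIn H K) (g : G) : NormIn (MulAut.conj g • H) (MulAut.conj g • K) :=
  h.map _

theorem inf_right (h : NormIn H K) (L : Subgroup G) : NormIn (H ⊓ L) (K ⊓ L) :=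
  ⟨inf_le_inf_right L h.1, (inf_le_inf h.2 Subgroup.le_normalizer).trans
    Subgroup.inf_normalizer_le_normalizer_inf⟩

theorem inf (h : NormIn H K) (h' : NormIn L K) : NormIn (H ⊓ L) K :=
  ⟨inf_le_left.trans h.1, (le_inf h.2 h'.2).trans Subgroup.inf_normalizer_le_normalizer_inf⟩

theorem sup (h : NormIn H K) (h' : NormIn L K) : NormIn (H ⊔ L) K :=
  ⟨sup_le h.1 h'.1, (le_inf h.2 h'.2).trans
    (Subgroup.normalizer_inf_normalizer_le_normalizer_sup H L)⟩

/-- If `H ⊴ K` and `K` normalises `L`, then `H L ⊴ K L`. -/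
theorem sup_right (h : NormIn H K) (hL : K ≤ Subgroup.normalizer (L : Set G)) :
    NormIn (H ⊔ L) (K ⊔ L) :=
  ⟨sup_le_sup_right h.1 L, sup_le ((le_inf h.2 hL).trans
    (Subgroup.normalizer_inf_normalizer_le_normalizer_sup H L))
    (le_sup_right.trans Subgroup.le_normalizer)⟩

theorem subnIn (h : NormIn H K) : SubnIn H K := Relation.ReflTransGen.single h

/-- If `H ⊴ K` then `[H : H ∩ T]` divides `[K : K ∩ T]`. -/
theorem relIndex_dvd [Finite G] (h : NormIn H K) (T : Subgroup G) :
    T.relIndex H ∣ T.relIndex K := by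
  have h1 := Subgroup.relIndex_inf_mul_relIndex T H K
  have h2 := Subgroup.relIndex_inf_mul_relIndex H T K
  rw [inf_comm H T, ← h1, inf_eq_left.2 h.1] at h2
  have h3 : H.relIndex (T ⊓ K) ∣ H.relIndex K := by
    have := h.normal_subgroupOf
    have h4 := Subgroup.relIndex_dvd_index_of_normal (H.subgroupOf K) ((T ⊓ K).subgroupOf K)
    rwa [Subgroup.relIndex_subgroupOf inf_le_right] at h4
  obtain ⟨c, hc⟩ := h3
  have h0 : H.relIndex (T ⊓ K) ≠ 0 := Subgroup.index_ne_zero_of_finite
  refine ⟨c, Nat.eq_of_mul_eq_mul_left (Nat.pos_of_ne_zero h0) ?_⟩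
  rw [h2, hc]; ring

end NormIn

namespace SubnIn

variable {H K V W : Subgroup G}

theorem refl (H : Subgroup G) : SubnIn H H := Relation.ReflTransGen.refl

theorem trans (h : SubnIn H K) (h' : SubnIn K V) : SubnIn H V := Relation.ReflTransGen.trans h h'

theorem tail (h : SubnIn H K) (h' : NormIn K V) : SubnIn H V := h.trans h'.subnIn

theorem head (h : NormIn H K) (h' : SubnIn K V) : SubnIn H V := h.subnIn.trans h'

theorem bot (V : Subgroup G) : SubnIn ⊥ V := (NormIn.bot V).subnIn

/-- Induction from the top: vary the small subgroup. -/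
theorem head_induction {P : Subgroup G → Prop} (h : SubnIn H V) (top : P V)
    (step : ∀ A B, NormIn A B → SubnIn B V → P B → P A) : P H := by
  induction h using Relation.ReflTransGen.head_induction_on with
  | refl => exact top
  | head h1 h2 ih => exact step _ _ h1 h2 ih

/-- Induction from the bottom: vary the big subgroup. -/
theorem tail_induction {P : Subgroup G → Prop} (h : SubnIn H V) (bot : P H)
    (step : ∀ A B, SubnIn H A → NormIn A B → P A → P B) : P V := by
  induction h with
  | refl => exact bot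
  | tail h1 h2 ih => exact step _ _ h1 h2 ih

theorem le (h : SubnIn H V) : H ≤ V :=
  h.tail_induction (P := fun X => H ≤ X) le_rfl fun _ _ _ h2 ih => ih.trans h2.1

theorem map {G' : Type*} [Group G'] (h : SubnIn H V) (f : G →* G') :
    SubnIn (H.map f) (V.map f) :=
  h.tail_induction (P := fun X => SubnIn (H.map f) (X.map f)) (refl _)
    fun _ _ _ h2 ih => ih.tail (h2.map f)

theorem comap {G' : Type*} [Group G'] (h : SubnIn H V) (f : G' →* G) :
    SubnIn (H.comap f) (V.comap f) :=
  h.tail_induction (P := fun X => SubnIn (H.comap f) (X.comap f)) (refl _)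
    fun _ _ _ h2 ih => ih.tail (h2.comap f)

theorem conj (h : SubnIn H V) (g : G) : SubnIn (MulAut.conj g • H) (MulAut.conj g • V) :=
  h.map _

theorem conj_of_mem_normalizer (h : SubnIn H V) {g : G}
    (hg : g ∈ Subgroup.normalizer (V : Set G)) : SubnIn (MulAut.conj g • H) V := by
  have := h.conj g
  rwa [conj_eq_of_mem_normalizer hg] at this

theorem conj_of_mem (h : SubnIn H V) {g : G} (hg : g ∈ V) : SubnIn (MulAut.conj g • H) V :=
  h.conj_of_mem_normalizer (Subgroup.le_normalizer hg)

theorem inf_right (h : SubnIn H V) (L : Subgroup G) : SubnIn (H ⊓ L) (V ⊓ L) :=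
  h.tail_induction (P := fun X => SubnIn (H ⊓ L) (X ⊓ L)) (refl _)
    fun _ _ _ h2 ih => ih.tail (h2.inf_right L)

theorem of_le (h : SubnIn H V) (h1 : H ≤ W) (h2 : W ≤ V) : SubnIn H W := by
  have := h.inf_right W
  rwa [inf_eq_left.2 h1, inf_eq_right.2 h2] at this

theorem inf (h : SubnIn H V) (h' : SubnIn K V) : SubnIn (H ⊓ K) V := by
  have := h.inf_right K
  rw [inf_eq_right.2 h'.le] at this
  exact this.trans h'

/-- If `H ⊲⊲ V` and `V` normalises `L`, then `H L ⊲⊲ V L`. -/
theorem sup_right {L : Subgroup G} (h : SubnIn H V) (hL : V ≤ Subgroup.normalizer (L : Set G)) :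
    SubnIn (H ⊔ L) (V ⊔ L) := by
  refine h.head_induction (P := fun X => SubnIn (X ⊔ L) (V ⊔ L)) (refl _) ?_
  intro A B h1 h2 ih
  exact head (h1.sup_right (h2.le.trans hL)) ih

theorem sup_normIn {L : Subgroup G} (h : SubnIn H V) (hL : NormIn L V) : SubnIn (H ⊔ L) V := by
  have := h.sup_right hL.2
  rwa [sup_eq_left.2 hL.1] at this

theorem eq_or_exists_step (h : SubnIn H V) : H = V ∨ ∃ X, H < X ∧ NormIn H X ∧ SubnIn X V := by
  refine h.head_induction (P := fun H => H = V ∨ ∃ X, H < X ∧ NormIn H X ∧ SubnIn X V)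
    (Or.inl rfl) ?_
  intro A B h1 h2 ih
  rcases eq_or_lt_of_le h1.1 with rfl | hlt
  · exact ih
  · exact Or.inr ⟨B, hlt, h1, h2⟩

theorem eq_or_exists_normIn (h : SubnIn H V) : H = V ∨ ∃ Y, Y < V ∧ SubnIn H Y ∧ NormIn Y V := by
  refine h.tail_induction (P := fun V => H = V ∨ ∃ Y, Y < V ∧ SubnIn H Y ∧ NormIn Y V)
    (Or.inl rfl) ?_
  intro A B h1 h2 ih
  rcases eq_or_lt_of_le h2.1 with rfl | hlt
  · exact ih
  · exact Or.inr ⟨A, hlt, h1, h2⟩

theorem top_iff : SubnIn H ⊤ ↔ H.IsSubnormal := by
  constructor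
  · intro h
    refine h.head_induction (P := fun H => H.IsSubnormal) Subgroup.IsSubnormal.top ?_
    intro A B h1 _ ih
    exact Subgroup.IsSubnormal.step A B h1.1 ih h1.normal_subgroupOf
  · intro h
    induction h with
    | top => exact refl _
    | step H K hle _ hN ih => exact head (NormIn.iff_subgroupOf.2 ⟨hle, hN⟩) ih

theorem iff_subgroupOf : SubnIn H V ↔ H ≤ V ∧ (H.subgroupOf V).IsSubnormal := by
  constructor
  · intro h
    refine ⟨h.le, top_iff.1 ?_⟩
    have := h.comap V.subtype
    rwa [show V.comap V.subtype = ⊤ from Subgroup.subgroupOf_self V] at this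
  · rintro ⟨h1, h2⟩
    have := (top_iff.2 h2).map V.subtype
    rwa [Subgroup.map_subgroupOf_eq_of_le h1, ← MonoidHom.range_eq_map,
      Subgroup.range_subtype] at this

theorem of_isSubnormal (h : H.IsSubnormal) (hV : H ≤ V) : SubnIn H V :=
  (top_iff.2 h).of_le hV le_top

theorem isSubnormal (h : SubnIn H V) (hV : V.IsSubnormal) : H.IsSubnormal :=
  top_iff.1 (h.trans (top_iff.2 hV))

theorem relIndex_dvd [Finite G] (h : SubnIn H V) (T : Subgroup G) :
    T.relIndex H ∣ T.relIndex V :=
  h.tail_induction (P := fun X => T.relIndex H ∣ T.relIndex X) dvd_rfl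
    fun _ _ _ h2 ih => ih.trans (h2.relIndex_dvd T)

/-- A subnormal subgroup whose conjugates under `V` generate `V` is `V`. -/
theorem eq_of_iSup_conj (h : SubnIn H V) (hV : V ≤ ⨆ v ∈ V, MulAut.conj v • H) : H = V := by
  rcases h.eq_or_exists_normIn with h | ⟨Y, hY, h1, h2⟩
  · exact h
  · exact absurd (hV.trans (iSup₂_le fun v hv => conj_le_of_mem_normalizer (h2.2 hv) h1.le))
      (not_le_of_gt hY)

/-- **Wielandt's join theorem**, relative form. -/
theorem sup [Finite G] {A B : Subgroup G} (hA : SubnIn A V) (hB : SubnIn B V) :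
    SubnIn (A ⊔ B) V := by
  induction V using WellFoundedLT.induction generalizing A B with
  | ind V ihV =>
  induction B using WellFoundedGT.induction generalizing A with
  | ind B ihB =>
  by_cases hBn : V ≤ Subgroup.normalizer (B : Set G)
  · exact hA.sup_normIn ⟨hB.le, hBn⟩
  rcases hB.eq_or_exists_step with rfl | ⟨X, hBX, hX1, hX2⟩
  · exact absurd Subgroup.le_normalizer hBn
  rcases hB.eq_or_exists_normIn with rfl | ⟨Y, hYV, hY1, hY2⟩
  · exact absurd Subgroup.le_normalizer hBn
  have h1 : SubnIn (A ⊔ X) V := ihB X hBX hA hX2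
  rcases eq_or_lt_of_le h1.le with heq | hlt
  · have : ¬ A ≤ Subgroup.normalizer (B : Set G) := fun h => hBn (heq.ge.trans (sup_le h hX1.2))
    rw [le_normalizer_iff_conj_le] at this
    push Not at this
    obtain ⟨a, ha, hna⟩ := this
    have haV : a ∈ V := hA.le ha
    have h2 : SubnIn (B ⊔ MulAut.conj a • B) Y :=
      ihV Y hYV hY1 (hY1.conj_of_mem_normalizer (hY2.2 haV))
    have h3 : B < B ⊔ MulAut.conj a • B :=
      lt_of_le_of_ne le_sup_left fun h => hna (le_sup_right.trans h.ge)
    have h4 := ihB _ h3 hA (h2.tail hY2)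
    have h5 : A ⊔ (B ⊔ MulAut.conj a • B) = A ⊔ B := by
      refine le_antisymm (sup_le le_sup_left (sup_le le_sup_right ?_))
        (sup_le_sup_left le_sup_left _)
      exact conj_le_of_mem (Subgroup.mem_sup_left ha) le_sup_right
    rwa [h5] at h4
  · exact (ihV _ hlt (hA.of_le le_sup_left h1.le)
      (hB.of_le (hBX.le.trans le_sup_right) h1.le)).trans h1

protected theorem sSup [Finite G] {S : Set (Subgroup G)} (hS : ∀ U ∈ S, SubnIn U V) :
    SubnIn (sSup S) V := by
  induction S, Set.toFinite S using Set.Finite.induction_on with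
  | empty => rw [sSup_empty]; exact bot V
  | insert _ _ ih =>
    rw [sSup_insert]
    exact (hS _ (Set.mem_insert _ _)).sup (ih fun U hU => hS U (Set.mem_insert_of_mem _ hU))

protected theorem iSup [Finite G] {ι : Sort*} {U : ι → Subgroup G} (hU : ∀ i, SubnIn (U i) V) :
    SubnIn (⨆ i, U i) V := by
  rw [← sSup_range]
  exact SubnIn.sSup (by rintro _ ⟨i, rfl⟩; exact hU i)

end SubnIn

/-- In a nilpotent subgroup `V`, a proper subgroup is properly contained in its normaliser. -/
theorem lt_normalizer_inf_of_isNilpotent {H V : Subgroup G} (hV : Group.IsNilpotent V)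
    (h : H < V) : H < Subgroup.normalizer (H : Set G) ⊓ V := by
  have h1 : H.subgroupOf V < ⊤ := by
    rw [lt_top_iff_ne_top, Ne, Subgroup.subgroupOf_eq_top]; exact not_le_of_gt h
  have h2 := Group.normalizerCondition_of_isNilpotent _ h1
  rw [← Subgroup.subgroupOf_normalizer_eq h.le] at h2
  refine lt_of_le_of_ne (le_inf Subgroup.le_normalizer h.le) fun heq => h2.ne ?_
  rw [← Subgroup.inf_subgroupOf_right (Subgroup.normalizer _), ← heq]

/-- Every subgroup of a finite nilpotent group is subnormal. -/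
theorem SubnIn.of_isNilpotent [Finite G] {H V : Subgroup G} (hV : Group.IsNilpotent V)
    (h : H ≤ V) : SubnIn H V := by
  induction H using WellFoundedGT.induction with
  | ind H ih =>
  rcases eq_or_lt_of_le h with rfl | hlt
  · exact SubnIn.refl _
  · have h1 := lt_normalizer_inf_of_isNilpotent hV hlt
    exact SubnIn.head ⟨h1.le, inf_le_left⟩ (ih _ h1 inf_le_right)

theorem SubnIn.of_isPGroup [Finite G] {p : ℕ} [Fact p.Prime] {H V : Subgroup G}
    (hV : IsPGroup p V) (h : H ≤ V) : SubnIn H V :=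
  SubnIn.of_isNilpotent hV.isNilpotent h

/-- A subnormal subgroup `H` of `V` whose order is coprime to `[V : V ∩ T]` lies in `T`. -/
theorem SubnIn.le_of_coprime [Finite G] {H V T : Subgroup G} (h : SubnIn H V)
    (hc : (Nat.card H).Coprime (T.relIndex V)) : H ≤ T := by
  rw [← Subgroup.relIndex_eq_one]
  exact Nat.eq_one_of_dvd_coprimes hc (Subgroup.relIndex_dvd_card T H) (h.relIndex_dvd T)

/-- A subnormal `p`-subgroup lies in every Sylow `p`-subgroup. -/
theorem le_sylow_of_isSubnormal [Finite G] {p : ℕ} [Fact p.Prime] {H : Subgroup G}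
    (h : H.IsSubnormal) (hp : IsPGroup p H) (P : Sylow p G) : H ≤ P := by
  refine (SubnIn.top_iff.2 h).le_of_coprime ?_
  obtain ⟨n, hn⟩ := hp.exists_card_eq
  rw [hn, Subgroup.relIndex_top_right]
  exact ((Nat.Prime.coprime_iff_not_dvd Fact.out).2 P.not_dvd_index).pow_left n

/-- A subnormal `p`-subgroup lies in a normal `p`-subgroup. -/
theorem exists_normal_pgroup_of_isSubnormal [Finite G] {p : ℕ} [Fact p.Prime] {H : Subgroup G}
    (h : H.IsSubnormal) (hp : IsPGroup p H) : ∃ N : Subgroup G, N.Normal ∧ IsPGroup p N ∧ H ≤ N := by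
  obtain ⟨P⟩ : Nonempty (Sylow p G) := inferInstance
  refine ⟨(P : Subgroup G).normalCore, inferInstance,
    P.isPGroup'.to_le (Subgroup.normalCore_le _), fun x hx g => ?_⟩
  have := le_sylow_of_isSubnormal h hp (g⁻¹ • P) hx
  rw [coe_sylow_smul, mem_conj_iff, inv_inv] at this
  exact this

theorem isPGroup_normalClosure_of_isSubnormal [Finite G] {p : ℕ} [Fact p.Prime] {H : Subgroup G}
    (h : H.IsSubnormal) (hp : IsPGroup p H) :
    IsPGroup p (Subgroup.normalClosure (H : Set G)) := by
  obtain ⟨N, _, h1, h2⟩ := exists_normal_pgroup_of_isSubnormal h hp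
  exact h1.to_le (Subgroup.normalClosure_le_normal h2)

end CL
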