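import Cfsg.Agent.Base
import Cfsg.Agent.Solv.Frobenius

/-!
Norm arguments for groups acting on abelian groups: action of a Frobenius group `KH` on an
abelian group `V`, and the `p × p` / `pq` lemmas.
-/

namespace CL.Frob

open Subgroup

section abstract

variable {M V : Type*} [Group M] [CommGroup V] [MulDistribMulAction M V]

/-- The norm of `v` with respect to a finite subgroup `B` is fixed by `B`. -/
theorem smul_prod_smul (B : Subgroup M) [Fintype B] (v : V) {b : M} (hb : b ∈ B) :
    b • ∏ x : B, (x : M) • v = ∏ x : B, (x : M) • v := by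
  rw [Finset.smul_prod']
  refine Fintype.prod_equiv (Equiv.mulLeft (⟨b, hb⟩ : B)) _ _ fun x => ?_
  simp [mul_smul]

theorem smul_prod_range_pow {x : M} {n : ℕ} (hx : x ^ n = 1) (v : V) :
    x • ∏ i ∈ Finset.range n, x ^ i • v = ∏ i ∈ Finset.range n, x ^ i • v := by
  rw [Finset.smul_prod']
  simp only [← mul_smul, ← pow_succ']
  have h1 := Finset.prod_range_succ (fun i => x ^ i • v) n
  have h2 := Finset.prod_range_succ' (fun i => x ^ i • v) n
  rw [h1, hx, pow_zero] at h2
  exact (mul_right_cancel h2).symm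

/-- A Frobenius group `KH` acting on an abelian group `V` with `C_V(H) = 1`: the `|K|`-th powers
in `V` are fixed by `K`. -/
theorem smul_pow_card_eq_of_frobenius {K H : Subgroup M} [Finite K] [Finite H]
    (hHK : H ≤ normalizer (K : Set M))
    (hfpf : ∀ h ∈ H, ∀ k ∈ K, h * k = k * h → h = 1 ∨ k = 1)
    (hH : ∀ v : V, (∀ h ∈ H, h • v = v) → v = 1) (v : V) {k₀ : M} (hk₀ : k₀ ∈ K) :
    k₀ • v ^ Nat.card K = v ^ Nat.card K := by
  classical
  have := Fintype.ofFinite K
  have := Fintype.ofFinite H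
  have h1 : ∀ k : K, ∏ h : H, ((k : M) * h * (k : M)⁻¹) • v = 1 := by
    intro k
    simp only [mul_smul]
    rw [← Finset.smul_prod', hH _ fun h hh => smul_prod_smul H _ hh, smul_one]
  have h2 : ∏ h : H, ∏ k : K, ((k : M) * h * (k : M)⁻¹) • v = 1 := by
    rw [Finset.prod_comm, Finset.prod_eq_one fun k _ => h1 k]
  have h3 : ∀ h : H, h ≠ 1 → ∏ k : K, ((k : M) * h * (k : M)⁻¹) • v =
      ∏ k : K, (k : M) • (h : M) • v := by
    intro h hh
    let f : K → K := fun k => ⟨k * h * (k : M)⁻¹ * (h : M)⁻¹, by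
      have := K.mul_mem k.2 ((Subgroup.mem_normalizer_iff.mp (hHK h.2) _).mp (K.inv_mem k.2))
      simpa only [mul_assoc] using this⟩
    have hf : Function.Injective f := by
      intro a b hab
      have h4 : (a : M) * h * (a : M)⁻¹ = b * h * (b : M)⁻¹ :=
        mul_right_cancel (congrArg Subtype.val hab)
      have h5 : (h : M) * ((b : M)⁻¹ * a) = ((b : M)⁻¹ * a) * h := by
        calc (h : M) * ((b : M)⁻¹ * a) = (b : M)⁻¹ * (b * h * (b : M)⁻¹) * a := by group
          _ = (b : M)⁻¹ * (a * h * (a : M)⁻¹) * a := by rw [h4]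
          _ = _ := by group
      rcases hfpf h h.2 _ (K.mul_mem (K.inv_mem b.2) a.2) h5 with h6 | h6
      · exact absurd (Subtype.ext h6) hh
      · exact Subtype.ext (inv_mul_eq_one.mp h6).symm
    refine Fintype.prod_bijective f (Finite.injective_iff_bijective.mp hf) _ _ fun k => ?_
    simp only [f, ← mul_smul, inv_mul_cancel_right]
  rw [← Finset.mul_prod_erase _ _ (Finset.mem_univ (1 : H))] at h2
  simp only [OneMemClass.coe_one, mul_one, mul_inv_cancel, one_smul, Finset.prod_const,
    Finset.card_univ, ← Nat.card_eq_fintype_card] at h2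
  rw [eq_inv_of_mul_eq_one_left h2, smul_inv', Finset.smul_prod']
  congr 1
  refine Finset.prod_congr rfl fun h hh => ?_
  rw [h3 h (Finset.ne_of_mem_erase hh), smul_prod_smul K _ hk₀]

/-- If `y` normalizes `Q`, all elements of the coset `Q y` satisfy `(x y) ^ p = 1` and have no
non-identity fixed point on the abelian group `V`, then the `|Q|`-th powers in `V` are fixed by
`Q`. -/
theorem smul_pow_card_eq_of_coset {p : ℕ} (hp : p.Prime) {Q : Subgroup M} [Finite Q] {y : M}
    (hy : y ∈ normalizer (Q : Set M)) (hpow : ∀ x ∈ Q, (x * y) ^ p = 1)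
    (hfix : ∀ x ∈ Q, ∀ v : V, (x * y) • v = v → v = 1) (v : V) {k₀ : M} (hk₀ : k₀ ∈ Q) :
    k₀ • v ^ Nat.card Q = v ^ Nat.card Q := by
  classical
  have := Fintype.ofFinite Q
  have h1 : ∀ x : Q, ∏ i ∈ Finset.range p, ((x : M) * y) ^ i • v = 1 := fun x =>
    hfix x x.2 _ (smul_prod_range_pow (hpow x x.2) v)
  have h2 : ∏ i ∈ Finset.range p, ∏ x : Q, ((x : M) * y) ^ i • v = 1 := by
    rw [Finset.prod_comm, Finset.prod_eq_one fun k _ => h1 k]
  have hmem : ∀ x ∈ Q, ∀ i : ℕ, (x * y) ^ i * (y ^ i)⁻¹ ∈ Q := by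
    intro x hx i
    induction i with
    | zero => simp
    | succ i ih =>
      have := Q.mul_mem hx ((Subgroup.mem_normalizer_iff.mp hy _).mp ih)
      convert this using 1
      rw [pow_succ', pow_succ']; group
  have h3 : ∀ i ∈ Finset.range p, i ≠ 0 → ∏ x : Q, ((x : M) * y) ^ i • v =
      ∏ x : Q, (x : M) • (y ^ i) • v := by
    intro i hi hi0
    let f : Q → Q := fun x => ⟨((x : M) * y) ^ i * (y ^ i)⁻¹, hmem x x.2 i⟩
    have hf : Function.Injective f := by
      intro a b hab
      have h4 : ((a : M) * y) ^ i = ((b : M) * y) ^ i :=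
        mul_right_cancel (congrArg Subtype.val hab)
      have hcop : i.Coprime p := (Nat.coprime_of_lt_prime hi0 (Finset.mem_range.mp hi) hp).symm
      obtain ⟨j, -, hj⟩ := Nat.exists_mul_mod_eq_one_of_coprime hcop hp.one_lt
      have h5 : ∀ z : M, z ^ p = 1 → (z ^ i) ^ j = z := fun z hz => by
        rw [← pow_mul, ← Nat.mod_add_div (i * j) p, hj, pow_add, pow_mul, hz]; simp
      have h6 : (a : M) * y = b * y := by rw [← h5 _ (hpow a a.2), h4, h5 _ (hpow b b.2)]
      exact Subtype.ext (mul_right_cancel h6)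
    refine Fintype.prod_bijective f (Finite.injective_iff_bijective.mp hf) _ _ fun k => ?_
    simp only [f, ← mul_smul, inv_mul_cancel_right]
  rw [← Finset.mul_prod_erase _ _ (Finset.mem_range.mpr hp.pos)] at h2
  simp only [pow_zero, one_smul, Finset.prod_const,
    Finset.card_univ, ← Nat.card_eq_fintype_card] at h2
  rw [eq_inv_of_mul_eq_one_left h2, smul_inv', Finset.smul_prod']
  congr 1
  refine Finset.prod_congr rfl fun i hi => ?_
  rw [h3 i (Finset.mem_of_mem_erase hi) (Finset.ne_of_mem_erase hi), smul_prod_smul Q _ hk₀]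

theorem smul_eq_of_smul_pow_eq [Finite V] {n : ℕ} (hn : (Nat.card V).Coprime n) {k : M} {v : V}
    (h : k • v ^ n = v ^ n) : k • v = v := by
  rw [smul_pow'] at h
  exact (powCoprime hn).injective h

/-- A Frobenius group `KH` acting on an abelian group `V` of order prime to `|K|` with
`C_V(H) = 1`: then `K` acts trivially. -/
theorem smul_eq_of_frobenius [Finite V] {K H : Subgroup M} [Finite K] [Finite H]
    (hHK : H ≤ normalizer (K : Set M))
    (hfpf : ∀ h ∈ H, ∀ k ∈ K, h * k = k * h → h = 1 ∨ k = 1)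
    (hcop : (Nat.card V).Coprime (Nat.card K))
    (hH : ∀ v : V, (∀ h ∈ H, h • v = v) → v = 1) (v : V) {k : M} (hk : k ∈ K) : k • v = v :=
  smul_eq_of_smul_pow_eq hcop (smul_pow_card_eq_of_frobenius hHK hfpf hH v hk)

end abstract

section ambient

variable {G : Type*} [Group G]

open scoped IsMulCommutative

theorem normalizer_smul_coe {V : Subgroup G} (g : normalizer (V : Set G)) (v : V) :
    ((g • v : V) : G) = g * v * (g : G)⁻¹ := rfl

theorem subgroupOf_le_normalizer_subgroupOf {H K : Subgroup G} (M : Subgroup G)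
    (h : H ≤ normalizer (K : Set G)) :
    H.subgroupOf M ≤ normalizer (K.subgroupOf M : Set M) := by
  intro x hx
  rw [Subgroup.mem_normalizer_iff]
  intro k
  simpa [Subgroup.mem_subgroupOf] using Subgroup.mem_normalizer_iff.mp (h hx) (k : G)

/-- A Frobenius group `KH` normalizing an abelian subgroup `V` of order prime to `|K|` with
`C_V(H) = 1`: then `K` centralizes `V`. -/
theorem le_centralizer_of_frobenius [Finite G] {K H V : Subgroup G} [IsMulCommutative V]
    (hHK : H ≤ normalizer (K : Set G)) (hfpf : ∀ h ∈ H, h ≠ 1 → K ⊓ centralizer {h} = ⊥)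
    (hKV : K ≤ normalizer (V : Set G)) (hHV : H ≤ normalizer (V : Set G))
    (hcop : (Nat.card V).Coprime (Nat.card K)) (hH : V ⊓ centralizer (H : Set G) = ⊥) :
    K ≤ centralizer (V : Set G) := by
  intro k hk v hv
  rw [fpf_iff] at hfpf
  have key := smul_eq_of_frobenius (M := normalizer (V : Set G)) (V := V)
    (K := K.subgroupOf _) (H := H.subgroupOf _) (subgroupOf_le_normalizer_subgroupOf _ hHK)
    (fun h hh k hk e => (hfpf h hh k hk (congrArg Subtype.val e)).imp Subtype.ext Subtype.ext)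
    (by rwa [Nat.card_congr (Subgroup.subgroupOfEquivOfLe hKV).toEquiv])
    (fun w hw => by
      have : (w : G) ∈ V ⊓ centralizer (H : Set G) := ⟨w.2, fun h hh => by
        have := congrArg Subtype.val (hw ⟨h, hHV hh⟩ hh)
        exact mul_inv_eq_iff_eq_mul.mp this⟩
      rw [hH] at this
      exact Subtype.ext this) ⟨v, hv⟩ (k := ⟨k, hKV hk⟩) hk
  exact (mul_inv_eq_iff_eq_mul.mp (congrArg Subtype.val key)).symm

/-- Ambient version of `smul_pow_card_eq_of_coset`. -/
theorem le_centralizer_of_coset [Finite G] {p : ℕ} (hp : p.Prime) {Q V : Subgroup G}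
    [IsMulCommutative V] {y : G} (hy : y ∈ normalizer (Q : Set G))
    (hQV : Q ≤ normalizer (V : Set G)) (hyV : y ∈ normalizer (V : Set G))
    (hcop : (Nat.card V).Coprime (Nat.card Q)) (hpow : ∀ x ∈ Q, (x * y) ^ p = 1)
    (hfix : ∀ x ∈ Q, V ⊓ centralizer {x * y} = ⊥) : Q ≤ centralizer (V : Set G) := by
  intro k hk v hv
  have key := smul_pow_card_eq_of_coset (M := normalizer (V : Set G)) (V := V) hp
    (Q := Q.subgroupOf _) (y := ⟨y, hyV⟩) (by
      rw [Subgroup.mem_normalizer_iff]
      intro k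
      simpa [Subgroup.mem_subgroupOf] using Subgroup.mem_normalizer_iff.mp hy (k : G))
    (fun x hx => Subtype.ext (hpow x hx))
    (fun x hx w hw => by
      have : (w : G) ∈ V ⊓ centralizer {(x : G) * y} := ⟨w.2, by
        have := congrArg Subtype.val hw
        exact Subgroup.mem_centralizer_singleton_iff.mpr (mul_inv_eq_iff_eq_mul.mp this).symm⟩
      rw [hfix x hx] at this
      exact Subtype.ext this) ⟨v, hv⟩ (k₀ := ⟨k, hQV hk⟩) hk
  rw [Nat.card_congr (Subgroup.subgroupOfEquivOfLe hQV).toEquiv] at key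
  exact (mul_inv_eq_iff_eq_mul.mp (congrArg Subtype.val (smul_eq_of_smul_pow_eq hcop key))).symm

end ambient

end CL.Frob
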