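import Cfsg.Agent.Solv.SylowSystem
import Cfsg.Agent.Solv.Coprime

/-!
# Invariant Hall subgroups under coprime action on a solvable group
-/

open Cfsg
open scoped Pointwise commutatorElement

namespace CL

namespace Hall

universe u

/-- A group with a solvable normal subgroup of `π`-index satisfies the separation hypothesis. -/
theorem sepHyp_of_normal_solvable {π : Set ℕ} {G : Type u} [Group G] [Finite G] (H : Subgroup G)
    [H.Normal] [Group.IsSolvable H] (h : IsPiNum π H.index) : SepHyp π G := by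
  intro Q _ f hf hQ
  have : Finite Q := Finite.of_surjective f hf
  have : (H.map f).Normal := Subgroup.Normal.map inferInstance f hf
  have : Group.IsSolvable (H.map f) := Group.isSolvable_of_surjective (f.subgroupMap_surjective H)
  rcases eq_or_ne (H.map f) ⊥ with h1 | h1
  · refine ⟨⊤, inferInstance, top_ne_bot, Or.inl ?_⟩
    have h2 := H.index_map_dvd hf
    rw [h1, Subgroup.index_bot] at h2
    rw [Subgroup.card_top]
    exact h.of_dvd h2
  · obtain ⟨p, N, hp, hN, -, hN', hpN, hc⟩ := exists_normal_abelian_pgroup_le (H.map f) h1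
    refine ⟨N, hN, hN', ?_⟩
    have := Fact.mk hp
    have := hpN.isNilpotent
    by_cases h : p ∈ π
    · exact Or.inl (Pi.isPiNum_card_of_isPGroup hp h hpN)
    · exact Or.inr ⟨Pi.isPiNum_card_of_isPGroup hp h hpN, inferInstance⟩

variable {π : Set ℕ} {G : Type*} [Group G] [Finite G] {A K : Subgroup G}

/-- Every `A`-invariant `π`-subgroup of `K` lies in an `A`-invariant Hall `π`-subgroup. -/
theorem exists_invariant_ge [Group.IsSolvable K] (hAK : A ≤ Subgroup.normalizer (K : Set G))
    (hcop : (Nat.card A).Coprime (Nat.card K)) {X : Subgroup G} (hXK : X ≤ K)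
    (hX : IsPiNum π (Nat.card X)) (hAX : A ≤ Subgroup.normalizer (X : Set G)) :
    ∃ H : Subgroup G, IsPiHallOf π H K ∧ A ≤ Subgroup.normalizer (H : Set G) ∧ X ≤ H := by
  set L := A ⊔ K with hL
  set σ : Set ℕ := π ∪ {p | p ∣ Nat.card A} with hσ
  have hLK : L ≤ Subgroup.normalizer (K : Set G) := sup_le hAK Subgroup.le_normalizer
  have hn : (K.subgroupOf L).Normal := Pi.normal_subgroupOf_of_le_normalizer hLK
  have hs : Group.IsSolvable (K.subgroupOf L) := Group.isSolvable_of_isSolvable_injective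
    (f := (Subgroup.subgroupOfEquivOfLe (le_sup_right : K ≤ L)).toMonoidHom)
    (Subgroup.subgroupOfEquivOfLe _).injective
  have hA : IsPiNum σ (Nat.card A) := (IsPiNum.self_dvd _).mono Set.subset_union_right
  have hidx : IsPiNum σ (K.subgroupOf L).index := by
    refine hA.of_dvd ?_
    have h1 := Pi.card_sup_dvd_of_le_normalizer hAK
    rw [← Pi.card_mul_relIndex (le_sup_right : K ≤ A ⊔ K), mul_comm (Nat.card A)] at h1
    exact Nat.dvd_of_mul_dvd_mul_left Nat.card_pos h1
  have hXA : IsPiNum σ (Nat.card ↥(A ⊔ X)) :=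
    Pi.isPiNum_card_sup hAX hA (hX.mono Set.subset_union_left)
  obtain ⟨Y, hY, hle⟩ := (sepHyp_of_normal_solvable (K.subgroupOf L) hidx).exists_isPiHall_ge
    (Pi.isPiNum_card_subgroupOf hXA L)
  have hle' : A ⊔ X ≤ Y.map L.subtype := fun x hx =>
    ⟨⟨x, sup_le_sup_left hXK A hx⟩, hle hx, rfl⟩
  have h1 := PiHall.of_inf_normal (PiHall.isPiHallOf_map_subtype.mpr hY) le_sup_right hLK
  refine ⟨Y.map L.subtype ⊓ K, ?_, ?_, le_inf (le_sup_right.trans hle') hXK⟩
  · rw [PiHall.isPiHallOf_iff_subgroupOf inf_le_right] at h1 ⊢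
    refine PiHall.congr h1 fun p hp hd => ⟨fun h => h.resolve_right fun h' => ?_, Or.inl⟩
    exact hp.ne_one (Nat.eq_one_of_dvd_coprimes hcop h' hd)
  · exact (le_inf ((le_sup_left.trans hle').trans Subgroup.le_normalizer) hAK).trans
      Subgroup.inf_normalizer_le_normalizer_inf

/-- There is an `A`-invariant Hall `π`-subgroup. -/
theorem exists_invariant (π : Set ℕ) [Group.IsSolvable K]
    (hAK : A ≤ Subgroup.normalizer (K : Set G)) (hcop : (Nat.card A).Coprime (Nat.card K)) :
    ∃ H : Subgroup G, IsPiHallOf π H K ∧ A ≤ Subgroup.normalizer (H : Set G) := by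
  obtain ⟨H, h1, h2, -⟩ := exists_invariant_ge (π := π) hAK hcop (X := ⊥) bot_le
    (by rw [Subgroup.card_bot]; exact IsPiNum.one π)
    (by rw [Subgroup.normalizer_eq_top]; exact le_top)
  exact ⟨H, h1, h2⟩

/-- `A`-invariant Hall `π`-subgroups are conjugate under `C_K(A)`. -/
theorem invariant_conj [hK : Group.IsSolvable K] (hAK : A ≤ Subgroup.normalizer (K : Set G))
    (hcop : (Nat.card A).Coprime (Nat.card K)) {X Y : Subgroup G} (hX : IsPiHallOf π X K)
    (hAX : A ≤ Subgroup.normalizer (X : Set G)) (hY : IsPiHallOf π Y K)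
    (hAY : A ≤ Subgroup.normalizer (Y : Set G)) :
    ∃ c ∈ K ⊓ Subgroup.centralizer (A : Set G), MulAut.conj c • X = Y := by
  obtain ⟨k, hk, h⟩ := of_exists_conj_eq hX hY
  exact coprime_conj_of_conj hAK hcop (Or.inr hK) hAX hAY hk h

/-- An `A`-invariant `π`-subgroup is conjugate under `C_K(A)` into a given `A`-invariant Hall
`π`-subgroup. -/
theorem invariant_conj_le [Group.IsSolvable K] (hAK : A ≤ Subgroup.normalizer (K : Set G))
    (hcop : (Nat.card A).Coprime (Nat.card K)) {X Y : Subgroup G} (hXK : X ≤ K)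
    (hX : IsPiNum π (Nat.card X)) (hAX : A ≤ Subgroup.normalizer (X : Set G))
    (hY : IsPiHallOf π Y K) (hAY : A ≤ Subgroup.normalizer (Y : Set G)) :
    ∃ c ∈ K ⊓ Subgroup.centralizer (A : Set G), MulAut.conj c • X ≤ Y := by
  obtain ⟨H, h1, h2, h3⟩ := exists_invariant_ge hAK hcop hXK hX hAX
  obtain ⟨c, hc, rfl⟩ := invariant_conj hAK hcop h1 h2 hY hAY
  exact ⟨c, hc, Subgroup.pointwise_smul_le_pointwise_smul_iff.mpr h3⟩

/-- The fixed points of `A` in an `A`-invariant Hall `π`-subgroup form a Hall `π`-subgroup of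
`C_K(A)`. -/
theorem invariant_inf_centralizer [Group.IsSolvable K] (hAK : A ≤ Subgroup.normalizer (K : Set G))
    (hcop : (Nat.card A).Coprime (Nat.card K)) {Y : Subgroup G} (hY : IsPiHallOf π Y K)
    (hAY : A ≤ Subgroup.normalizer (Y : Set G)) :
    IsPiHallOf π (Y ⊓ Subgroup.centralizer (A : Set G)) (K ⊓ Subgroup.centralizer (A : Set G)) := by
  have : Group.IsSolvable ↥(K ⊓ Subgroup.centralizer (A : Set G)) :=
    Group.isSolvable_of_isSolvable_injective (Subgroup.inclusion_injective inf_le_left)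
  obtain ⟨X, hX⟩ := exists_isPiHallOf π (K ⊓ Subgroup.centralizer (A : Set G))
  have hAX : A ≤ Subgroup.normalizer (X : Set G) :=
    (Subgroup.le_centralizer_iff.mp (hX.1.trans inf_le_right)).trans
      (Subgroup.centralizer_le_normalizer _)
  obtain ⟨c, hc, hle⟩ := invariant_conj_le hAK hcop (hX.1.trans inf_le_left) (PiHall.of_card_pi hX)
    hAX hY hAY
  have h1 := PiHall.of_conj_smul hX (Subgroup.le_normalizer hc)
  rwa [PiHall.of_eq_of_le h1 (inf_le_inf_right _ hY.1)
    (Pi.isPiNum_card_of_le (PiHall.of_card_pi hY) inf_le_left)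
    (le_inf hle (h1.1.trans inf_le_right))] at h1

/-- If `A` centralises a Hall `π'`-subgroup of `K` then `[K, A] ≤ O_π(K)`. -/
theorem commutator_le_piCore [Group.IsSolvable K] (hAK : A ≤ Subgroup.normalizer (K : Set G))
    (hcop : (Nat.card A).Coprime (Nat.card K)) {Z : Subgroup G} (hZ : IsPiHallOf πᶜ Z K)
    (hZA : Z ≤ Subgroup.centralizer (A : Set G)) : ⁅K, A⁆ ≤ (piCore π K).map K.subtype := by
  obtain ⟨Y, hY, hAY⟩ := exists_invariant π hAK hcop
  have h1 : ⁅K, A⁆ ≤ Y := by
    rw [Subgroup.commutator_le]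
    intro k hk a ha
    have hk' : k ∈ (Y : Set G) * Z := coe_eq_mul_of_isPiHallOf hY hZ ▸ hk
    obtain ⟨y, hy, z, hz, rfl⟩ := hk'
    have h2 : a * z = z * a := hZA hz a ha
    have h3 : ⁅y * z, a⁆ = y * (a * y⁻¹ * a⁻¹) := by
      rw [commutatorElement_def, mul_assoc y z a, ← h2]; group
    rw [h3]
    exact Y.mul_mem hy ((Subgroup.mem_normalizer_iff.mp (hAY ha) _).mp (Y.inv_mem hy))
  exact PiCore.le_map_subtype (h1.trans hY.1) (Subgroup.normalizer_commutator_ge_left K A)
    (Pi.isPiNum_card_of_le (PiHall.of_card_pi hY) h1)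

end Hall

end CL
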