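import Cfsg.Agent.Solv.Pi

/-!
# Gaschütz's complement theorems

Crossed homomorphisms `f : G → K` into an abelian normal subgroup `K`, transfer (corestriction)
from a subgroup `U ≥ K` of index coprime to `|K|`.
-/

open scoped Pointwise IsMulCommutative

namespace CL

namespace Gaschutz

variable {G : Type*} [Group G] {K : Subgroup G} [K.Normal]

/-- `f` is a crossed homomorphism on the subgroup `U`. -/
def IsCrossedOn (K : Subgroup G) [K.Normal] (U : Subgroup G) (f : G → K) : Prop :=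
  ∀ x ∈ U, ∀ y ∈ U, f (x * y) = f x * MulAut.conjNormal x (f y)

theorem IsCrossedOn.map_one {U : Subgroup G} {f : G → K} (hf : IsCrossedOn K U f) : f 1 = 1 := by
  have := hf 1 U.one_mem 1 U.one_mem
  rw [mul_one, _root_.map_one, MulAut.one_apply] at this
  exact left_eq_mul.mp this

/-- The kernel of a crossed homomorphism on `G` is a subgroup. -/
def crossedKer (f : G → K) (hf : IsCrossedOn K ⊤ f) : Subgroup G where
  carrier := {g | f g = 1}
  one_mem' := hf.map_one
  mul_mem' := fun {a b} ha hb => by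
    change f (a * b) = 1
    rw [hf a trivial b trivial, show f a = 1 from ha, show f b = 1 from hb, map_one, mul_one]
  inv_mem' := fun {a} ha => by
    have h := hf a trivial a⁻¹ trivial
    rw [mul_inv_cancel, hf.map_one, show f a = 1 from ha, one_mul] at h
    exact (MulAut.conjNormal a).injective (h.symm.trans (map_one _).symm)

variable [IsMulCommutative K]

/-- The `K`-component function of a complement `A` of `K` in `U`. -/
theorem exists_crossed_of_complement {U A : Subgroup G} (hAK : A ⊓ K = ⊥) (hKA : K ⊔ A = U) :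
    ∃ f : G → K, IsCrossedOn K U f ∧ ∀ k : K, ∀ a ∈ A, f (k * a) = k := by
  classical
  have hdec : ∀ u ∈ U, ∃ k : K, (k : G)⁻¹ * u ∈ A := by
    intro u hu
    have : u ∈ (K : Set G) * A := by rw [← Subgroup.normal_mul, hKA]; exact hu
    obtain ⟨k, hk, a, ha, rfl⟩ := this
    exact ⟨⟨k, hk⟩, by simpa using ha⟩
  have huniq : ∀ (u : G) (k l : K), (k : G)⁻¹ * u ∈ A → (l : G)⁻¹ * u ∈ A → k = l := by
    intro u k l hk hl
    have h1 : (k : G)⁻¹ * l ∈ A ⊓ K := by
      refine ⟨?_, K.mul_mem (K.inv_mem k.2) l.2⟩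
      have := A.mul_mem hk (A.inv_mem hl)
      simpa [mul_assoc] using this
    rw [hAK, Subgroup.mem_bot, inv_mul_eq_one] at h1
    exact Subtype.ext h1
  let f : G → K := fun u => if h : u ∈ U then (hdec u h).choose else 1
  have hf : ∀ u ∈ U, (f u : G)⁻¹ * u ∈ A := fun u hu => by
    simp only [f, dif_pos hu]; exact (hdec u hu).choose_spec
  refine ⟨f, fun x hx y hy => huniq (x * y) _ _ (hf _ (U.mul_mem hx hy)) ?_, fun k a ha => ?_⟩
  · have := A.mul_mem (hf x hx) (hf y hy)
    rw [mul_comm (f x)]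
    convert this using 1
    simp only [Subgroup.coe_mul, MulAut.conjNormal_apply]
    group
  · refine huniq (k * a) _ _ (hf _ ?_) (by simpa using ha)
    rw [← hKA]; exact Subgroup.mul_mem_sup k.2 ha

omit [K.Normal] [IsMulCommutative K] in
theorem pow_injective_of_coprime [Finite K] {n : ℕ} (h : (Nat.card K).Coprime n) :
    Function.Bijective (fun k : K => k ^ n) :=
  (powCoprime h).bijective

/-- Transfer of a crossed homomorphism from `U` to `G`. -/
theorem exists_transfer [Finite G] {U : Subgroup G} (hKU : K ≤ U) {f : G → K}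
    (hf : IsCrossedOn K U f) (hfK : ∀ k : K, f k = k) :
    ∃ F : G → K, IsCrossedOn K ⊤ F ∧ ∀ k : K, F k = k ^ U.index := by
  classical
  have := Fintype.ofFinite (G ⧸ U)
  let t : G ⧸ U → G := Quotient.out
  have ht : ∀ q, (t q : G ⧸ U) = q := fun q => QuotientGroup.out_eq' q
  have hu : ∀ (g : G) (q : G ⧸ U), (t (g • q))⁻¹ * g * t q ∈ U := fun g q => by
    rw [mul_assoc, ← QuotientGroup.eq, ht]
    conv_lhs => rw [← ht q]
    rfl
  let F : G → K := fun g => ∏ q : G ⧸ U, MulAut.conjNormal (t (g • q)) (f ((t (g • q))⁻¹ * g * t q))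
  refine ⟨F, fun x _ y _ => ?_, fun k => ?_⟩
  · have h1 : F x = ∏ q : G ⧸ U, MulAut.conjNormal (t (x • y • q))
        (f ((t (x • y • q))⁻¹ * x * t (y • q))) :=
      (Equiv.prod_comp (MulAction.toPerm y) fun q : G ⧸ U =>
        MulAut.conjNormal (t (x • q)) (f ((t (x • q))⁻¹ * x * t q))).symm
    rw [h1]
    simp only [F, map_prod, ← Finset.prod_mul_distrib]
    refine Finset.prod_congr rfl fun q _ => ?_
    have h2 : (t ((x * y) • q))⁻¹ * (x * y) * t q =
        ((t (x • y • q))⁻¹ * x * t (y • q)) * ((t (y • q))⁻¹ * y * t q) := by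
      rw [mul_smul]; group
    rw [h2, hf _ (hu x _) _ (hu y q), map_mul, mul_smul]
    congr 1
    rw [← MulAut.mul_apply, ← MulAut.mul_apply, ← map_mul, ← map_mul]
    congr 2
    group
  · have h1 : ∀ q : G ⧸ U, (k : G) • q = q := fun q => by
      conv_rhs => rw [← ht q]
      conv_lhs => rw [← ht q]
      refine QuotientGroup.eq.mpr (hKU ?_)
      have := (inferInstance : K.Normal).conj_mem _ (K.inv_mem k.2) (t q)⁻¹
      simpa [mul_assoc] using this
    have h2 : ∀ q : G ⧸ U, MulAut.conjNormal (t q) (f ((t q)⁻¹ * k * t q)) = k := fun q => by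
      have h3 : (t q)⁻¹ * k * t q = (MulAut.conjNormal (t q)⁻¹ k : K) := by simp
      rw [h3, hfK, ← MulAut.mul_apply, ← map_mul, mul_inv_cancel, map_one, MulAut.one_apply]
    simp only [F, h1, h2, Finset.prod_const, Finset.card_univ]
    rw [Subgroup.index_eq_card, Nat.card_eq_fintype_card]

/-- **Gaschütz**, existence. -/
theorem exists_complement [Finite G] {U A : Subgroup G} (hKU : K ≤ U)
    (hcop : (Nat.card K).Coprime U.index) (hAK : A ⊓ K = ⊥) (hKA : K ⊔ A = U) :
    ∃ H : Subgroup G, K.IsComplement' H := by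
  obtain ⟨f, hf, hfK⟩ := exists_crossed_of_complement hAK hKA
  obtain ⟨F, hF, hFK⟩ := exists_transfer hKU hf fun k => by simpa using hfK k 1 A.one_mem
  have hb := pow_injective_of_coprime hcop
  refine ⟨crossedKer F hF, Subgroup.isComplement'_of_disjoint_and_mul_eq_univ ?_ ?_⟩
  · rw [Subgroup.disjoint_def]
    intro x hx hx'
    have h1 : F (⟨x, hx⟩ : K) = 1 := hx'
    rw [hFK] at h1
    exact congrArg Subtype.val (hb.1 (h1.trans (one_pow _).symm))
  · rw [Set.eq_univ_iff_forall]
    intro g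
    obtain ⟨k, hk⟩ := hb.2 (F g)
    refine ⟨k, k.2, (k : G)⁻¹ * g, ?_, by simp⟩
    change F ((k⁻¹ : K) * g) = 1
    have h2 : MulAut.conjNormal ((k⁻¹ : K) : G) (F g) = F g := by
      ext
      rw [MulAut.conjNormal_apply, ← Subgroup.coe_mul, ← Subgroup.coe_inv, ← Subgroup.coe_mul,
        mul_comm k⁻¹, mul_inv_cancel_right]
    rw [hF _ trivial _ trivial, hFK, h2, ← hk, inv_pow, inv_mul_cancel]

/-- A crossed homomorphism vanishing on a subgroup of index coprime to `|K|` is principal. -/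
theorem exists_principal [Finite G] {U : Subgroup G} (hcop : (Nat.card K).Coprime U.index)
    {d : G → K} (hd : IsCrossedOn K ⊤ d) (hU : ∀ u ∈ U, d u = 1) :
    ∃ b : K, ∀ g : G, b = d g * MulAut.conjNormal g b := by
  classical
  have := Fintype.ofFinite (G ⧸ U)
  let t : G ⧸ U → G := Quotient.out
  have ht : ∀ q, (t q : G ⧸ U) = q := fun q => QuotientGroup.out_eq' q
  have hb := pow_injective_of_coprime hcop
  obtain ⟨b, hbc⟩ := hb.2 (∏ q : G ⧸ U, d (t q))
  refine ⟨b, fun g => hb.1 ?_⟩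
  have h1 : ∀ q : G ⧸ U, d (t (g • q)) = d g * MulAut.conjNormal g (d (t q)) := fun q => by
    have hu : (g * t q)⁻¹ * t (g • q) ∈ U := by
      rw [← QuotientGroup.eq, ht]
      conv_rhs => rw [← ht q]
      rfl
    have h2 : t (g • q) = g * t q * ((g * t q)⁻¹ * t (g • q)) := by group
    rw [h2, hd _ trivial _ trivial, hU _ hu, map_one, mul_one, hd _ trivial _ trivial]
  have h3 : ∏ q : G ⧸ U, d (t q) = ∏ q : G ⧸ U, d (t (g • q)) :=
    (Equiv.prod_comp (MulAction.toPerm g) fun q : G ⧸ U => d (t q)).symm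
  have hbc' : b ^ U.index = ∏ q : G ⧸ U, d (t q) := hbc
  change b ^ U.index = (d g * MulAut.conjNormal g b) ^ U.index
  rw [mul_pow, ← map_pow, hbc']
  conv_lhs => rw [h3]
  simp only [h1, Finset.prod_mul_distrib, Finset.prod_const, Finset.card_univ, map_prod]
  rw [Subgroup.index_eq_card, Nat.card_eq_fintype_card]

/-- **Gaschütz**, conjugacy. -/
theorem exists_conj_eq [Finite G] {U H₀ H₁ : Subgroup G} (hKU : K ≤ U)
    (hcop : (Nat.card K).Coprime U.index) (h₀ : K.IsComplement' H₀) (h₁ : K.IsComplement' H₁)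
    (hU : H₀ ⊓ U = H₁ ⊓ U) : ∃ b ∈ K, MulAut.conj b • H₀ = H₁ := by
  obtain ⟨f₀, hf₀, hK₀⟩ := exists_crossed_of_complement (K := K) (U := ⊤)
    (disjoint_iff.mp h₀.disjoint.symm) h₀.sup_eq_top
  obtain ⟨f₁, hf₁, hK₁⟩ := exists_crossed_of_complement (K := K) (U := ⊤)
    (disjoint_iff.mp h₁.disjoint.symm) h₁.sup_eq_top
  have hd : IsCrossedOn K ⊤ fun g => f₁ g * (f₀ g)⁻¹ := fun x _ y _ => by
    simp only [hf₀ x trivial y trivial, hf₁ x trivial y trivial, map_mul, map_inv, mul_inv]
    exact mul_mul_mul_comm _ _ _ _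
  obtain ⟨b, hb⟩ := exists_principal hcop hd fun u hu => by
    obtain ⟨⟨k, a⟩, rfl⟩ := h₀.2 u
    have ha : (a : G) ∈ H₀ ⊓ U := ⟨a.2, (U.mul_mem_cancel_left (hKU k.2)).mp hu⟩
    have h1 := hK₀ k a a.2
    have h2 := hK₁ k a (hU ▸ ha).1
    simp only at h1 h2 ⊢
    rw [h1, h2, mul_inv_cancel]
  refine ⟨(b : G)⁻¹, K.inv_mem b.2, Subgroup.eq_of_le_of_card_ge (fun x hx => ?_) ?_⟩
  · obtain ⟨y, hy, rfl⟩ := (Subgroup.mem_smul_pointwise_iff_exists _ _ _).mp hx
    obtain ⟨⟨k, a⟩, hka⟩ := h₁.2 y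
    have hka' : (k : G) * a = y := hka
    have h1 : f₀ y = 1 := by simpa using hK₀ 1 y hy
    have h2 : f₁ y = k := hka' ▸ hK₁ k a a.2
    have h3 := hb y
    simp only [h1, h2, inv_one, mul_one] at h3
    rw [mul_comm] at h3
    have h4 : (b : G) = y * b * y⁻¹ * k := by simpa using congrArg Subtype.val h3
    have h6 : MulAut.conj (b : G)⁻¹ • y = a := by
      rw [MulAut.smul_def, MulAut.conj_apply, inv_inv]
      have h7 : y * b = b * (k : G)⁻¹ * y := by
        conv_rhs => rw [h4]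
        group
      rw [mul_assoc, h7, ← hka']
      group
    rw [h6]; exact a.2
  · rw [Pi.card_smul, ← h₀.symm.index_eq_card, ← h₁.symm.index_eq_card]

end Gaschutz

end CL
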