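import Cfsg.Agent.Solv.PiCore

/-!
# Finite nilpotent groups and the Fitting subgroup

API for `Cfsg.fittingSubgroup` and `Cfsg.fittingOf` (finite groups).
-/

namespace CL

open Subgroup Cfsg
open scoped commutatorElement

variable {G : Type*} [Group G] {H : Type*} [Group H]

/-! ### Nilpotent groups -/

theorem isNilpotent_iff_normalizerCondition [Finite G] :
    Group.IsNilpotent G ↔ NormalizerCondition G :=
  (Group.isNilpotent_of_finite_tfae (G := G)).out 0 1

theorem isNilpotent_iff_coatom_normal [Finite G] :
    Group.IsNilpotent G ↔ ∀ M : Subgroup G, IsCoatom M → M.Normal :=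
  (Group.isNilpotent_of_finite_tfae (G := G)).out 0 2

theorem isNilpotent_iff_sylow_normal [Finite G] :
    Group.IsNilpotent G ↔
      ∀ (p : ℕ) (_ : Fact p.Prime) (P : Sylow p G), (P : Subgroup G).Normal :=
  (Group.isNilpotent_of_finite_tfae (G := G)).out 0 3

/-- If for every prime `p` some Sylow `p`-subgroup is normal, the group is nilpotent. -/
theorem isNilpotent_of_exists_sylow_normal [Finite G]
    (h : ∀ (p : ℕ) (_ : Fact p.Prime), p ∣ Nat.card G → ∃ P : Sylow p G, (P : Subgroup G).Normal) :
    Group.IsNilpotent G := by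
  rw [isNilpotent_iff_sylow_normal]
  intro p hp Q
  by_cases hd : p ∣ Nat.card G
  · obtain ⟨P, hP⟩ := h p hp hd
    have := P.unique_of_normal hP
    rw [Subsingleton.elim Q P]
    exact hP
  · have : (Q : Subgroup G) = ⊥ := by
      rcases Q.isPGroup'.card_eq_or_dvd with h1 | h1
      · exact card_eq_one.mp h1
      · exact absurd (h1.trans (card_subgroup_dvd_card _)) hd
    rw [this]
    infer_instance

theorem isNilpotent_of_le {K L : Subgroup G} (h : K ≤ L) [Group.IsNilpotent L] :
    Group.IsNilpotent K :=
  Group.nilpotent_of_mulEquiv (subgroupOfEquivOfLe h)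

theorem isNilpotent_map {K : Subgroup G} [Group.IsNilpotent K] (f : G →* H) :
    Group.IsNilpotent (K.map f) :=
  Group.nilpotent_of_surjective (f.subgroupMap K) (f.subgroupMap_surjective K)

theorem isNilpotent_of_injective [Group.IsNilpotent H] (f : G →* H) (hf : Function.Injective f) :
    Group.IsNilpotent G :=
  Group.nilpotent_of_mulEquiv (MonoidHom.ofInjective hf).symm

theorem isNilpotent_comap_of_injective {K : Subgroup H} [Group.IsNilpotent K] (f : G →* H)
    (hf : Function.Injective f) : Group.IsNilpotent (K.comap f) :=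
  isNilpotent_of_injective (f.subgroupComap K) fun _ _ h =>
    Subtype.ext (hf (congrArg Subtype.val h))

theorem isNilpotent_subgroupOf (K L : Subgroup G) [Group.IsNilpotent K] :
    Group.IsNilpotent (K.subgroupOf L) :=
  isNilpotent_comap_of_injective L.subtype L.subtype_injective

theorem isNilpotent_map_subtype_iff {K : Subgroup G} {L : Subgroup K} :
    Group.IsNilpotent (L.map K.subtype) ↔ Group.IsNilpotent L :=
  (Group.isNilpotent_congr (L.equivMapOfInjective _ K.subtype_injective)).symm

theorem isNilpotent_subgroupOf_iff {K L : Subgroup G} (h : K ≤ L) :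
    Group.IsNilpotent (K.subgroupOf L) ↔ Group.IsNilpotent K :=
  Group.isNilpotent_congr (subgroupOfEquivOfLe h)

theorem isNilpotent_of_isMulCommutative (A : Type*) [Group A] [IsMulCommutative A] :
    Group.IsNilpotent A := by
  rw [Subgroup.nilpotent_iff_lowerCentralSeries]
  exact ⟨1, Subgroup.lowerCentralSeries_one_eq_bot_iff.mpr inferInstance⟩

theorem isSolvable_subgroup_of_le {K L : Subgroup G} (h : K ≤ L) [Group.IsSolvable L] :
    Group.IsSolvable K :=
  Group.isSolvable_of_isSolvable_injective (inclusion_injective h)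

theorem isSolvable_map {K : Subgroup G} [Group.IsSolvable K] (f : G →* H) :
    Group.IsSolvable (K.map f) :=
  Group.isSolvable_of_surjective (f.subgroupMap_surjective K)

/-- In a nilpotent subgroup `L`, a proper subgroup `K < L` is properly contained in its
normaliser in `L`. -/
theorem lt_inf_normalizer_of_isNilpotent {K L : Subgroup G} [Group.IsNilpotent L] (h : K < L) :
    K < L ⊓ normalizer (K : Set G) := by
  have h1 : K.subgroupOf L < ⊤ :=
    lt_top_iff_ne_top.mpr fun h' => h.not_ge (subgroupOf_eq_top.mp h')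
  have h2 := Group.normalizerCondition_of_isNilpotent _ h1
  rw [← subgroupOf_normalizer_eq h.le] at h2
  refine lt_of_le_of_ne (le_inf h.le le_normalizer) fun h' => h2.ne ?_
  rw [← inf_subgroupOf_left (normalizer (K : Set G)), ← h']

/-- Every subgroup of a finite nilpotent group is subnormal. -/
theorem isSubnormal_of_isNilpotent [Finite G] [Group.IsNilpotent G] (K : Subgroup G) :
    K.IsSubnormal := by
  induction K using WellFoundedGT.induction with
  | ind K ih =>
    rcases eq_or_ne K ⊤ with rfl | hK
    · exact IsSubnormal.top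
    · exact IsSubnormal.step K _ le_normalizer
        (ih _ (Group.normalizerCondition_of_isNilpotent K hK.lt_top)) inferInstance

/-- A proper subnormal subgroup is properly contained in its normaliser. -/
theorem lt_normalizer_of_isSubnormal {K : Subgroup G} (hK : K.IsSubnormal) (hne : K ≠ ⊤) :
    K < normalizer (K : Set G) := by
  rcases IsSubnormal.iff_eq_top_or_exists.mp hK with h | ⟨L, hKL, -, hn⟩
  · exact absurd h hne
  · exact hKL.trans_le ((normal_subgroupOf_iff_le_normalizer hKL.le).mp hn)

theorem isNilpotent_iff_forall_isSubnormal [Finite G] :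
    Group.IsNilpotent G ↔ ∀ K : Subgroup G, K.IsSubnormal :=
  ⟨fun _ => isSubnormal_of_isNilpotent, fun h => isNilpotent_iff_normalizerCondition.mpr
    fun K hK => lt_normalizer_of_isSubnormal (h K) hK.ne⟩

theorem le_pCore_of_isNilpotent [Finite G] [Group.IsNilpotent G] {p : ℕ} {K : Subgroup G}
    (h : IsPGroup p K) : K ≤ pCore p G :=
  le_pCore_of_isSubnormal (isSubnormal_of_isNilpotent K) h

theorem le_pPrimeCore_of_isNilpotent [Finite G] [Group.IsNilpotent G] {p : ℕ} {K : Subgroup G}
    (h : (Nat.card K).Coprime p) : K ≤ pPrimeCore p G :=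
  le_pPrimeCore_of_isSubnormal (isSubnormal_of_isNilpotent K) h

theorem le_piCore_of_isNilpotent [Finite G] [Group.IsNilpotent G] {π : Set ℕ} {K : Subgroup G}
    (h : IsPiNumber π (Nat.card K)) : K ≤ piCore π G :=
  le_piCore_of_isSubnormal (isSubnormal_of_isNilpotent K) h

theorem pCore_eq_sylow_of_isNilpotent [Finite G] [Group.IsNilpotent G] {p : ℕ} [Fact p.Prime]
    (P : Sylow p G) : pCore p G = P := pCore_eq_sylow_of_normal P inferInstance

/-- In a finite nilpotent group subgroups of coprime orders centralise each other. -/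
theorem le_centralizer_of_isNilpotent_of_coprime [Finite G] [Group.IsNilpotent G]
    {A B : Subgroup G} (h : (Nat.card A).Coprime (Nat.card B)) :
    A ≤ centralizer (B : Set G) := by
  let π : Set ℕ := {p | p ∣ Nat.card A}
  have hA : A ≤ piCore π G := le_piCore_of_isNilpotent fun _ _ hd => hd
  have hB : B ≤ piCore πᶜ G := le_piCore_of_isNilpotent fun p hp hd hd' =>
    hp.ne_one (Nat.eq_one_of_dvd_coprimes h hd' hd)
  exact hA.trans (piCore_le_centralizer_piCore_compl.trans (centralizer_le hB))

/-- Subgroups of coprime orders inside a finite nilpotent subgroup centralise each other. -/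
theorem le_centralizer_of_le_isNilpotent_of_coprime [Finite G] {A B N : Subgroup G}
    [Group.IsNilpotent N] (hA : A ≤ N) (hB : B ≤ N) (h : (Nat.card A).Coprime (Nat.card B)) :
    A ≤ centralizer (B : Set G) := by
  have h1 : A.subgroupOf N ≤ centralizer (B.subgroupOf N : Set N) :=
    le_centralizer_of_isNilpotent_of_coprime
      (by rwa [card_subgroupOf_eq_of_le hA, card_subgroupOf_eq_of_le hB])
  intro a ha b hb
  exact congrArg Subtype.val (h1 (x := ⟨a, hA ha⟩) ha ⟨b, hB hb⟩ hb)

/-- Elements of coprime orders of a finite nilpotent group commute. -/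
theorem commute_of_isNilpotent_of_coprime [Finite G] [Group.IsNilpotent G] {a b : G}
    (h : (orderOf a).Coprime (orderOf b)) : Commute a b := by
  have := le_centralizer_of_isNilpotent_of_coprime (A := zpowers a) (B := zpowers b)
    (by rwa [Nat.card_zpowers, Nat.card_zpowers])
  exact (this (mem_zpowers a) b (mem_zpowers b)).symm

/-- A subgroup whose index is divisible by no prime is everything. -/
theorem eq_top_of_forall_prime_not_dvd_index {K : Subgroup G}
    (h : ∀ p : ℕ, p.Prime → ¬ p ∣ K.index) : K = ⊤ := by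
  by_contra hne
  obtain ⟨p, hp, hd⟩ := Nat.exists_prime_and_dvd (mt index_eq_one.mp hne)
  exact h p hp hd

/-- A subgroup containing a Sylow `p`-subgroup for every prime `p` is the whole group. -/
theorem eq_top_of_forall_sylow_le [Finite G] {K : Subgroup G}
    (h : ∀ (p : ℕ) (_ : Fact p.Prime), p ∣ Nat.card G → ∃ P : Sylow p G, (P : Subgroup G) ≤ K) :
    K = ⊤ :=
  eq_top_of_forall_prime_not_dvd_index fun p hp hd => by
    have : Fact p.Prime := ⟨hp⟩
    obtain ⟨P, hP⟩ := h p this (hd.trans K.index_dvd_card)
    exact P.not_dvd_index (hd.trans (index_dvd_of_le hP))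

/-- Relative form: `L ≤ K` as soon as `K` contains every `p`-subgroup of `L`, `p` prime. -/
theorem le_of_forall_isPGroup_le [Finite G] {K L : Subgroup G}
    (h : ∀ (p : ℕ) (_ : Fact p.Prime) (P : Subgroup G), IsPGroup p P → P ≤ L → P ≤ K) :
    L ≤ K := by
  rw [← subgroupOf_eq_top]
  refine eq_top_of_forall_sylow_le fun p hp _ => ?_
  obtain ⟨P⟩ : Nonempty (Sylow p L) := inferInstance
  exact ⟨P, map_le_iff_le_comap.mp (h p hp _ (P.isPGroup'.map _) (map_subtype_le _))⟩

theorem iSup_pCore_eq_top [Finite G] [Group.IsNilpotent G] :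
    ⨆ p : Nat.Primes, pCore (p : ℕ) G = ⊤ :=
  eq_top_of_forall_sylow_le fun p hp _ => by
    obtain ⟨P⟩ : Nonempty (Sylow p G) := inferInstance
    exact ⟨P, (pCore_eq_sylow_of_isNilpotent P).ge.trans
      (le_iSup (fun q : Nat.Primes => pCore (q : ℕ) G) ⟨p, hp.out⟩)⟩

theorem iSup_pCore_le_sup [Finite G] (p : ℕ) [Fact p.Prime] :
    ⨆ q : Nat.Primes, pCore (q : ℕ) G ≤ pCore p G ⊔ pPrimeCore p G := by
  refine iSup_le fun q => ?_
  have : Fact (q : ℕ).Prime := ⟨q.2⟩
  rcases eq_or_ne (q : ℕ) p with rfl | h
  · exact le_sup_left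
  · exact (pCore_le_pPrimeCore_of_ne h).trans le_sup_right

/-- A finite nilpotent group is `O_p × O_{p'}`. -/
theorem pCore_sup_pPrimeCore_eq_top [Finite G] [Group.IsNilpotent G] (p : ℕ) [Fact p.Prime] :
    pCore p G ⊔ pPrimeCore p G = ⊤ :=
  top_le_iff.mp (iSup_pCore_eq_top.ge.trans (iSup_pCore_le_sup p))

/-- A finite nilpotent group is `O_π × O_{π'}`. -/
theorem piCore_sup_piCore_compl_eq_top [Finite G] [Group.IsNilpotent G] (π : Set ℕ) :
    piCore π G ⊔ piCore πᶜ G = ⊤ := by
  refine top_le_iff.mp (iSup_pCore_eq_top.ge.trans (iSup_le fun q => ?_))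
  have : Fact (q : ℕ).Prime := ⟨q.2⟩
  by_cases h : (q : ℕ) ∈ π
  · exact (pCore_le_piCore h).trans le_sup_left
  · exact (pCore_le_piCore (π := πᶜ) h).trans le_sup_right

/-- The index of `P` in `P K` is prime to `p` when `|K|` is, for `K` normal. -/
theorem coprime_relIndex_of_le_sup [Finite G] {P K L : Subgroup G} [K.Normal] {n : ℕ}
    (hK : (Nat.card K).Coprime n) (hP : P ≤ L) (hL : L ≤ P ⊔ K) : (P.relIndex L).Coprime n := by
  have h1 : P.relIndex (P ⊔ K) ∣ Nat.card K := by
    have h3 := card_sup_mul_card_inf P K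
    rw [← card_mul_relIndex_of_le (le_sup_left : P ≤ P ⊔ K), mul_assoc] at h3
    exact Dvd.intro _ (Nat.eq_of_mul_eq_mul_left Nat.card_pos h3)
  have h2 : P.relIndex L ∣ P.relIndex (P ⊔ K) := Dvd.intro _ (relIndex_mul_relIndex _ _ _ hP hL)
  exact Nat.Coprime.coprime_dvd_left (h2.trans h1) hK

theorem isNilpotent_iSup_pCore (G : Type*) [Group G] [Finite G] :
    Group.IsNilpotent (⨆ p : Nat.Primes, pCore (p : ℕ) G : Subgroup G) := by
  refine isNilpotent_of_exists_sylow_normal fun p hp _ => ?_
  have hle : pCore p G ≤ ⨆ q : Nat.Primes, pCore (q : ℕ) G :=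
    le_iSup (fun q : Nat.Primes => pCore (q : ℕ) G) ⟨p, hp.out⟩
  have h := coprime_relIndex_of_le_sup (pPrimeCore_coprime p G) hle (iSup_pCore_le_sup p)
  refine ⟨(pCore_isPGroup p G).comap_subtype.toSylow (hp.out.coprime_iff_not_dvd.mp h.symm), ?_⟩
  exact normal_subgroupOf

/-! ### The Fitting subgroup -/

theorem le_fitting {N : Subgroup G} [hN : N.Normal] (h : Group.IsNilpotent N) :
    N ≤ fittingSubgroup G := le_sSup ⟨hN, h⟩

theorem fitting_characteristic (G : Type*) [Group G] : (fittingSubgroup G).Characteristic := by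
  rw [characteristic_iff_map_le]
  intro e
  rw [map_le_iff_le_comap]
  refine sSup_le fun N hN => map_le_iff_le_comap.mp ?_
  have : (N.map e.toMonoidHom).Normal := hN.1.map _ e.surjective
  have := hN.2
  exact le_fitting (isNilpotent_map _)

scoped instance instCharacteristicFitting (G : Type*) [Group G] :
    (fittingSubgroup G).Characteristic := fitting_characteristic G

theorem fitting_normal (G : Type*) [Group G] : (fittingSubgroup G).Normal := inferInstance

theorem pCore_le_fitting [Finite G] (p : ℕ) [Fact p.Prime] : pCore p G ≤ fittingSubgroup G :=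
  le_fitting (pCore_isNilpotent p)

/-- A nilpotent subgroup is generated by its `p`-cores. -/
theorem iSup_map_subtype_pCore [Finite G] (N : Subgroup G) [Group.IsNilpotent N] :
    ⨆ p : Nat.Primes, (pCore (p : ℕ) N).map N.subtype = N := by
  rw [← Subgroup.map_iSup, iSup_pCore_eq_top, ← MonoidHom.range_eq_map, range_subtype]

theorem fitting_eq_iSup_pCore (G : Type*) [Group G] [Finite G] :
    fittingSubgroup G = ⨆ p : Nat.Primes, pCore (p : ℕ) G := by
  refine le_antisymm (sSup_le fun N hN => ?_) (iSup_le fun p => ?_)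
  · have := hN.1
    have := hN.2
    rw [← iSup_map_subtype_pCore N]
    exact iSup_mono fun p => map_subtype_pCore_le N
  · have : Fact (p : ℕ).Prime := ⟨p.2⟩
    exact pCore_le_fitting p

/-- Fitting's theorem. -/
theorem fitting_isNilpotent (G : Type*) [Group G] [Finite G] :
    Group.IsNilpotent (fittingSubgroup G) := by
  rw [fitting_eq_iSup_pCore]
  exact isNilpotent_iSup_pCore G

scoped instance instIsNilpotentFitting (G : Type*) [Group G] [Finite G] :
    Group.IsNilpotent (fittingSubgroup G) := fitting_isNilpotent G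

theorem isNilpotent_of_le_fitting [Finite G] {K : Subgroup G} (h : K ≤ fittingSubgroup G) :
    Group.IsNilpotent K := isNilpotent_of_le h

theorem le_fitting_iff [Finite G] {N : Subgroup G} [N.Normal] :
    N ≤ fittingSubgroup G ↔ Group.IsNilpotent N := ⟨isNilpotent_of_le_fitting, le_fitting⟩

/-- The product of two nilpotent normal subgroups of a finite group is nilpotent. -/
theorem isNilpotent_sup_of_normal [Finite G] (A B : Subgroup G) [A.Normal] [B.Normal]
    [hA : Group.IsNilpotent A] [hB : Group.IsNilpotent B] :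
    Group.IsNilpotent (A ⊔ B : Subgroup G) :=
  isNilpotent_of_le_fitting (sup_le (le_fitting hA) (le_fitting hB))

theorem fitting_eq_top_iff [Finite G] : fittingSubgroup G = ⊤ ↔ Group.IsNilpotent G := by
  rw [eq_top_iff, le_fitting_iff, Group.isNilpotent_top]

theorem fitting_eq_bot_iff [Finite G] :
    fittingSubgroup G = ⊥ ↔ ∀ (p : ℕ), p.Prime → pCore p G = ⊥ := by
  rw [fitting_eq_iSup_pCore, iSup_eq_bot]
  exact ⟨fun h p hp => h ⟨p, hp⟩, fun h p => h p p.2⟩

theorem fitting_le_pCore_sup_pPrimeCore [Finite G] (p : ℕ) [Fact p.Prime] :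
    fittingSubgroup G ≤ pCore p G ⊔ pPrimeCore p G := by
  rw [fitting_eq_iSup_pCore]
  exact iSup_pCore_le_sup p

theorem fitting_eq_pCore [Finite G] {p : ℕ} [Fact p.Prime] (h : pPrimeCore p G = ⊥) :
    fittingSubgroup G = pCore p G :=
  le_antisymm (by simpa [h] using fitting_le_pCore_sup_pPrimeCore (G := G) p) (pCore_le_fitting p)

theorem fitting_le_pPrimeCore [Finite G] {p : ℕ} [Fact p.Prime] (h : pCore p G = ⊥) :
    fittingSubgroup G ≤ pPrimeCore p G := by
  simpa [h] using fitting_le_pCore_sup_pPrimeCore (G := G) p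

/-- A `p`-subgroup of `F(G)` lies in `O_p(G)`. -/
theorem le_pCore_of_le_fitting [Finite G] {p : ℕ} {P : Subgroup G} (hP : IsPGroup p P)
    (h : P ≤ fittingSubgroup G) : P ≤ pCore p G :=
  le_pCore_of_isSubnormal
    (IsSubnormal.trans h (isSubnormal_of_isNilpotent _) (fitting_normal G).isSubnormal) hP

/-- A subgroup of `F(G)` is subnormal in `G`. -/
theorem isSubnormal_of_le_fitting [Finite G] {K : Subgroup G} (h : K ≤ fittingSubgroup G) :
    K.IsSubnormal :=
  IsSubnormal.trans h (isSubnormal_of_isNilpotent _) (fitting_normal G).isSubnormal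

theorem map_subtype_pCore_fitting [Finite G] (p : ℕ) [Fact p.Prime] :
    (pCore p (fittingSubgroup G)).map (fittingSubgroup G).subtype = pCore p G := by
  rw [map_subtype_pCore_eq, inf_eq_left.mpr (pCore_le_fitting p)]

theorem center_le_fitting : center G ≤ fittingSubgroup G :=
  le_fitting (isNilpotent_of_isMulCommutative _)

theorem le_fitting_of_isMulCommutative (A : Subgroup G) [A.Normal] [IsMulCommutative A] :
    A ≤ fittingSubgroup G := le_fitting (isNilpotent_of_isMulCommutative _)

theorem frattini_le_fitting [Finite G] : frattini G ≤ fittingSubgroup G :=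
  le_fitting frattini_nilpotent

theorem map_fitting_le [Finite G] {f : G →* H} (hf : Function.Surjective f) :
    (fittingSubgroup G).map f ≤ fittingSubgroup H :=
  haveI : ((fittingSubgroup G).map f).Normal := Normal.map inferInstance f hf
  le_fitting (isNilpotent_map f)

theorem fitting_le_comap [Finite G] {f : G →* H} (hf : Function.Surjective f) :
    fittingSubgroup G ≤ (fittingSubgroup H).comap f := map_le_iff_le_comap.mp (map_fitting_le hf)

theorem comap_fitting_le_of_injective [Finite H] (f : G →* H) (hf : Function.Injective f) :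
    (fittingSubgroup H).comap f ≤ fittingSubgroup G :=
  le_fitting (isNilpotent_comap_of_injective f hf)

theorem comap_equiv_fitting [Finite G] (e : G ≃* H) :
    (fittingSubgroup H).comap (e : G →* H) = fittingSubgroup G :=
  haveI : Finite H := Finite.of_equiv G e.toEquiv
  le_antisymm (comap_fitting_le_of_injective _ e.injective) (fitting_le_comap e.surjective)

theorem map_equiv_fitting [Finite G] (e : G ≃* H) :
    (fittingSubgroup G).map (e : G →* H) = fittingSubgroup H := by
  rw [← comap_equiv_fitting e, map_comap_eq_self_of_surjective e.surjective]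

theorem fitting_subgroupOf_le [Finite G] (K : Subgroup G) :
    (fittingSubgroup G).subgroupOf K ≤ fittingSubgroup K :=
  comap_fitting_le_of_injective K.subtype K.subtype_injective

/-! ### The Fitting subgroup of a subgroup -/

theorem fittingOf_le (K : Subgroup G) : fittingOf K ≤ K := map_subtype_le _

theorem fittingOf_isNilpotent [Finite G] (K : Subgroup G) : Group.IsNilpotent (fittingOf K) :=
  isNilpotent_map _

scoped instance instIsNilpotentFittingOf [Finite G] (K : Subgroup G) :
    Group.IsNilpotent (fittingOf K) := fittingOf_isNilpotent K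

theorem normalizer_le_normalizer_fittingOf (K : Subgroup G) :
    normalizer (K : Set G) ≤ normalizer (fittingOf K : Set G) :=
  normalizer_le_normalizer_map_subtype K _

theorem le_normalizer_fittingOf (K : Subgroup G) : K ≤ normalizer (fittingOf K : Set G) :=
  le_normalizer.trans (normalizer_le_normalizer_fittingOf K)

theorem fittingOf_normal (N : Subgroup G) [N.Normal] : (fittingOf N).Normal :=
  inferInstanceAs ((fittingSubgroup N).map N.subtype).Normal

theorem fittingOf_subgroupOf (K : Subgroup G) :
    (fittingOf K).subgroupOf K = fittingSubgroup K :=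
  comap_map_eq_self_of_injective K.subtype_injective _

/-- A nilpotent subgroup of `K` normalised by `K` lies in `F(K)`. -/
theorem le_fittingOf {K N : Subgroup G} (hNK : N ≤ K) (hK : K ≤ normalizer (N : Set G))
    (hN : Group.IsNilpotent N) : N ≤ fittingOf K := by
  have := normal_subgroupOf_of_le_normalizer hK
  calc N = (N.subgroupOf K).map K.subtype := (map_subgroupOf_eq_of_le hNK).symm
    _ ≤ _ := map_mono (le_fitting (isNilpotent_subgroupOf N K))

theorem fitting_inf_le_fittingOf [Finite G] (K : Subgroup G) :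
    fittingSubgroup G ⊓ K ≤ fittingOf K := by
  rw [← subgroupOf_map_subtype]
  exact map_mono (fitting_subgroupOf_le K)

theorem fittingOf_inf_le_fittingOf [Finite G] {K L : Subgroup G} (h : K ≤ L) :
    fittingOf L ⊓ K ≤ fittingOf K := by
  refine le_fittingOf inf_le_right ?_ (isNilpotent_of_le inf_le_left)
  exact (le_inf (h.trans (le_normalizer_fittingOf L)) le_normalizer).trans
    inf_normalizer_le_normalizer_inf

theorem fittingOf_top : fittingOf (⊤ : Subgroup G) = fittingSubgroup G := by
  refine le_antisymm ?_ (sSup_le fun N hN => ?_)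
  · rw [fittingOf, map_le_iff_le_comap]
    refine sSup_le fun N hN => map_le_iff_le_comap.mp ?_
    have := hN.2
    have : (N.map (⊤ : Subgroup G).subtype).Normal := hN.1.map _ topEquiv.surjective
    exact le_fitting (isNilpotent_map _)
  · have := hN.1
    exact le_fittingOf le_top le_normalizer_of_normal hN.2

theorem fittingOf_eq_self_iff [Finite G] {K : Subgroup G} :
    fittingOf K = K ↔ Group.IsNilpotent K :=
  ⟨fun h => h ▸ fittingOf_isNilpotent K,
    fun h => le_antisymm (fittingOf_le K) (le_fittingOf le_rfl le_normalizer h)⟩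

theorem map_subtype_pCore_le_fittingOf [Finite G] (p : ℕ) [Fact p.Prime] (K : Subgroup G) :
    (pCore p K).map K.subtype ≤ fittingOf K := map_mono (pCore_le_fitting p)

theorem fittingOf_eq_iSup [Finite G] (K : Subgroup G) :
    fittingOf K = ⨆ p : Nat.Primes, (pCore (p : ℕ) K).map K.subtype := by
  rw [fittingOf, fitting_eq_iSup_pCore, Subgroup.map_iSup]

theorem fittingOf_le_fitting_of_isSubnormal [Finite G] {K : Subgroup G} (hK : K.IsSubnormal) :
    fittingOf K ≤ fittingSubgroup G := by
  rw [fittingOf_eq_iSup, fitting_eq_iSup_pCore]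
  exact iSup_mono fun p => map_subtype_pCore_le_of_isSubnormal hK

theorem fittingOf_eq_of_isSubnormal [Finite G] {K : Subgroup G} (hK : K.IsSubnormal) :
    fittingOf K = fittingSubgroup G ⊓ K :=
  le_antisymm (le_inf (fittingOf_le_fitting_of_isSubnormal hK) (fittingOf_le K))
    (fitting_inf_le_fittingOf K)

theorem fittingOf_le_fitting [Finite G] (N : Subgroup G) [hN : N.Normal] :
    fittingOf N ≤ fittingSubgroup G := fittingOf_le_fitting_of_isSubnormal hN.isSubnormal

theorem fittingOf_eq_of_normal [Finite G] (N : Subgroup G) [hN : N.Normal] :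
    fittingOf N = fittingSubgroup G ⊓ N := fittingOf_eq_of_isSubnormal hN.isSubnormal

/-- A subnormal nilpotent subgroup lies in the Fitting subgroup. -/
theorem le_fitting_of_isSubnormal [Finite G] {K : Subgroup G} (hK : K.IsSubnormal)
    (h : Group.IsNilpotent K) : K ≤ fittingSubgroup G :=
  (fittingOf_eq_self_iff.mpr h).ge.trans (fittingOf_le_fitting_of_isSubnormal hK)

/-! ### Centralisers -/

/-- A solvable normal subgroup centralising `F(G)` lies in `F(G)`. -/
theorem le_fitting_of_isSolvable_of_le_centralizer [Finite G] (N : Subgroup G) [hN : N.Normal]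
    [hs : Group.IsSolvable N] (h : N ≤ centralizer (fittingSubgroup G : Set G)) :
    N ≤ fittingSubgroup G := by
  revert hN hs h
  induction N using WellFoundedLT.induction with
  | ind N ih =>
    intro hN hs h
    rcases eq_or_ne N ⊥ with rfl | hne
    · exact bot_le
    have hle : ⁅N, N⁆ ≤ N := commutator_le_left N N
    have hlt : ⁅N, N⁆ < N := by
      refine lt_of_le_of_ne hle fun h' => ?_
      have : Nontrivial N := (nontrivial_iff_ne_bot N).mpr hne
      have : Group.IsPerfect N := isPerfect_iff.mpr h'
      exact Group.IsPerfect.not_isSolvable N hs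
    have h1 := @ih _ hlt inferInstance (isSolvable_subgroup_of_le hle) (hle.trans h)
    refine le_fitting (isNilpotent_of_lowerCentralSeries_eq_bot (n := 2) ?_)
    change ⁅⁅N, N⁆, N⁆ = ⊥
    rw [commutator_comm, commutator_eq_bot_iff_le_centralizer]
    exact h.trans (centralizer_le h1)

/-- In a finite solvable group `C_G(F(G)) ≤ F(G)`. -/
theorem centralizer_fitting_le (G : Type*) [Group G] [Finite G] [Group.IsSolvable G] :
    centralizer (fittingSubgroup G : Set G) ≤ fittingSubgroup G :=
  le_fitting_of_isSolvable_of_le_centralizer _ le_rfl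

/-- For a solvable subgroup `K` of a finite group, `C_K(F(K)) ≤ F(K)`. -/
theorem inf_centralizer_fittingOf_le [Finite G] (K : Subgroup G) [Group.IsSolvable K] :
    K ⊓ centralizer (fittingOf K : Set G) ≤ fittingOf K := by
  rintro x ⟨hxK, hx⟩
  refine ⟨⟨x, hxK⟩, centralizer_fitting_le K fun y hy => Subtype.ext ?_, rfl⟩
  exact hx y ⟨y, hy, rfl⟩

theorem fitting_ne_bot (G : Type*) [Group G] [Finite G] [Group.IsSolvable G] [Nontrivial G] :
    fittingSubgroup G ≠ ⊥ := by
  obtain ⟨p, N, -, hN, h⟩ := exists_normal_elementary G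
  have := hN.normal
  have := h.1
  exact fun h' => hN.ne_bot (le_bot_iff.mp (h' ▸ le_fitting_of_isMulCommutative N))

theorem fittingOf_ne_bot [Finite G] {K : Subgroup G} [Group.IsSolvable K] (hK : K ≠ ⊥) :
    fittingOf K ≠ ⊥ := by
  have : Nontrivial K := (nontrivial_iff_ne_bot K).mpr hK
  rw [fittingOf, Ne, map_eq_bot_iff_of_injective _ K.subtype_injective]
  exact fitting_ne_bot K

/-- A nontrivial solvable normal subgroup meets the Fitting subgroup nontrivially. -/
theorem fitting_inf_ne_bot [Finite G] (N : Subgroup G) [N.Normal] [Group.IsSolvable N]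
    (hN : N ≠ ⊥) : fittingSubgroup G ⊓ N ≠ ⊥ := by
  rw [← fittingOf_eq_of_normal]
  exact fittingOf_ne_bot hN

/-- A nontrivial finite solvable group has `O_p(G) ≠ 1` for some prime `p`. -/
theorem exists_pCore_ne_bot (G : Type*) [Group G] [Finite G] [Group.IsSolvable G] [Nontrivial G] :
    ∃ p : ℕ, p.Prime ∧ pCore p G ≠ ⊥ := by
  by_contra! h
  exact fitting_ne_bot G (fitting_eq_bot_iff.mpr h)

theorem pCore_ne_bot_of_pPrimeCore_eq_bot [Finite G] [Group.IsSolvable G] [Nontrivial G] {p : ℕ}
    [Fact p.Prime] (h : pPrimeCore p G = ⊥) : pCore p G ≠ ⊥ :=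
  fitting_eq_pCore h ▸ fitting_ne_bot G

/-- In a finite solvable group with `O_{p'}(G) = 1`, `C_G(O_p(G)) ≤ O_p(G)`. -/
theorem centralizer_pCore_le [Finite G] [Group.IsSolvable G] {p : ℕ} [Fact p.Prime]
    (h : pPrimeCore p G = ⊥) : centralizer (pCore p G : Set G) ≤ pCore p G := by
  rw [← fitting_eq_pCore h]
  exact centralizer_fitting_le G

/-- In a finite solvable group with `O_p(G) = 1`, `C_G(O_{p'}(G)) ≤ O_{p'}(G)`. -/
theorem centralizer_pPrimeCore_le [Finite G] [Group.IsSolvable G] {p : ℕ} [Fact p.Prime]
    (h : pCore p G = ⊥) : centralizer (pPrimeCore p G : Set G) ≤ pPrimeCore p G :=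
  ((centralizer_le (fitting_le_pPrimeCore h)).trans (centralizer_fitting_le G)).trans
    (fitting_le_pPrimeCore h)

/-- If `C_G(O_p(G)) ≤ O_p(G)` then `O_{p'}(G) = 1`. -/
theorem pPrimeCore_eq_bot_of_centralizer_pCore_le [Finite G] {p : ℕ}
    (h : centralizer (pCore p G : Set G) ≤ pCore p G) : pPrimeCore p G = ⊥ := by
  rw [eq_bot_iff, ← pCore_inf_pPrimeCore (p := p)]
  exact le_inf (pPrimeCore_le_centralizer_pCore.trans h) le_rfl

/-- A nilpotent normal subgroup centralises every minimal normal subgroup. -/
theorem IsMinNormal.le_centralizer_of_isNilpotent {N K : Subgroup G} (hN : IsMinNormal N)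
    [K.Normal] [Group.IsNilpotent K] : K ≤ centralizer (N : Set G) := by
  have := hN.normal
  rcases hN.le_or_inf_eq_bot K with h | h
  · rw [← le_centralizer_iff, ← commutator_eq_bot_iff_le_centralizer]
    refine (hN.eq_bot_or_eq ⁅N, K⁆ inferInstance (commutator_le_left N K)).resolve_right ?_
    intro h'
    obtain ⟨n, hn⟩ := (Subgroup.isNilpotent_iff_lowerCentralSeries K).mp ‹_›
    have : ∀ k, N ≤ K.lowerCentralSeries k := by
      intro k
      induction k with
      | zero => exact h
      | succ k ih =>
        rw [Subgroup.lowerCentralSeries_succ, ← h']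
        exact commutator_mono ih le_rfl
    exact hN.ne_bot (le_bot_iff.mp (hn ▸ this n))
  · exact le_centralizer_iff.mp (le_centralizer_of_normal_of_inf_eq_bot h)

/-- The Fitting subgroup centralises every minimal normal subgroup. -/
theorem IsMinNormal.fitting_le_centralizer [Finite G] {N : Subgroup G} (hN : IsMinNormal N) :
    fittingSubgroup G ≤ centralizer (N : Set G) := hN.le_centralizer_of_isNilpotent

end CL
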