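import Cfsg.Agent.Solv.Glauberman

/-!
# Schur–Zassenhaus: conjugacy of complements
-/

set_option autoImplicit false

namespace CL

open Subgroup MulAction
open scoped Pointwise

variable {G : Type*} [Group G]

theorem mem_conj_smul_iff {H : Subgroup G} {g x : G} :
    x ∈ MulAut.conj g • H ↔ g⁻¹ * x * g ∈ H := by
  rw [Subgroup.mem_pointwise_smul_iff_inv_smul_mem]
  simp [MulAut.smul_def]

theorem conj_smul_eq_map (H : Subgroup G) (g : G) :
    MulAut.conj g • H = H.map (MulAut.conj g).toMonoidHom := rfl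

theorem card_conj_smul (H : Subgroup G) (g : G) : Nat.card ↥(MulAut.conj g • H) = Nat.card H :=
  (Nat.card_congr (H.equivMapOfInjective (MulAut.conj g).toMonoidHom
    (MulAut.conj g).injective).toEquiv).symm

/-- Ambient form: if `A` normalises `L`, the orders are coprime, `A` or `L` is solvable and
`A ⊆ L S`, then `A` is conjugate into `S` by an element of `L`. -/
theorem exists_conj_le_of_le_mul [Finite G] {A L S : Subgroup G}
    (hAL : A ≤ normalizer (L : Set G)) (hcop : (Nat.card A).Coprime (Nat.card L))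
    (hsolv : Group.IsSolvable A ∨ Group.IsSolvable L)
    (h : ∀ a ∈ A, ∃ l ∈ L, ∃ s ∈ S, a = l * s) :
    ∃ l ∈ L, MulAut.conj l • A ≤ S := by
  obtain ⟨l, hl, h1⟩ := glauberman_fixed hAL hcop hsolv ((1 : G) : G ⧸ S) (fun a ha => by
    obtain ⟨l, hl, s, hs, rfl⟩ := h a ha
    refine ⟨l, hl, ?_⟩
    simp only [MulAction.Quotient.smul_mk, smul_eq_mul, mul_one]
    rw [QuotientGroup.eq]
    simpa using hs)
  refine ⟨l⁻¹, L.inv_mem hl, fun x hx => ?_⟩
  rw [mem_conj_smul_iff] at hx
  have h2 := h1 _ hx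
  simp only [MulAction.Quotient.smul_mk, smul_eq_mul, mul_one] at h2
  rw [QuotientGroup.eq] at h2
  simpa [mul_assoc] using S.inv_mem h2

/-- Ambient form with `A ≤ L ⊔ S` where `S` also normalises `L`. -/
theorem exists_conj_le_of_le_sup [Finite G] {A L S : Subgroup G}
    (hAL : A ≤ normalizer (L : Set G)) (hSL : S ≤ normalizer (L : Set G))
    (hcop : (Nat.card A).Coprime (Nat.card L))
    (hsolv : Group.IsSolvable A ∨ Group.IsSolvable L) (h : A ≤ L ⊔ S) :
    ∃ l ∈ L, MulAut.conj l • A ≤ S :=
  exists_conj_le_of_le_mul hAL hcop hsolv (fun a ha => by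
    have h1 : a ∈ ((L ⊔ S : Subgroup G) : Set G) := h ha
    rw [coe_mul_of_right_le_normalizer_left L S hSL] at h1
    obtain ⟨l, hl, s, hs, rfl⟩ := h1
    exact ⟨l, hl, s, hs, rfl⟩)

/-- Ambient Schur–Zassenhaus conjugacy: two subgroups `A, S` of the same order normalising `L`, with
`A ≤ L ⊔ S` and `|A|`, `|L|` coprime, `A` or `L` solvable, are conjugate by an element of `L`. -/
theorem exists_conj_eq_of_le_sup [Finite G] {A L S : Subgroup G}
    (hAL : A ≤ normalizer (L : Set G)) (hSL : S ≤ normalizer (L : Set G))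
    (hcop : (Nat.card A).Coprime (Nat.card L))
    (hsolv : Group.IsSolvable A ∨ Group.IsSolvable L) (h : A ≤ L ⊔ S)
    (hcard : Nat.card S ≤ Nat.card A) :
    ∃ l ∈ L, MulAut.conj l • A = S := by
  obtain ⟨l, hl, h1⟩ := exists_conj_le_of_le_sup hAL hSL hcop hsolv h
  exact ⟨l, hl, Subgroup.eq_of_le_of_card_ge h1 (by rw [card_conj_smul]; exact hcard)⟩

/-- A subgroup of order coprime to the normal subgroup `N` is conjugate (by `N`) into any supplement
of `N`. -/
theorem exists_conj_le_of_sup_eq_top [Finite G] {N H K : Subgroup G} [N.Normal]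
    (hcop : (Nat.card H).Coprime (Nat.card N))
    (hsolv : Group.IsSolvable H ∨ Group.IsSolvable N) (hK : N ⊔ K = ⊤) :
    ∃ n ∈ N, MulAut.conj n • H ≤ K :=
  exists_conj_le_of_le_sup le_normalizer_of_normal le_normalizer_of_normal hcop hsolv
    (hK ▸ le_top)

theorem isSolvable_of_isComplement' {N H : Subgroup G} [N.Normal] (hH : IsComplement' N H)
    (h : Group.IsSolvable (G ⧸ N)) : Group.IsSolvable H :=
  Group.isSolvable_of_isSolvable_injective (f := (QuotientGroup.mk' N).comp H.subtype) (by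
    rw [← MonoidHom.ker_eq_bot_iff, eq_bot_iff]
    intro x hx
    have h1 : (x : G) ∈ N := (QuotientGroup.eq_one_iff _).1 hx
    have : (x : G) ∈ N ⊓ H := ⟨h1, x.2⟩
    rw [hH.disjoint.eq_bot, mem_bot] at this
    exact Subtype.ext this)

/-- **Schur–Zassenhaus**, conjugacy: two complements of a normal Hall subgroup `N` are conjugate by an
element of `N`, provided `N` or `G ⧸ N` is solvable. -/
theorem schurZassenhaus_conj [Finite G] (N : Subgroup G) [N.Normal]
    (hN : (Nat.card N).Coprime N.index) (hsolv : Group.IsSolvable N ∨ Group.IsSolvable (G ⧸ N))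
    {H K : Subgroup G} (hH : IsComplement' N H) (hK : IsComplement' N K) :
    ∃ n ∈ N, MulAut.conj n • H = K :=
  exists_conj_eq_of_le_sup le_normalizer_of_normal le_normalizer_of_normal
    (by rw [← hH.symm.index_eq_card]; exact hN.symm)
    (hsolv.symm.imp_left (isSolvable_of_isComplement' hH)) (hK.sup_eq_top ▸ le_top)
    (by rw [← hH.symm.index_eq_card, ← hK.symm.index_eq_card])

end CL
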