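import Cfsg.Agent.Solv.PiHall
import Cfsg.Agent.S0001

/-!
# Hall's theorems (existence, conjugacy, dominance)

For finite solvable groups and, more generally, for groups all of whose nontrivial images have a
nontrivial normal `π`-subgroup or a nontrivial solvable normal `π'`-subgroup (`CL.Hall.SepHyp`).
-/

open Cfsg
open scoped Pointwise

namespace CL

namespace Hall

universe u

theorem card_lt_of_ne_top {G : Type*} [Group G] [Finite G] {H : Subgroup G} (h : H ≠ ⊤) :
    Nat.card H < Nat.card G := by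
  rw [← H.card_mul_index]
  exact lt_mul_of_one_lt_right Nat.card_pos (Subgroup.one_lt_index_of_ne_top h)

theorem card_quotient_lt {G : Type*} [Group G] [Finite G] {N : Subgroup G} (h : N ≠ ⊥) :
    Nat.card (G ⧸ N) < Nat.card G := by
  rw [← Subgroup.index_eq_card, ← N.index_mul_card]
  exact lt_mul_of_one_lt_right (Nat.pos_of_ne_zero Subgroup.index_ne_zero_of_finite)
    ((Subgroup.one_lt_card_iff_ne_bot N).mpr h)

/-- A nontrivial finite solvable group has a nontrivial abelian characteristic `p`-subgroup. -/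
theorem exists_char_abelian_pgroup (G : Type*) [Group G] [Finite G] [Group.IsSolvable G]
    [Nontrivial G] : ∃ (p : ℕ) (N : Subgroup G), p.Prime ∧ N.Characteristic ∧ N ≠ ⊥ ∧
      IsPGroup p N ∧ IsMulCommutative N := by
  classical
  have hex : ∃ n, derivedSeries G n = ⊥ := Group.IsSolvable.solvable
  have h0 : Nat.find hex ≠ 0 := by
    intro h
    have := Nat.find_spec hex
    rw [h, derivedSeries_zero] at this
    exact top_ne_bot this
  obtain ⟨k, hk⟩ := Nat.exists_eq_succ_of_ne_zero h0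
  have hA : derivedSeries G k ≠ ⊥ := Nat.find_min hex (by omega)
  have hA' : ⁅derivedSeries G k, derivedSeries G k⁆ = ⊥ := by
    have := Nat.find_spec hex
    rwa [hk, derivedSeries_succ] at this
  set A := derivedSeries G k with hAdef
  have hcomm : IsMulCommutative A :=
    Subgroup.le_centralizer_iff_isMulCommutative.mp
      (Subgroup.commutator_eq_bot_iff_le_centralizer.mp hA')
  have hcard : Nat.card A ≠ 1 := fun h => hA (Subgroup.card_eq_one.mp h)
  obtain ⟨p, hp, hpd⟩ := Nat.exists_prime_and_dvd hcard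
  have := Fact.mk hp
  obtain ⟨P⟩ : Nonempty (Sylow p A) := inferInstance
  have hPn : (P : Subgroup A).Normal := Subgroup.normal_of_isMulCommutative _
  have hPc : (P : Subgroup A).Characteristic := P.characteristic_of_normal hPn
  refine ⟨p, (P : Subgroup A).map A.subtype, hp, inferInstance, ?_, P.isPGroup'.map _, ?_⟩
  · rw [Ne, Subgroup.map_eq_bot_iff_of_injective _ A.subtype_injective]
    exact P.ne_bot_of_dvd_card hpd
  · infer_instance

/-- A nontrivial solvable normal subgroup `L` of a finite group `G` contains a nontrivial abelian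
`p`-subgroup that is normal in `G`. -/
theorem exists_normal_abelian_pgroup_le {G : Type*} [Group G] [Finite G] (L : Subgroup G)
    [L.Normal] [Group.IsSolvable L] (hL : L ≠ ⊥) : ∃ (p : ℕ) (N : Subgroup G), p.Prime ∧
      N.Normal ∧ N ≤ L ∧ N ≠ ⊥ ∧ IsPGroup p N ∧ IsMulCommutative N := by
  have := (Subgroup.nontrivial_iff_ne_bot L).mpr hL
  obtain ⟨p, N, hp, hc, hN, hpN, hcomm⟩ := exists_char_abelian_pgroup L
  refine ⟨p, N.map L.subtype, hp, inferInstance, Subgroup.map_subtype_le _, ?_, hpN.map _,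
    inferInstance⟩
  rwa [Ne, Subgroup.map_eq_bot_iff_of_injective _ L.subtype_injective]

/-- Schur–Zassenhaus, containment form: if `K ≤ N H` with `H`, `K` normalising `N`, `N ∩ H = 1`,
`(|N|, |K|) = 1` and `N` or `K` solvable, then a conjugate of `K` by an element of `N` lies
in `H`. -/
theorem exists_conj_le_of_le_sup {G : Type*} [Group G] [Finite G] {N H K : Subgroup G}
    (hH : H ≤ Subgroup.normalizer (N : Set G)) (hsolv : Group.IsSolvable N ∨ Group.IsSolvable K)
    (hcop : (Nat.card N).Coprime (Nat.card K)) (hd : Disjoint N H) (hK : K ≤ N ⊔ H) :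
    ∃ g ∈ N, MulAut.conj g • K ≤ H := by
  have hKN : K ≤ Subgroup.normalizer (N : Set G) := hK.trans (sup_le Subgroup.le_normalizer hH)
  set L := N ⊔ K with hL
  have hn : (N.subgroupOf L).Normal :=
    Pi.normal_subgroupOf_of_le_normalizer (sup_le Subgroup.le_normalizer hKN)
  have hdec : ∀ {B : Subgroup G}, B ≤ Subgroup.normalizer (N : Set G) → ∀ x ∈ N ⊔ B,
      ∃ a ∈ N, ∃ b ∈ B, x = a * b := by
    intro B hB x hx
    have : x ∈ (N : Set G) * (B : Set G) := by
      rw [← Subgroup.coe_mul_of_right_le_normalizer_left N B hB]; exact hx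
    obtain ⟨a, ha, b, hb, rfl⟩ := this
    exact ⟨a, ha, b, hb, rfl⟩
  have c1 : (N.subgroupOf L).IsComplement' (K.subgroupOf L) :=
    Pi.isComplement'_subgroupOf le_sup_left (Subgroup.disjoint_of_coprime_natCard hcop) (hdec hKN)
  have c2 : (N.subgroupOf L).IsComplement' (H.subgroupOf L) :=
    Pi.isComplement'_subgroupOf le_sup_left hd
      (fun x hx => hdec hH x (sup_le le_sup_left hK hx))
  have hcop' : (Nat.card (N.subgroupOf L)).Coprime (N.subgroupOf L).index := by
    rwa [c1.symm.index_eq_card, Pi.card_subgroupOf_of_le le_sup_left,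
      Pi.card_subgroupOf_of_le le_sup_right]
  have hs : Group.IsSolvable (N.subgroupOf L) ∨ Group.IsSolvable (L ⧸ N.subgroupOf L) := by
    rcases hsolv with h | h
    · exact Or.inl (Group.isSolvable_of_isSolvable_injective
        (f := (Subgroup.subgroupOfEquivOfLe (le_sup_left : N ≤ L)).toMonoidHom)
        (Subgroup.subgroupOfEquivOfLe _).injective)
    · refine Or.inr (Group.isSolvable_of_surjective
        (f := (QuotientGroup.mk' (N.subgroupOf L)).comp (Subgroup.inclusion (le_sup_right : K ≤ L)))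
        fun q => ?_)
      obtain ⟨x, rfl⟩ := QuotientGroup.mk_surjective q
      obtain ⟨a, ha, b, hb, hx⟩ := hdec hKN x x.2
      refine ⟨⟨b, hb⟩, ?_⟩
      rw [eq_comm]
      refine QuotientGroup.eq.mpr ?_
      change (x : G)⁻¹ * b ∈ N
      rw [hx]
      have : (a * b)⁻¹ * b = b⁻¹ * a⁻¹ * b⁻¹⁻¹ := by group
      rw [this]
      exact (Subgroup.mem_normalizer_iff.mp (hKN (K.inv_mem hb)) _).mp (N.inv_mem ha)
  obtain ⟨g, hg⟩ := Cfsg.Agent.S0001.result (N.subgroupOf L) hcop' hs _ _ c1 c2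
  obtain ⟨a, ha, b, hb, hx⟩ := hdec hKN g g.2
  refine ⟨a, ha, fun x hx' => ?_⟩
  have hxg : x ∈ MulAut.conj (g : G) • K := by
    rwa [hx, map_mul, mul_smul, Subgroup.conj_smul_eq_self_of_mem hb]
  have hxL : x ∈ L := Subgroup.conj_smul_le_of_le (le_sup_right : K ≤ L) g hxg
  have : (⟨x, hxL⟩ : L) ∈ (MulAut.conj (g : G) • K).subgroupOf L := hxg
  rw [Pi.subgroupOf_conj_smul, hg] at this
  exact this

/-- The separation hypothesis under which Hall's theorems for `π` are proved: every nontrivial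
image of `G` has a nontrivial normal subgroup that is a `π`-group or a solvable `π'`-group. -/
def SepHyp (π : Set ℕ) (G : Type u) [Group G] : Prop :=
  ∀ (Q : Type u) [Group Q] (f : G →* Q), Function.Surjective f → Nontrivial Q →
    ∃ N : Subgroup Q, N.Normal ∧ N ≠ ⊥ ∧
      (IsPiNum π (Nat.card N) ∨ (IsPiNum πᶜ (Nat.card N) ∧ Group.IsSolvable N))

theorem SepHyp.of_surjective {π : Set ℕ} {G G' : Type u} [Group G] [Group G'] (h : SepHyp π G)
    {f : G →* G'} (hf : Function.Surjective f) : SepHyp π G' :=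
  fun Q _ g hg hQ => h Q (g.comp f) (hg.comp hf) hQ

theorem sepHyp_of_solvable (π : Set ℕ) (G : Type u) [Group G] [Finite G] [Group.IsSolvable G] :
    SepHyp π G := by
  intro Q _ f hf hQ
  have : Finite Q := Finite.of_surjective f hf
  have : Group.IsSolvable Q := Group.isSolvable_of_surjective hf
  obtain ⟨p, N, hp, hc, hN, hpN, -⟩ := exists_char_abelian_pgroup Q
  refine ⟨N, inferInstance, hN, ?_⟩
  by_cases h : p ∈ π
  · exact Or.inl (Pi.isPiNum_card_of_isPGroup hp h hpN)
  · exact Or.inr ⟨Pi.isPiNum_card_of_isPGroup hp h hpN, inferInstance⟩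

theorem exists_dominating_aux (π : Set ℕ) (n : ℕ) :
    ∀ (G : Type u) [Group G] [Finite G], Nat.card G = n → SepHyp π G →
      ∃ H : Subgroup G, IsPiHall π H ∧
        ∀ K : Subgroup G, IsPiNum π (Nat.card K) → ∃ g : G, MulAut.conj g • K ≤ H := by
  induction n using Nat.strong_induction_on with
  | _ n ih =>
  intro G _ _ hn hsep
  rcases subsingleton_or_nontrivial G with hG | hG
  · refine ⟨⊤, PiHall.top_iff.mpr ?_, fun K _ => ⟨1, le_top⟩⟩
    rw [Nat.card_of_subsingleton (1 : G)]
    exact IsPiNum.one π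
  obtain ⟨N, hNn, hN, hcase⟩ := hsep G (MonoidHom.id G) Function.surjective_id hG
  have hlt : Nat.card (G ⧸ N) < n := hn ▸ card_quotient_lt hN
  obtain ⟨Hb, hHb, hdom⟩ := ih _ hlt (G ⧸ N) rfl
    (hsep.of_surjective (QuotientGroup.mk'_surjective N))
  set H1 := Hb.comap (QuotientGroup.mk' N) with hH1
  have hdom1 : ∀ K : Subgroup G, IsPiNum π (Nat.card K) → ∃ g : G, MulAut.conj g • K ≤ H1 := by
    intro K hK
    obtain ⟨gb, hgb⟩ := hdom (K.map (QuotientGroup.mk' N)) (Pi.isPiNum_card_map hK _)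
    obtain ⟨g, rfl⟩ := QuotientGroup.mk'_surjective N gb
    rw [← Pi.map_conj_smul] at hgb
    exact ⟨g, Subgroup.map_le_iff_le_comap.mp hgb⟩
  rcases hcase with hπ | ⟨hπ, hsolv⟩
  · exact ⟨H1, PiHall.comap_of_surjective (QuotientGroup.mk'_surjective N)
      (by rwa [QuotientGroup.ker_mk']) hHb, hdom1⟩
  · have hNH1 : N ≤ H1 := fun x hx => by
      rw [hH1, Subgroup.mem_comap, QuotientGroup.mk'_apply, (QuotientGroup.eq_one_iff x).mpr hx]
      exact Hb.one_mem
    have hrel : N.relIndex H1 = Nat.card Hb := by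
      have h1 := Pi.card_mul_relIndex hNH1
      rw [hH1, Pi.card_comap_mk'] at h1
      exact Nat.eq_of_mul_eq_mul_left Nat.card_pos h1
    have hNhall : IsPiHall πᶜ (N.subgroupOf H1) :=
      PiHall.subgroupOf (PiHall.mkOf hNH1 hπ
        (by rw [hrel, IsPiNum.compl_compl]; exact PiHall.card_pi hHb))
    obtain ⟨H', hH'⟩ := Subgroup.exists_right_complement'_of_coprime (PiHall.coprime hNhall)
    have hH'hall : IsPiHall π H' := by
      simpa using PiHall.compl_of_isComplement' hNhall hH'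
    have hH : IsPiHall π (H'.map H1.subtype) :=
      PiHall.isPiHall_of_index (PiHall.isPiHallOf_map_subtype.mpr hH'hall)
        (by rw [hH1, Subgroup.index_comap_of_surjective _ (QuotientGroup.mk'_surjective N)]
            exact PiHall.index_pi hHb)
    refine ⟨H'.map H1.subtype, hH, fun K hK => ?_⟩
    obtain ⟨g, hg⟩ := hdom1 K hK
    have hsup : N ⊔ H'.map H1.subtype = H1 := by
      conv_lhs => rw [← Subgroup.map_subgroupOf_eq_of_le hNH1]
      rw [← Subgroup.map_sup, hH'.sup_eq_top, ← MonoidHom.range_eq_map, Subgroup.range_subtype]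
    obtain ⟨a, -, ha⟩ := exists_conj_le_of_le_sup (N := N) (H := H'.map H1.subtype)
      (K := MulAut.conj g • K) (by rw [Subgroup.normalizer_eq_top]; exact le_top) (Or.inl hsolv)
      (by rw [Pi.card_smul]; exact (hK.coprime hπ).symm)
      (Pi.disjoint_of_isPiNum (PiHall.card_pi hH) hπ).symm (hsup.symm ▸ hg)
    exact ⟨a * g, by rwa [map_mul, mul_smul]⟩

section SepHyp

variable {π : Set ℕ} {G : Type u} [Group G] [Finite G]

theorem SepHyp.exists_isPiHall (h : SepHyp π G) : ∃ H : Subgroup G, IsPiHall π H :=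
  (exists_dominating_aux π _ G rfl h).imp fun _ h => h.1

theorem SepHyp.exists_conj_le (h : SepHyp π G) {H K : Subgroup G} (hH : IsPiHall π H)
    (hK : IsPiNum π (Nat.card K)) : ∃ g : G, MulAut.conj g • K ≤ H := by
  obtain ⟨H₀, hH₀, hdom⟩ := exists_dominating_aux π _ G rfl h
  obtain ⟨a, ha⟩ := hdom H (PiHall.card_pi hH)
  obtain ⟨b, hb⟩ := hdom K hK
  rw [← PiHall.eq_of_le (PiHall.smul _ hH) (PiHall.card_pi hH₀) ha] at hb
  refine ⟨a⁻¹ * b, ?_⟩
  rwa [map_mul, mul_smul, map_inv, ← Subgroup.subset_pointwise_smul_iff]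

theorem SepHyp.exists_conj_eq (h : SepHyp π G) {H K : Subgroup G} (hH : IsPiHall π H)
    (hK : IsPiHall π K) : ∃ g : G, MulAut.conj g • H = K := by
  obtain ⟨g, hg⟩ := h.exists_conj_le hK (PiHall.card_pi hH)
  exact ⟨g, PiHall.eq_of_le (PiHall.smul _ hH) (PiHall.card_pi hK) hg⟩

theorem SepHyp.exists_isPiHall_ge (h : SepHyp π G) {K : Subgroup G}
    (hK : IsPiNum π (Nat.card K)) : ∃ H : Subgroup G, IsPiHall π H ∧ K ≤ H := by
  obtain ⟨H, hH⟩ := h.exists_isPiHall
  obtain ⟨g, hg⟩ := h.exists_conj_le hH hK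
  exact ⟨(MulAut.conj g)⁻¹ • H, PiHall.smul _ hH, Subgroup.pointwise_smul_subset_iff.mp hg⟩

end SepHyp

section Solvable

variable {π : Set ℕ} {G : Type*} [Group G] [Finite G]

/-- **Hall E**: a finite solvable group has a Hall `π`-subgroup. -/
theorem exists_isPiHall (π : Set ℕ) (G : Type*) [Group G] [Finite G] [Group.IsSolvable G] :
    ∃ H : Subgroup G, IsPiHall π H :=
  (sepHyp_of_solvable π G).exists_isPiHall

/-- **Hall D**: every `π`-subgroup is conjugate into a given Hall `π`-subgroup. -/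
theorem exists_conj_le [Group.IsSolvable G] {H K : Subgroup G} (hH : IsPiHall π H)
    (hK : IsPiNum π (Nat.card K)) : ∃ g : G, MulAut.conj g • K ≤ H :=
  (sepHyp_of_solvable π G).exists_conj_le hH hK

/-- **Hall C**: Hall `π`-subgroups are conjugate. -/
theorem exists_conj_eq [Group.IsSolvable G] {H K : Subgroup G} (hH : IsPiHall π H)
    (hK : IsPiHall π K) : ∃ g : G, MulAut.conj g • H = K :=
  (sepHyp_of_solvable π G).exists_conj_eq hH hK

/-- **Hall D**: every `π`-subgroup lies in a Hall `π`-subgroup. -/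
theorem exists_isPiHall_ge [Group.IsSolvable G] {K : Subgroup G} (hK : IsPiNum π (Nat.card K)) :
    ∃ H : Subgroup G, IsPiHall π H ∧ K ≤ H :=
  (sepHyp_of_solvable π G).exists_isPiHall_ge hK

/-! Relative versions, inside a solvable subgroup `M` of an arbitrary finite group. -/

theorem exists_isPiHallOf (π : Set ℕ) (M : Subgroup G) [Group.IsSolvable M] :
    ∃ H : Subgroup G, IsPiHallOf π H M := by
  obtain ⟨H, hH⟩ := exists_isPiHall π M
  exact ⟨H.map M.subtype, PiHall.isPiHallOf_map_subtype.mpr hH⟩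

theorem of_exists_conj_le {M : Subgroup G} [Group.IsSolvable M] {H K : Subgroup G}
    (hH : IsPiHallOf π H M) (hKM : K ≤ M) (hK : IsPiNum π (Nat.card K)) :
    ∃ g ∈ M, MulAut.conj g • K ≤ H := by
  obtain ⟨g, hg⟩ := exists_conj_le (PiHall.subgroupOf hH) (Pi.isPiNum_card_subgroupOf hK M)
  refine ⟨g, g.2, fun x hx => ?_⟩
  rw [← Pi.subgroupOf_conj_smul] at hg
  exact hg (show (⟨x, Subgroup.conj_smul_le_of_le hKM g hx⟩ : M) ∈ _ from hx)

theorem of_exists_conj_eq {M : Subgroup G} [Group.IsSolvable M] {H K : Subgroup G}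
    (hH : IsPiHallOf π H M) (hK : IsPiHallOf π K M) : ∃ g ∈ M, MulAut.conj g • H = K := by
  obtain ⟨g, hgM, hg⟩ := of_exists_conj_le hK hH.1 (PiHall.of_card_pi hH)
  exact ⟨g, hgM, PiHall.of_eq_of_le (PiHall.of_conj_smul hH (Subgroup.le_normalizer hgM)) hK.1
    (PiHall.of_card_pi hK) hg⟩

theorem exists_isPiHallOf_ge {M : Subgroup G} [Group.IsSolvable M] {K : Subgroup G} (hKM : K ≤ M)
    (hK : IsPiNum π (Nat.card K)) : ∃ H : Subgroup G, IsPiHallOf π H M ∧ K ≤ H := by
  obtain ⟨H, hH, hle⟩ := exists_isPiHall_ge (Pi.isPiNum_card_subgroupOf hK M)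
  refine ⟨H.map M.subtype, PiHall.isPiHallOf_map_subtype.mpr hH, fun x hx => ?_⟩
  exact ⟨⟨x, hKM hx⟩, hle hx, rfl⟩

/-- Frattini argument for Hall subgroups, product form: if `X` normalises the solvable subgroup
`L` and `H` is a Hall subgroup of `L`, every `x ∈ X` is `l * n`, `l ∈ L`, `n ∈ N(H)`. -/
theorem frattini_mul {L H : Subgroup G} [Group.IsSolvable L] (hH : IsPiHallOf π H L) {x : G}
    (hx : x ∈ Subgroup.normalizer (L : Set G)) :
    ∃ l ∈ L, ∃ n ∈ Subgroup.normalizer (H : Set G), x = l * n := by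
  obtain ⟨g, hgL, hg⟩ := of_exists_conj_eq (PiHall.of_conj_smul hH hx) hH
  refine ⟨g⁻¹, L.inv_mem hgL, g * x, ?_, by group⟩
  rw [← Pi.conj_smul_eq_iff_mem_normalizer, map_mul, mul_smul, hg]

/-- Frattini argument for Hall subgroups of a solvable normal subgroup. -/
theorem frattini_sup_eq_top {L H : Subgroup G} [L.Normal] [Group.IsSolvable L]
    (hH : IsPiHallOf π H L) : L ⊔ Subgroup.normalizer (H : Set G) = ⊤ := by
  rw [eq_top_iff]
  intro x _
  obtain ⟨l, hl, n, hn, rfl⟩ := frattini_mul hH (x := x)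
    (by rw [Subgroup.normalizer_eq_top]; trivial)
  exact Subgroup.mul_mem_sup hl hn

/-- Every Hall `π`-subgroup of a quotient of a solvable group is the image of one. -/
theorem exists_map_eq [Group.IsSolvable G] {G' : Type*} [Group G'] {f : G →* G'}
    (hf : Function.Surjective f) {H' : Subgroup G'} (hH' : IsPiHall π H') :
    ∃ H : Subgroup G, IsPiHall π H ∧ H.map f = H' := by
  have : Finite G' := Finite.of_surjective f hf
  have : Group.IsSolvable G' := Group.isSolvable_of_surjective hf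
  obtain ⟨H, hH⟩ := exists_isPiHall π G
  obtain ⟨g', hg'⟩ := exists_conj_eq (PiHall.map_of_surjective hf hH) hH'
  obtain ⟨g, rfl⟩ := hf g'
  exact ⟨MulAut.conj g • H, PiHall.smul _ hH, by rw [Pi.map_conj_smul, hg']⟩

/-- Every Hall `π`-subgroup of a subgroup `M` of a solvable group is `H ∩ M` for a Hall
`π`-subgroup `H` of the group. -/
theorem exists_inf_eq [Group.IsSolvable G] {K M : Subgroup G} (hK : IsPiHallOf π K M) :
    ∃ H : Subgroup G, IsPiHall π H ∧ H ⊓ M = K := by
  obtain ⟨H, hH, hle⟩ := exists_isPiHall_ge (PiHall.of_card_pi hK)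
  exact ⟨H, hH, (PiHall.of_eq_of_le hK inf_le_right
    (Pi.isPiNum_card_of_le (PiHall.card_pi hH) inf_le_left) (le_inf hle hK.1)).symm⟩

/-- In a solvable group the `π`-core is the intersection of the Hall `π`-subgroups. -/
theorem piCore_eq_normalCore {H : Subgroup G} (hH : IsPiHall π H) :
    piCore π G = H.normalCore :=
  le_antisymm (Subgroup.normal_le_normalCore.mpr (PiCore.le_isPiHall hH))
    (PiCore.le_piCore (Pi.isPiNum_card_of_le (PiHall.card_pi hH) H.normalCore_le))

/-- Order form of the Hall condition: `|G| = m n`, `(m, n) = 1`, `π = π(n)'`. -/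
theorem isPiHall_iff_card_eq {m n : ℕ} (hG : Nat.card G = m * n) (hmn : m.Coprime n)
    {H : Subgroup G} : IsPiHall {p | p ∣ n}ᶜ H ↔ Nat.card H = m := by
  have hm : IsPiNum {p | p ∣ n}ᶜ m := IsPiNum.compl_dvd_iff_coprime.mpr hmn
  have hn : IsPiNum {p | p ∣ n}ᶜᶜ n := IsPiNum.compl_compl.mpr (IsPiNum.self_dvd n)
  constructor
  · intro h
    exact (PiHall.card_pi h).eq_of_mul_eq (PiHall.index_pi h) hm hn
      (by rw [Subgroup.card_mul_index, hG])
  · intro h
    refine PiHall.mk (h ▸ hm) ?_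
    have h1 := H.card_mul_index
    rw [hG, h] at h1
    have hpos : 0 < m := h ▸ Nat.card_pos
    rwa [Nat.eq_of_mul_eq_mul_left hpos h1]

end Solvable

end Hall

end CL
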