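import Cfsg.Agent.Solv.FrattiniP

/-!
# Nilpotent groups: self-centralising normal abelian subgroups, class bounds, Brodkey's theorem
-/

namespace CL

open Subgroup Cfsg
open scoped commutatorElement Pointwise

variable {G : Type*} [Group G]

/-- In a nilpotent group, if `C` is normal and not inside the normal subgroup `N`, some element of
`C` outside `N` is central modulo `N`. -/
theorem exists_central_mod_of_isNilpotent [Group.IsNilpotent G] (N C : Subgroup G) [N.Normal]
    [hC : C.Normal] (h : ¬ C ≤ N) : ∃ x ∈ C, x ∉ N ∧ ∀ g : G, ⁅g, x⁆ ∈ N := by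
  have := hC.map _ (QuotientGroup.mk'_surjective N)
  have h1 : C.map (QuotientGroup.mk' N) ≠ ⊥ := by
    rwa [Ne, Subgroup.map_eq_bot_iff, QuotientGroup.ker_mk']
  obtain ⟨⟨_, ⟨x, hx, rfl⟩, hz⟩, hne⟩ :=
    ne_bot_iff_exists_ne_one.mp (inf_center_ne_bot_of_isNilpotent _ h1)
  refine ⟨x, hx, fun hN => hne (Subtype.ext ((QuotientGroup.eq_one_iff x).mpr hN)), fun g => ?_⟩
  rw [← QuotientGroup.eq_one_iff]
  change QuotientGroup.mk' N ⁅g, x⁆ = 1
  rw [map_commutatorElement, commutatorElement_eq_one_iff_mul_comm]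
  exact mem_center_iff.mp hz _

/-- Adjoining an element central modulo `N` to the normal subgroup `N` gives a normal subgroup. -/
theorem normal_sup_zpowers_of_commutator_mem (N : Subgroup G) [N.Normal] {x : G}
    (h : ∀ g : G, ⁅g, x⁆ ∈ N) : (N ⊔ zpowers x).Normal := by
  rw [← normalizer_eq_top_iff, eq_top_iff, le_normalizer_iff_commutator_le_right]
  have h1 : (N ⊔ zpowers x).map (QuotientGroup.mk' N) ≤ center (G ⧸ N) := by
    rw [Subgroup.map_sup, QuotientGroup.map_mk'_self, bot_sup_eq, MonoidHom.map_zpowers, zpowers_le,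
      mem_center_iff]
    intro g
    obtain ⟨g, rfl⟩ := QuotientGroup.mk'_surjective N g
    rw [← commutatorElement_eq_one_iff_mul_comm, ← map_commutatorElement]
    exact (QuotientGroup.eq_one_iff _).mpr (h g)
  refine le_trans ?_ le_sup_left
  rw [commutator_le]
  intro g _ y hy
  rw [← QuotientGroup.eq_one_iff]
  change QuotientGroup.mk' N ⁅g, y⁆ = 1
  rw [map_commutatorElement, commutatorElement_eq_one_iff_mul_comm]
  exact mem_center_iff.mp (h1 ⟨y, hy, rfl⟩) _

theorem centralizer_sup_eq_inf (A B : Subgroup G) :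
    centralizer ((A ⊔ B : Subgroup G) : Set G) = centralizer (A : Set G) ⊓ centralizer (B : Set G) := by
  refine le_antisymm (le_inf (centralizer_le (SetLike.coe_mono le_sup_left))
    (centralizer_le (SetLike.coe_mono le_sup_right))) ?_
  rw [le_centralizer_iff]
  exact sup_le (le_centralizer_iff.mp inf_le_left) (le_centralizer_iff.mp inf_le_right)

/-- The join of two commuting abelian subgroups is abelian. -/
theorem isMulCommutative_sup {A B : Subgroup G} [IsMulCommutative A] [IsMulCommutative B]
    (h : A ≤ centralizer (B : Set G)) : IsMulCommutative (A ⊔ B : Subgroup G) := by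
  rw [← le_centralizer_iff_isMulCommutative, centralizer_sup_eq_inf]
  exact sup_le (le_inf (le_centralizer A) h) (le_inf (le_centralizer_iff.mp h) (le_centralizer B))

/-- In a nilpotent group a maximal abelian normal subgroup is self-centralising. -/
theorem centralizer_eq_of_maximal_abelian_normal [Group.IsNilpotent G] (N : Subgroup G) [N.Normal]
    [IsMulCommutative N]
    (hmax : ∀ M : Subgroup G, M.Normal → IsMulCommutative M → N ≤ M → M = N) :
    centralizer (N : Set G) = N := by
  refine le_antisymm ?_ (le_centralizer N)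
  by_contra h
  obtain ⟨x, hx, hxN, hc⟩ := exists_central_mod_of_isNilpotent N _ h
  have h1 := hmax _ (normal_sup_zpowers_of_commutator_mem N hc)
    (isMulCommutative_sup (le_centralizer_iff.mp (zpowers_le.mpr hx))) le_sup_left
  exact hxN (h1 ▸ mem_sup_right (mem_zpowers x))

/-- In a finite nilpotent group every abelian normal subgroup lies in a self-centralising normal
subgroup. -/
theorem exists_normal_centralizer_eq_ge [Finite G] [Group.IsNilpotent G] (A : Subgroup G)
    [hA : A.Normal] [hc : IsMulCommutative A] :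
    ∃ N : Subgroup G, N.Normal ∧ A ≤ N ∧ centralizer (N : Set G) = N := by
  obtain ⟨N, ⟨h1, h2, h3⟩, hmax⟩ := WellFounded.has_min (wellFounded_gt (α := Subgroup G))
    {N : Subgroup G | N.Normal ∧ IsMulCommutative N ∧ A ≤ N} ⟨A, hA, hc, le_rfl⟩
  refine ⟨N, h1, h3, centralizer_eq_of_maximal_abelian_normal N fun M hM hM' hle => ?_⟩
  by_contra hne
  exact hmax M ⟨hM, hM', h3.trans hle⟩ (lt_of_le_of_ne hle (Ne.symm hne))

/-- A group whose order divides `p ^ 2` is abelian. -/
theorem isMulCommutative_of_card_dvd_prime_sq {p : ℕ} [hp : Fact p.Prime]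
    (h : Nat.card G ∣ p ^ 2) : IsMulCommutative G := by
  obtain ⟨k, hk, h⟩ := (Nat.dvd_prime_pow hp.out).mp h
  rcases Nat.lt_or_ge k 2 with hlt | hge
  · have : IsCyclic G := isCyclic_of_card_dvd_prime (p := p)
      (h ▸ (pow_dvd_pow p (Nat.lt_succ_iff.mp hlt)).trans (pow_one p).dvd)
    infer_instance
  · exact IsPGroup.isMulCommutative_of_card_eq_prime_sq (p := p) (by rw [h, le_antisymm hk hge])

/-- A group whose order divides `p ^ (m + 1)`, `m ≥ 1`, has nilpotency class at most `m`. -/
theorem nilpotencyClass_le_of_card_dvd {p : ℕ} [hp : Fact p.Prime] {m : ℕ} (hm : 1 ≤ m)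
    (h : Nat.card G ∣ p ^ (m + 1)) : Group.nilpotencyClass G ≤ m := by
  induction m, hm using Nat.le_induction generalizing G with
  | base =>
    have := isMulCommutative_of_card_dvd_prime_sq h
    have := isNilpotent_of_isMulCommutative G
    exact Group.IsNilpotent.nilpotencyClass_le_one_iff.mpr inferInstance
  | succ m hm ih =>
    have : Finite G := Nat.finite_of_card_ne_zero fun h0 =>
      (pow_pos hp.out.pos _).ne' (Nat.eq_zero_of_zero_dvd (h0 ▸ h))
    have hG : IsPGroup p G := IsPGroup.of_card_dvd_pow h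
    have := hG.isNilpotent
    rcases subsingleton_or_nontrivial G with hs | hs
    · rw [Group.nilpotencyClass_zero_iff_subsingleton.mpr hs]
      exact Nat.zero_le _
    rw [Group.nilpotencyClass_eq_quotient_center_plus_one]
    refine Nat.succ_le_succ (ih ?_)
    obtain ⟨c, hc⟩ : p ∣ Nat.card (center G) :=
      (hG.to_subgroup _).card_eq_or_dvd.resolve_left
        (mt card_eq_one.mp (Group.IsNilpotent.center_ne_bot G))
    rw [← (center G).index_mul_card, hc, pow_succ, ← mul_assoc] at h
    exact Nat.dvd_of_mul_dvd_mul_right hp.out.pos ((Dvd.intro _ rfl).trans h)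

/-! ### Brodkey's theorem -/

/-- If `S ∩ Q` is minimal among the intersections of `S` with Sylow `p`-subgroups, then every
subgroup of `S ∩ Q` normalised by `S` and `Q` lies in `O_p(G)`. -/
theorem le_pCore_of_minimal_sylow_inf [Finite G] {p : ℕ} [Fact p.Prime] (S Q : Sylow p G)
    (hmin : ∀ P : Sylow p G, (S : Subgroup G) ⊓ P ≤ (S : Subgroup G) ⊓ Q →
      (S : Subgroup G) ⊓ P = (S : Subgroup G) ⊓ Q)
    {K : Subgroup G} (hK : K ≤ (S : Subgroup G) ⊓ Q) (hS : (S : Subgroup G) ≤ normalizer (K : Set G))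
    (hQ : (Q : Subgroup G) ≤ normalizer (K : Set G)) : K ≤ pCore p G := by
  rw [pCore_eq_iInf_sylow, le_iInf_iff]
  intro P
  set N := normalizer (K : Set G)
  obtain ⟨R, hR⟩ := (P.isPGroup'.comap_subtype (K := N)).exists_le_sylow
  obtain ⟨x, hx⟩ := MulAction.exists_smul_eq N R (Q.subtype hQ)
  have h1 : (S : Subgroup G) ⊓ ((x : G) • P : Sylow p G) ≤ (S : Subgroup G) ⊓ Q := by
    intro y hy
    obtain ⟨hyS, hyP⟩ := mem_inf.mp hy
    refine mem_inf.mpr ⟨hyS, ?_⟩
    have h2 : (⟨y, hS hyS⟩ : N) ∈ ((x • R : Sylow p N) : Subgroup N) := by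
      rw [Sylow.coe_subgroup_smul, mem_pointwise_smul_iff_inv_smul_mem]
      apply hR
      rw [Sylow.coe_subgroup_smul, mem_pointwise_smul_iff_inv_smul_mem] at hyP
      exact hyP
    rw [hx] at h2
    exact h2
  intro k hk
  have h3 : (x : G) * k * (x : G)⁻¹ ∈ K := (mem_normalizer_iff.mp x.2 k).mp hk
  have h4 := ((hK.trans (hmin _ h1).ge).trans inf_le_right) h3
  rw [Sylow.coe_subgroup_smul, mem_pointwise_smul_iff_inv_smul_mem] at h4
  simpa [mul_assoc] using h4

/-- Brodkey's theorem: if the Sylow `p`-subgroups are abelian, `O_p(G)` is the intersection of two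
of them. -/
theorem exists_sylow_inf_eq_pCore [Finite G] {p : ℕ} [Fact p.Prime] (S : Sylow p G)
    (hS : IsMulCommutative S) : ∃ Q : Sylow p G, (S : Subgroup G) ⊓ Q = pCore p G := by
  obtain ⟨_, ⟨Q, rfl⟩, hmin⟩ := WellFounded.has_min (wellFounded_lt (α := Subgroup G))
    (Set.range fun P : Sylow p G => (S : Subgroup G) ⊓ P) ⟨_, S, rfl⟩
  have hQ : IsMulCommutative (Q : Subgroup G) := by
    refine ⟨⟨fun a b => (S.equiv Q).symm.injective ?_⟩⟩
    rw [map_mul, map_mul]
    exact hS.is_comm.comm _ _
  have hS' : IsMulCommutative (S : Subgroup G) := hS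
  refine ⟨Q, le_antisymm (le_pCore_of_minimal_sylow_inf S Q (fun P hP => ?_) le_rfl ?_ ?_)
    (le_inf (pCore_le_sylow S) (pCore_le_sylow Q))⟩
  · by_contra hne
    exact hmin _ ⟨P, rfl⟩ (lt_of_le_of_ne hP hne)
  · exact ((le_centralizer _).trans (centralizer_le inf_le_left)).trans
      (centralizer_le_normalizer _)
  · exact ((le_centralizer _).trans (centralizer_le inf_le_right)).trans
      (centralizer_le_normalizer _)

end CL
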