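import Cfsg.Agent.Solv.MinNormal

/-!
# The cores `O_p(G)`, `O_{p'}(G)`, `O_π(G)`

API for `Cfsg.pCore`, `Cfsg.pPrimeCore`, `Cfsg.piCore`.
-/

namespace CL

open Subgroup Cfsg

variable {G : Type*} [Group G] {H : Type*} [Group H]

/-! ### Generalities -/

/-- Induction over a supremum of subgroups of a finite group. -/
theorem sSup_subgroup_induction [Finite G] (S : Set (Subgroup G)) (P : Subgroup G → Prop)
    (h0 : P ⊥) (hsup : ∀ A B, P A → P B → P (A ⊔ B)) (hS : ∀ A ∈ S, P A) : P (sSup S) := by
  have hfin : S.Finite := Set.toFinite S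
  induction S, hfin using Set.Finite.induction_on with
  | empty => simpa using h0
  | insert _ _ ih =>
    rw [sSup_insert]
    exact hsup _ _ (hS _ (Set.mem_insert _ _)) (ih fun A hA => hS A (Set.mem_insert_of_mem _ hA))

/-- `|H ∩ K| · [K : H ∩ K] = |K|`. -/
theorem card_inf_mul_relIndex (H K : Subgroup G) :
    Nat.card (H ⊓ K : Subgroup G) * H.relIndex K = Nat.card K := by
  rw [← inf_relIndex_right, ← relIndex_bot_left, ← relIndex_bot_left,
    relIndex_mul_relIndex _ _ _ bot_le inf_le_right]

/-- `|H| · [K : H] = |K|` for `H ≤ K`. -/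
theorem card_mul_relIndex_of_le {H K : Subgroup G} (h : H ≤ K) :
    Nat.card H * H.relIndex K = Nat.card K := by
  rw [← card_inf_mul_relIndex H K, inf_eq_left.mpr h]

/-- The product formula `|H N| · |H ∩ N| = |H| · |N|` for `N` normal. -/
theorem card_sup_mul_card_inf (H N : Subgroup G) [N.Normal] :
    Nat.card (H ⊔ N : Subgroup G) * Nat.card (H ⊓ N : Subgroup G) = Nat.card H * Nat.card N := by
  rw [← card_mul_relIndex_of_le (le_sup_right : N ≤ H ⊔ N), relIndex_sup_right,
    ← card_inf_mul_relIndex N H, inf_comm N H]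
  ring

/-- The product formula `|H N| · |H ∩ N| = |H| · |N|` when `H` normalises `N`. -/
theorem card_sup_mul_card_inf_of_le_normalizer {H N : Subgroup G}
    (h : H ≤ normalizer (N : Set G)) :
    Nat.card (H ⊔ N : Subgroup G) * Nat.card (H ⊓ N : Subgroup G) = Nat.card H * Nat.card N := by
  have hn : (N.subgroupOf (H ⊔ N)).Normal := normal_subgroupOf_sup_of_le_normalizer h
  have := card_sup_mul_card_inf (H.subgroupOf (H ⊔ N)) (N.subgroupOf (H ⊔ N))
  rw [← subgroupOf_sup le_sup_left le_sup_right, subgroupOf_self, card_top,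
    Nat.card_congr (subgroupOfEquivOfLe (le_sup_left : H ≤ H ⊔ N)).toEquiv,
    Nat.card_congr (subgroupOfEquivOfLe (le_sup_right : N ≤ H ⊔ N)).toEquiv] at this
  rw [← this]
  congr 1
  rw [← Nat.card_congr (subgroupOfEquivOfLe
    (inf_le_left.trans le_sup_left : H ⊓ N ≤ H ⊔ N)).toEquiv]
  rfl

theorem card_sup_dvd_mul (H N : Subgroup G) [N.Normal] :
    Nat.card (H ⊔ N : Subgroup G) ∣ Nat.card H * Nat.card N :=
  Dvd.intro _ (card_sup_mul_card_inf H N)

theorem card_sup_dvd_mul_of_le_normalizer {H N : Subgroup G} (h : H ≤ normalizer (N : Set G)) :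
    Nat.card (H ⊔ N : Subgroup G) ∣ Nat.card H * Nat.card N :=
  Dvd.intro _ (card_sup_mul_card_inf_of_le_normalizer h)

/-- The order of the preimage of a subgroup under a surjection. -/
theorem card_comap_of_surjective [Finite G] {f : G →* H} (hf : Function.Surjective f)
    (K : Subgroup H) : Nat.card (K.comap f) = Nat.card f.ker * Nat.card K := by
  have hle : f.ker ≤ K.comap f := ker_le_comap f K
  rw [← card_mul_relIndex_of_le hle, relIndex_ker, map_comap_eq_self_of_surjective hf]

/-- The order of the preimage of a subgroup divides `|ker f| · |K|`. -/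
theorem card_comap_dvd (f : G →* H) (K : Subgroup H) :
    Nat.card (K.comap f) ∣ Nat.card f.ker * Nat.card K := by
  have hle : f.ker ≤ K.comap f := ker_le_comap f K
  rw [← card_mul_relIndex_of_le hle, relIndex_ker]
  exact Nat.mul_dvd_mul_left _ (card_dvd_of_le (map_comap_le f K))

theorem card_map_subtype_eq {K : Subgroup G} (L : Subgroup K) :
    Nat.card (L.map K.subtype) = Nat.card L :=
  card_map_of_injective K.subtype_injective

theorem card_subgroupOf (L K : Subgroup G) :
    Nat.card (L.subgroupOf K) = Nat.card (L ⊓ K : Subgroup G) := by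
  rw [← card_map_subtype_eq, subgroupOf_map_subtype]

theorem card_subgroupOf_eq_of_le {L K : Subgroup G} (h : L ≤ K) :
    Nat.card (L.subgroupOf K) = Nat.card L := by
  rw [card_subgroupOf, inf_eq_left.mpr h]

/-- The normaliser of `K` normalises every characteristic subgroup of `K`. -/
theorem normalizer_le_normalizer_map_subtype (K : Subgroup G) (L : Subgroup K)
    [hL : L.Characteristic] :
    normalizer (K : Set G) ≤ normalizer ((L.map K.subtype : Subgroup G) : Set G) := by
  rw [le_normalizer_iff]
  rintro g hg _ ⟨x, hx, rfl⟩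
  have := (characteristic_iff_le_comap.mp hL) (K.normalizerMonoidHom ⟨g, hg⟩) hx
  exact ⟨_, this, rfl⟩

/-- A subgroup normalised by `K` and contained in it is normal as a subgroup of `K`. -/
theorem normal_subgroupOf_of_le_normalizer' {N K : Subgroup G} (h : K ≤ normalizer (N : Set G)) :
    (N.subgroupOf K).Normal := normal_subgroupOf_of_le_normalizer h

/-- The image in `G` of a normal subgroup of `K ≤ G` is normalised by `K`. -/
theorem le_normalizer_map_subtype (K : Subgroup G) (L : Subgroup K) [hL : L.Normal] :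
    K ≤ normalizer ((L.map K.subtype : Subgroup G) : Set G) := by
  rw [le_normalizer_iff]
  rintro g hg _ ⟨x, hx, rfl⟩
  exact ⟨_, hL.conj_mem x hx ⟨g, hg⟩, rfl⟩

theorem isPGroup_map_subtype_iff {p : ℕ} {K : Subgroup G} {L : Subgroup K} :
    IsPGroup p (L.map K.subtype) ↔ IsPGroup p L :=
  ⟨fun h => h.of_equiv (L.equivMapOfInjective _ K.subtype_injective).symm, fun h => h.map _⟩

theorem IsPGroup_subgroupOf {p : ℕ} {L : Subgroup G} (h : IsPGroup p L) (K : Subgroup G) :
    IsPGroup p (L.subgroupOf K) := h.comap_subtype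

/-! ### The `p`-core -/

section pCore

variable {p : ℕ}

theorem pCore_isPGroup (p : ℕ) (G : Type*) [Group G] : IsPGroup p (pCore p G) :=
  Sylow.sSup_of_normal _ (fun _ h => h.2) (fun _ h => h.1)

theorem le_pCore {N : Subgroup G} [hN : N.Normal] (h : IsPGroup p N) : N ≤ pCore p G :=
  le_sSup ⟨hN, h⟩

theorem le_pCore_iff {N : Subgroup G} [N.Normal] : N ≤ pCore p G ↔ IsPGroup p N :=
  ⟨fun h => (pCore_isPGroup p G).to_le h, le_pCore⟩

theorem pCore_le_sylow (P : Sylow p G) : pCore p G ≤ P :=
  (pCore_isPGroup p G).le_sylow_of_normal P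

theorem pCore_eq_top_iff : pCore p G = ⊤ ↔ IsPGroup p G := by
  rw [eq_top_iff, le_pCore_iff]
  exact ⟨fun h => h.of_equiv topEquiv, fun h => h.to_subgroup _⟩

theorem pCore_eq_bot_iff :
    pCore p G = ⊥ ↔ ∀ N : Subgroup G, N.Normal → IsPGroup p N → N = ⊥ :=
  ⟨fun h _ _ hN => le_bot_iff.mp (h ▸ le_pCore hN),
    fun h => h _ inferInstance (pCore_isPGroup p G)⟩

theorem map_pCore_le {f : G →* H} (hf : Function.Surjective f) :
    (pCore p G).map f ≤ pCore p H :=
  haveI : ((pCore p G).map f).Normal := Normal.map inferInstance f hf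
  le_pCore ((pCore_isPGroup p G).map f)

theorem pCore_le_comap {f : G →* H} (hf : Function.Surjective f) :
    pCore p G ≤ (pCore p H).comap f := map_le_iff_le_comap.mp (map_pCore_le hf)

/-- If the kernel is a `p`-group, the preimage of `O_p(H)` lies in `O_p(G)`. -/
theorem comap_pCore_le (f : G →* H) (hker : IsPGroup p f.ker) :
    (pCore p H).comap f ≤ pCore p G :=
  le_pCore ((pCore_isPGroup p H).comap_of_ker_isPGroup f hker)

theorem comap_pCore_eq {f : G →* H} (hf : Function.Surjective f) (hker : IsPGroup p f.ker) :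
    (pCore p H).comap f = pCore p G :=
  le_antisymm (comap_pCore_le f hker) (pCore_le_comap hf)

theorem map_pCore_eq {f : G →* H} (hf : Function.Surjective f) (hker : IsPGroup p f.ker) :
    (pCore p G).map f = pCore p H := by
  rw [← comap_pCore_eq hf hker, map_comap_eq_self_of_surjective hf]

theorem map_equiv_pCore (e : G ≃* H) : (pCore p G).map (e : G →* H) = pCore p H :=
  map_pCore_eq e.surjective (IsPGroup.ker_isPGroup_of_injective e.injective)

theorem comap_equiv_pCore (e : G ≃* H) : (pCore p H).comap (e : G →* H) = pCore p G :=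
  comap_pCore_eq e.surjective (IsPGroup.ker_isPGroup_of_injective e.injective)

theorem pCore_characteristic (p : ℕ) (G : Type*) [Group G] : (pCore p G).Characteristic :=
  characteristic_iff_comap_eq.mpr fun e => comap_equiv_pCore e

scoped instance instCharacteristicPCore (p : ℕ) (G : Type*) [Group G] :
    (pCore p G).Characteristic := pCore_characteristic p G

theorem pCore_eq_bot_congr (e : G ≃* H) : pCore p G = ⊥ ↔ pCore p H = ⊥ := by
  rw [← map_equiv_pCore e, map_eq_bot_iff_of_injective _ e.injective]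

/-- `O_p(G / O_p(G)) = 1`. -/
theorem pCore_quotient_pCore (p : ℕ) (G : Type*) [Group G] : pCore p (G ⧸ pCore p G) = ⊥ := by
  rw [← map_pCore_eq (QuotientGroup.mk'_surjective (pCore p G))
    (by rw [QuotientGroup.ker_mk']; exact pCore_isPGroup p G), QuotientGroup.map_mk'_self]

/-- `O_p(G) ∩ K ≤ O_p(K)` for every subgroup `K`. -/
theorem pCore_subgroupOf_le (K : Subgroup G) : (pCore p G).subgroupOf K ≤ pCore p K :=
  comap_pCore_le K.subtype (IsPGroup.ker_isPGroup_of_injective K.subtype_injective)

theorem pCore_inf_le_map_subtype (K : Subgroup G) :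
    pCore p G ⊓ K ≤ (pCore p K).map K.subtype := by
  rw [← subgroupOf_map_subtype]
  exact map_mono (pCore_subgroupOf_le K)

/-- `O_p(N) ≤ O_p(G)` for `N` normal. -/
theorem map_subtype_pCore_le (N : Subgroup G) [N.Normal] :
    (pCore p N).map N.subtype ≤ pCore p G :=
  le_pCore ((pCore_isPGroup p N).map _)

/-- `O_p(N) = O_p(G) ∩ N` for `N` normal. -/
theorem map_subtype_pCore_eq (N : Subgroup G) [N.Normal] :
    (pCore p N).map N.subtype = pCore p G ⊓ N :=
  le_antisymm (le_inf (map_subtype_pCore_le N) (map_subtype_le _)) (pCore_inf_le_map_subtype N)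

theorem pCore_eq_subgroupOf (N : Subgroup G) [N.Normal] : pCore p N = (pCore p G).subgroupOf N :=
  le_antisymm (map_le_iff_le_comap.mp (map_subtype_pCore_le N)) (pCore_subgroupOf_le N)

/-- A `p`-subgroup of `K` normalised by `K` lies in `O_p(K)`. -/
theorem le_map_subtype_pCore {K N : Subgroup G} (hNK : N ≤ K) (hK : K ≤ normalizer (N : Set G))
    (hN : IsPGroup p N) : N ≤ (pCore p K).map K.subtype := by
  have := normal_subgroupOf_of_le_normalizer hK
  calc N = (N.subgroupOf K).map K.subtype := (map_subgroupOf_eq_of_le hNK).symm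
    _ ≤ _ := map_mono (le_pCore hN.comap_subtype)

theorem isPGroup_map_subtype_pCore (p : ℕ) (K : Subgroup G) :
    IsPGroup p ((pCore p K).map K.subtype) := (pCore_isPGroup p K).map _

theorem normalizer_le_normalizer_pCore (p : ℕ) (K : Subgroup G) :
    normalizer (K : Set G) ≤ normalizer (((pCore p K).map K.subtype : Subgroup G) : Set G) :=
  normalizer_le_normalizer_map_subtype K _

/-- `O_p(K) ≤ O_p(G)` for `K` subnormal. -/
theorem map_subtype_pCore_le_of_isSubnormal {K : Subgroup G} (hK : K.IsSubnormal) :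
    (pCore p K).map K.subtype ≤ pCore p G := by
  induction hK with
  | top => exact map_subtype_pCore_le ⊤
  | step K L hKL _ hn ih =>
    refine le_trans ?_ ih
    refine le_map_subtype_pCore ((map_subtype_le _).trans hKL) ?_ (isPGroup_map_subtype_pCore p K)
    exact ((normal_subgroupOf_iff_le_normalizer hKL).mp hn).trans
      (normalizer_le_normalizer_pCore p K)

/-- A subnormal `p`-subgroup lies in `O_p(G)`. -/
theorem le_pCore_of_isSubnormal {K : Subgroup G} (hK : K.IsSubnormal) (h : IsPGroup p K) :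
    K ≤ pCore p G := by
  refine le_trans ?_ (map_subtype_pCore_le_of_isSubnormal hK)
  rw [pCore_eq_top_iff.mpr h, ← MonoidHom.range_eq_map, range_subtype]

theorem map_subtype_pCore_eq_of_isSubnormal {K : Subgroup G} (hK : K.IsSubnormal) :
    (pCore p K).map K.subtype = pCore p G ⊓ K :=
  le_antisymm (le_inf (map_subtype_pCore_le_of_isSubnormal hK) (map_subtype_le _))
    (pCore_inf_le_map_subtype K)

/-- The intersection of all Sylow `p`-subgroups is normal. -/
theorem normal_iInf_sylow (p : ℕ) (G : Type*) [Group G] :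
    (⨅ P : Sylow p G, (P : Subgroup G)).Normal := by
  refine ⟨fun x hx g => mem_iInf.mpr fun P => ?_⟩
  have := mem_iInf.mp hx (g⁻¹ • P)
  rw [Sylow.coe_subgroup_smul, mem_pointwise_smul_iff_inv_smul_mem] at this
  simpa using this

/-- `O_p(G)` is the intersection of the Sylow `p`-subgroups. -/
theorem pCore_eq_iInf_sylow (p : ℕ) (G : Type*) [Group G] :
    pCore p G = ⨅ P : Sylow p G, (P : Subgroup G) := by
  refine le_antisymm (le_iInf pCore_le_sylow) ?_
  have := normal_iInf_sylow p G
  obtain ⟨P⟩ : Nonempty (Sylow p G) := inferInstance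
  exact le_pCore (P.isPGroup'.to_le (iInf_le _ P))

theorem mem_pCore_iff_sylow {x : G} : x ∈ pCore p G ↔ ∀ P : Sylow p G, x ∈ P := by
  rw [pCore_eq_iInf_sylow, mem_iInf]
  rfl

/-- A normal Sylow `p`-subgroup is the `p`-core. -/
theorem pCore_eq_sylow_of_normal (P : Sylow p G) (h : (P : Subgroup G).Normal) :
    pCore p G = P := le_antisymm (pCore_le_sylow P) (le_pCore P.isPGroup')

/-- `O_p(G)` is the normal core of any Sylow `p`-subgroup. -/
theorem pCore_eq_normalCore (P : Sylow p G) : pCore p G = (P : Subgroup G).normalCore :=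
  le_antisymm (normal_le_normalCore.mpr (pCore_le_sylow P))
    (le_pCore (P.isPGroup'.to_le (normalCore_le _)))

theorem pCore_inf_pCore_of_ne {p q : ℕ} [Fact p.Prime] [Fact q.Prime] (h : p ≠ q) :
    pCore p G ⊓ pCore q G = ⊥ :=
  disjoint_iff.mp (IsPGroup.disjoint_of_ne p q h _ _ (pCore_isPGroup p G) (pCore_isPGroup q G))

theorem pCore_le_centralizer_pCore_of_ne {p q : ℕ} [Fact p.Prime] [Fact q.Prime] (h : p ≠ q) :
    pCore p G ≤ centralizer (pCore q G : Set G) :=
  le_centralizer_of_normal_of_inf_eq_bot (pCore_inf_pCore_of_ne h)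

theorem pCore_isNilpotent [Finite G] (p : ℕ) [Fact p.Prime] : Group.IsNilpotent (pCore p G) :=
  (pCore_isPGroup p G).isNilpotent

theorem pCore_eq_bot_of_not_dvd [Finite G] [Fact p.Prime] (h : ¬ p ∣ Nat.card G) :
    pCore p G = ⊥ := by
  rcases (pCore_isPGroup p G).card_eq_or_dvd with h1 | h1
  · exact card_eq_one.mp h1
  · exact absurd (h1.trans (card_subgroup_dvd_card _)) h

end pCore

end CL
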