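import Cfsg.Agent.Base
import Cfsg.Agent.Solv.Frobenius
import Cfsg.Agent.Char.Values
import Cfsg.Agent.Char.Induce

/-!
Frobenius' theorem: the Frobenius kernel is a normal subgroup.
-/

namespace CL.Frob

open Subgroup Cfsg CL.Char
open scoped ComplexConjugate

variable {G : Type*} [Group G]

section

variable [Fintype G] {H : Subgroup G}

/-- For a malnormal subgroup, a class function vanishing at `1` induces to a function with the
same restriction. -/
theorem IsMalnormal.indFun_coe (hH : IsMalnormal H) {θ : H → ℂ} (hθ : IsClassFunction H θ)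
    (h1 : θ 1 = 0) (h : H) : indFun H θ h = θ h := by
  classical
  by_cases hh : h = 1
  · subst hh
    rw [OneMemClass.coe_one, indFun_one, h1, mul_zero]
  have hh' : (h : G) ≠ 1 := fun h' => hh (Subtype.ext h')
  rw [indFun_apply']
  have key : ∀ x : G, extendByZero H θ (x * h * x⁻¹) = extendByZero H (fun _ => θ h) x := by
    intro x
    by_cases hx : x ∈ H
    · rw [extendByZero_conj_mem H hθ hx, extendByZero_coe, extendByZero_of_mem H _ hx]
    · rw [extendByZero_of_not_mem H _ hx, extendByZero_of_not_mem]
      exact fun h2 => hx (hH x h h.2 h2 hh')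
  have := Fintype.ofFinite H
  rw [Finset.sum_congr rfl fun x _ => key x, sum_extendByZero, Finset.sum_const, Finset.card_univ,
    nsmul_eq_mul, ← Nat.card_eq_fintype_card, ← mul_assoc, inv_mul_cancel₀, one_mul]
  exact natCard_cast_ne_zero H

/-- The extension of a class function on `H` to `G` which is constant on the kernel. -/
noncomputable def frobExt (H : Subgroup G) (θ : H → ℂ) : G → ℂ :=
  indFun H (θ - θ 1 • fun _ => 1) + θ 1 • fun _ => 1

theorem frobExt_isClassFunction (θ : H → ℂ) : IsClassFunction G (frobExt H θ) :=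
  classFun_add (indFun_isClassFunction H _) (classFun_smul _ (isClassFunction_const 1))

theorem IsMalnormal.frobExt_coe (hH : IsMalnormal H) {θ : H → ℂ} (hθ : IsClassFunction H θ)
    (h : H) : frobExt H θ h = θ h := by
  rw [frobExt, Pi.add_apply, hH.indFun_coe
    (classFun_sub hθ (classFun_smul _ (isClassFunction_const 1))) (by simp)]
  simp

theorem frobExt_of_mem_kernel (θ : H → ℂ) {k : G} (hk : k ∈ frobeniusKernel H) :
    frobExt H θ k = θ 1 := by
  rw [frobExt, Pi.add_apply]
  rcases mem_kernel_iff.mp hk with rfl | hk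
  · rw [indFun_one]; simp
  · rw [indFun_eq_zero_of_not_conj H _ hk]; simp

theorem frobExt_gen {θ : H → ℂ} (hθ : IsGeneralizedCharacter H θ) :
    IsGeneralizedCharacter G (frobExt H θ) := by
  have := Fintype.ofFinite H
  obtain ⟨n, hn⟩ := gen_apply_one hθ
  refine gen_add (gen_of_inner_int (indFun_isClassFunction H _) fun χ hχ => ?_) ?_
  · rw [classInner_indFun_left H _ (irr_isClassFunction hχ)]
    exact gen_inner_int (gen_sub hθ (hn ▸ gen_intCast_smul n gen_one))
      (gen_restrict (gen_of_irr hχ) H)
  · exact hn ▸ gen_intCast_smul n gen_one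

theorem IsMalnormal.classInner_frobExt [Fintype H] (hH : IsMalnormal H) (θ : H → ℂ) {φ : H → ℂ}
    (hφ : IsClassFunction H φ) :
    classInner (frobExt H θ) (frobExt H φ) = classInner θ φ := by
  have h1 : (fun h : H => frobExt H φ h) = φ := funext (hH.frobExt_coe hφ)
  have h2 : classInner (fun _ : G => (1 : ℂ)) (frobExt H φ) = classInner (fun _ : H => (1 : ℂ)) φ := by
    rw [frobExt, classInner_add_right, classInner_indFun_right H _ (isClassFunction_const 1),
      classInner_sub_right, classInner_smul_right, classInner_smul_right, classInner_one_one,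
      classInner_one_one]
    ring
  conv_lhs => rw [frobExt]
  rw [classInner_add_left, classInner_indFun_left H _ (frobExt_isClassFunction φ), h1,
    classInner_sub_left, classInner_smul_left, classInner_smul_left, h2]
  ring

theorem IsMalnormal.frobExt_irr (hH : IsMalnormal H) {θ : H → ℂ} (hθ : IsIrrCharacter H θ) :
    IsIrrCharacter G (frobExt H θ) := by
  have := Fintype.ofFinite H
  refine irr_of_gen_norm_one (frobExt_gen (gen_of_irr hθ)) ?_ ?_
  · rw [hH.classInner_frobExt θ (irr_isClassFunction hθ), irr_inner_self hθ]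
  · rw [frobExt_of_mem_kernel θ (one_mem_kernel H), ← irr_cast_deg hθ]; simp

end

/-- The Frobenius kernel of a malnormal subgroup is closed under multiplication. -/
theorem IsMalnormal.mul_mem_kernel [Finite G] {H : Subgroup G} (hH : IsMalnormal H) {x y : G}
    (hx : x ∈ frobeniusKernel H) (hy : y ∈ frobeniusKernel H) : x * y ∈ frobeniusKernel H := by
  have := Fintype.ofFinite G
  have := Fintype.ofFinite H
  rw [mem_kernel_iff, or_iff_not_imp_left]
  intro h1 g hg
  have key : ∀ θ : IrrCharacter H, (θ : H → ℂ) ⟨_, hg⟩ = (θ : H → ℂ) 1 := by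
    intro θ
    have hχ := irr_isCharacter (hH.frobExt_irr θ.2)
    rw [← hH.frobExt_coe (irr_isClassFunction θ.2), frobExt_isClassFunction,
      char_apply_mul_of_eq_one hχ, frobExt_of_mem_kernel _ hy]
    rw [frobExt_of_mem_kernel _ hx, frobExt_of_mem_kernel _ (one_mem_kernel H)]
  have h2 : regChar H ⟨_, hg⟩ = regChar H 1 := by
    rw [regChar_eq_sum]
    simp only [Finset.sum_apply, Pi.smul_apply, key]
  rw [regChar_one, regChar_of_ne] at h2
  · exact natCard_cast_ne_zero H h2.symm
  · exact fun h => h1 (by simpa [mul_inv_eq_one] using congrArg Subtype.val h)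

/-- The Frobenius kernel as a subgroup. -/
def IsMalnormal.kernel [Finite G] {H : Subgroup G} (hH : IsMalnormal H) : Subgroup G where
  carrier := frobeniusKernel H
  mul_mem' := hH.mul_mem_kernel
  one_mem' := one_mem_kernel H
  inv_mem' := inv_mem_kernel

/-- **Frobenius' theorem** for a malnormal subgroup. -/
theorem IsMalnormal.exists_normal_complement [Finite G] {H : Subgroup G} (hH : IsMalnormal H) :
    ∃ N : Subgroup G, (N : Set G) = frobeniusKernel H ∧ N.Normal ∧ IsComplement' N H :=
  ⟨hH.kernel, rfl, hH.isComplement'_of_coe_eq_kernel rfl⟩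

/-- **Frobenius' theorem** together with the standard properties of kernel and complement. -/
theorem exists_kernel_of_isFrobeniusComplement [Finite G] {H : Subgroup G}
    (hH : IsFrobeniusComplement H) :
    ∃ N : Subgroup G, (N : Set G) = frobeniusKernel H ∧ N.Normal ∧ IsComplement' N H ∧ N ≠ ⊥ ∧
      ∀ h ∈ H, h ≠ 1 → N ⊓ centralizer {h} = ⊥ := by
  have hm := isMalnormal_of_isFrobeniusComplement hH
  obtain ⟨N, h1, h2, h3⟩ := hm.exists_normal_complement
  refine ⟨N, h1, h2, h3, ?_, (isMalnormal_iff_fpf h3).mp hm⟩
  rintro rfl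
  exact hH.2.1 (Subgroup.isComplement'_bot_left.mp h3)

end CL.Frob
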