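import Cfsg.Agent.Base
import Cfsg.Agent.Solv.FpfAction
import Cfsg.Agent.Solv.UniqueSubgroupP
import Cfsg.Agent.Solv.CoprimeAbelian

/-!
Structure of groups acting fixed-point-freely (Frobenius complements): `A` normalizes `K ≠ 1` and
no non-identity element of `A` centralizes a non-identity element of `K`.
-/

namespace CL.Frob

open Subgroup

variable {G : Type*} [Group G]

theorem fpf_mono {A K B L : Subgroup G} (hfpf : ∀ a ∈ A, a ≠ 1 → K ⊓ centralizer {a} = ⊥)
    (hB : B ≤ A) (hL : L ≤ K) : ∀ a ∈ B, a ≠ 1 → L ⊓ centralizer {a} = ⊥ := fun a ha ha1 =>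
  eq_bot_iff.mpr ((inf_le_inf_right _ hL).trans (hfpf a (hB ha) ha1).le)

theorem inf_centralizer_eq_bot_of_fpf {A K : Subgroup G}
    (hfpf : ∀ a ∈ A, a ≠ 1 → K ⊓ centralizer {a} = ⊥) (hA : A ≠ ⊥) :
    K ⊓ centralizer (A : Set G) = ⊥ := by
  obtain ⟨⟨a, ha⟩, ha1⟩ := (Subgroup.ne_bot_iff_exists_ne_one).mp hA
  refine eq_bot_iff.mpr (le_trans (inf_le_inf_left _ ?_) (hfpf a ha fun h => ha1 (Subtype.ext h)).le)
  exact Subgroup.centralizer_le (Set.singleton_subset_iff.mpr ha)

theorem eq_bot_of_le_centralizer_of_fpf {A K B : Subgroup G}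
    (hfpf : ∀ a ∈ A, a ≠ 1 → K ⊓ centralizer {a} = ⊥) (hK : K ≠ ⊥) (hBA : B ≤ A)
    (hB : B ≤ centralizer (K : Set G)) : B = ⊥ := by
  by_contra h
  have := inf_centralizer_eq_bot_of_fpf (fpf_mono hfpf hBA le_rfl) h
  rw [inf_eq_left.mpr (Subgroup.le_centralizer_iff.mp hB)] at this
  exact hK this

theorem isMulCommutative_inf_centralizer (P : Subgroup G) :
    IsMulCommutative (P ⊓ centralizer (P : Set G) : Subgroup G) :=
  ⟨⟨fun a b => Subtype.ext (b.2.2 a a.2.1)⟩⟩

theorem inf_centralizer_ne_bot_of_isPGroup [Finite G] {p : ℕ} [Fact p.Prime] {P : Subgroup G}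
    (hP : IsPGroup p P) (h : P ≠ ⊥) : P ⊓ centralizer (P : Set G) ≠ ⊥ := by
  have := (Subgroup.nontrivial_iff_ne_bot P).mpr h
  obtain ⟨⟨z, hz⟩, hz1⟩ := @exists_ne _ hP.center_nontrivial 1
  intro h1
  have h2 : (z : G) ∈ P ⊓ centralizer (P : Set G) :=
    ⟨z.2, fun x hx => congrArg Subtype.val (Subgroup.mem_center_iff.mp hz ⟨x, hx⟩)⟩
  rw [h1] at h2
  exact hz1 (Subtype.ext (Subtype.ext h2))

/-- Coprime action of a solvable group on `K ≠ 1` leaves invariant a nontrivial abelian
subgroup (the centre of a Sylow subgroup). -/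
theorem exists_abelian_invariant [Finite G] {A K : Subgroup G} (hAK : A ≤ normalizer (K : Set G))
    (hcop : (Nat.card A).Coprime (Nat.card K))
    (hsolv : Group.IsSolvable A ∨ Group.IsSolvable K) (hK : K ≠ ⊥) :
    ∃ V : Subgroup G, V ≤ K ∧ V ≠ ⊥ ∧ IsMulCommutative V ∧ A ≤ normalizer (V : Set G) := by
  have h1 : Nat.card K ≠ 1 := fun h => hK (Subgroup.card_eq_one.mp h)
  obtain ⟨r, hr, hrK⟩ := Nat.exists_prime_and_dvd h1
  have := Fact.mk hr
  obtain ⟨P, hPK, hP, hAP⟩ := coprime_exists_invariant_sylow hAK hcop hsolv r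
  refine ⟨P ⊓ centralizer (P : Set G), inf_le_left.trans hPK,
    inf_centralizer_ne_bot_of_isPGroup (IsPGroup.of_card hP) ?_,
    isMulCommutative_inf_centralizer P, le_normalizer_inf hAP (le_normalizer_centralizer hAP)⟩
  rintro rfl
  rw [Subgroup.card_bot, eq_comm, pow_eq_one_iff_right hr.ne_one] at hP
  exact (hr.factorization_pos_of_dvd Nat.card_pos.ne' hrK).ne' hP

theorem isSolvable_sup_of_le_normalizer {N H : Subgroup G} (hN : Group.IsSolvable N)
    (hH : Group.IsSolvable H) (hn : H ≤ normalizer (N : Set G)) :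
    Group.IsSolvable (N ⊔ H : Subgroup G) := by
  have h1 : (N.subgroupOf (N ⊔ H)).Normal :=
    Subgroup.normal_subgroupOf_of_le_normalizer (sup_le Subgroup.le_normalizer hn)
  have h2 : Group.IsSolvable (N.subgroupOf (N ⊔ H)) :=
    Group.isSolvable_of_isSolvable_injective (G' := N)
      (f := (Subgroup.subgroupOfEquivOfLe (le_sup_left : N ≤ N ⊔ H)).toMonoidHom)
      (Subgroup.subgroupOfEquivOfLe (le_sup_left : N ≤ N ⊔ H)).injective
  have h3 : Group.IsSolvable ((N ⊔ H : Subgroup G) ⧸ N.subgroupOf (N ⊔ H)) := by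
    refine Group.isSolvable_of_surjective (G := H)
      (f := (QuotientGroup.mk' _).comp (Subgroup.inclusion le_sup_right)) ?_
    intro q
    obtain ⟨⟨g, hg⟩, rfl⟩ := QuotientGroup.mk_surjective q
    have hg' := hg
    rw [sup_comm, ← SetLike.mem_coe, Subgroup.coe_mul_of_left_le_normalizer_right _ _ hn] at hg'
    obtain ⟨a, ha, b, hb, rfl⟩ := hg'
    refine ⟨⟨a, ha⟩, ?_⟩
    simp only [MonoidHom.comp_apply, QuotientGroup.mk'_apply, QuotientGroup.eq]
    simpa [Subgroup.mem_subgroupOf] using hb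
  exact (Group.isSolvable_iff_subgroup_quotient (N.subgroupOf (N ⊔ H))).mpr ⟨h2, h3⟩

theorem centralizer_zpowers_eq (x : G) : centralizer (zpowers x : Set G) = centralizer {x} := by
  rw [Subgroup.zpowers_eq_closure, Subgroup.centralizer_closure]

section

variable [Finite G] {A K : Subgroup G} (hAK : A ≤ normalizer (K : Set G))
  (hfpf : ∀ a ∈ A, a ≠ 1 → K ⊓ centralizer {a} = ⊥) (hK : K ≠ ⊥)
include hAK hfpf hK

theorem exists_abelian_of_fpf {B : Subgroup G} (hB : B ≤ A) (hsolv : Group.IsSolvable B) :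
    ∃ V : Subgroup G, V ≤ K ∧ V ≠ ⊥ ∧ IsMulCommutative V ∧ B ≤ normalizer (V : Set G) :=
  exists_abelian_invariant (hB.trans hAK) (coprime_of_fpf (hB.trans hAK) (fpf_mono hfpf hB le_rfl))
    (Or.inl hsolv) hK

/-- A group acting fixed-point-freely contains no solvable Frobenius group. -/
theorem not_frobenius_of_fpf {K₁ H₁ : Subgroup G} (hK₁ : K₁ ≤ A) (hH₁ : H₁ ≤ A)
    (hsolv : Group.IsSolvable (K₁ ⊔ H₁ : Subgroup G)) (hn : H₁ ≤ normalizer (K₁ : Set G))
    (hf : ∀ h ∈ H₁, h ≠ 1 → K₁ ⊓ centralizer {h} = ⊥) : K₁ = ⊥ ∨ H₁ = ⊥ := by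
  rw [or_iff_not_imp_right]
  intro hH1
  obtain ⟨V, hVK, hV1, hVc, hV⟩ := exists_abelian_of_fpf hAK hfpf hK (sup_le hK₁ hH₁) hsolv
  have hf' := fpf_mono hfpf le_rfl hVK
  refine eq_bot_of_le_centralizer_of_fpf hf' hV1 hK₁ ?_
  exact le_centralizer_of_frobenius hn hf (le_sup_left.trans hV) (le_sup_right.trans hV)
    (coprime_of_fpf (le_sup_left.trans hV) (fpf_mono hf' hK₁ le_rfl)).symm
    (inf_centralizer_eq_bot_of_fpf (fpf_mono hf' hH₁ le_rfl) hH1)

theorem eq_bot_of_coset_of_fpf {p : ℕ} (hp : p.Prime) {Q B : Subgroup G} {y : G} (hB : B ≤ A)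
    (hsolv : Group.IsSolvable B) (hQ : Q ≤ B) (hyB : y ∈ B) (hyQ : y ∉ Q)
    (hy : y ∈ normalizer (Q : Set G)) (hpow : ∀ x ∈ Q, (x * y) ^ p = 1) : Q = ⊥ := by
  obtain ⟨V, hVK, hV1, hVc, hV⟩ := exists_abelian_of_fpf hAK hfpf hK hB hsolv
  have hf' := fpf_mono hfpf hB hVK
  refine eq_bot_of_le_centralizer_of_fpf hf' hV1 hQ ?_
  refine le_centralizer_of_coset hp hy (hQ.trans hV) (hV hyB)
    (coprime_of_fpf (hQ.trans hV) (fpf_mono hf' hQ le_rfl)).symm hpow fun x hx => ?_
  refine hf' _ (B.mul_mem (hQ hx) hyB) fun h => hyQ ?_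
  rw [← (mul_eq_one_iff_inv_eq.mp h)]
  exact Q.inv_mem hx

/-- A group acting fixed-point-freely has no subgroup of type `(p, p)`. -/
theorem mem_zpowers_of_commute_of_fpf {p : ℕ} (hp : p.Prime) {x y : G} (hx : x ∈ A) (hy : y ∈ A)
    (hxy : Commute x y) (hxp : x ^ p = 1) (hyp : y ^ p = 1) (hx1 : x ≠ 1) : y ∈ zpowers x := by
  by_contra hyx
  have hcomm : ∀ a ∈ ({x, y} : Set G), ∀ b ∈ ({x, y} : Set G), a * b = b * a := by
    rintro a (rfl | rfl) b (rfl | rfl)
    · rfl
    · exact hxy.eq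
    · exact hxy.symm.eq
    · rfl
  have hB : IsMulCommutative (closure ({x, y} : Set G)) := isMulCommutative_closure hcomm
  have := eq_bot_of_coset_of_fpf hAK hfpf hK hp (Q := zpowers x) (B := closure {x, y}) (y := y)
    ((closure_le _).mpr (by rintro a (rfl | rfl) <;> assumption))
    (Group.isSolvable_of_comm hB.is_comm.comm)
    (zpowers_le_of_mem (subset_closure (by simp))) (subset_closure (by simp)) hyx
    (Subgroup.centralizer_le_normalizer _ (by
      intro a ha
      obtain ⟨i, rfl⟩ := mem_zpowers_iff.mp ha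
      exact (hxy.zpow_left i).eq))
    (by
      intro a ha
      obtain ⟨i, rfl⟩ := mem_zpowers_iff.mp ha
      rw [(hxy.zpow_left i).mul_pow, hyp, mul_one, ← zpow_natCast, ← zpow_mul, mul_comm, zpow_mul,
        zpow_natCast, hxp, one_zpow])
  exact hx1 (zpowers_eq_bot.mp this)

/-- The `p`-subgroups of a group acting fixed-point-freely are cyclic or generalized
quaternion. -/
theorem isCyclic_or_quaternion_of_fpf {p : ℕ} [hp : Fact p.Prime] {P : Type*} [Group P]
    (hP : IsPGroup p P) (f : P →* G) (hf : Function.Injective f) (hPA : ∀ x, f x ∈ A) :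
    IsCyclic P ∨ (p = 2 ∧ ∃ n : ℕ, 1 ≤ n ∧ Nonempty (P ≃* QuaternionGroup (2 ^ n))) := by
  have := Finite.of_injective f hf
  refine isCyclic_or_quaternion_of_commute hP fun x y hxy hx hy hx1 => ?_
  have := mem_zpowers_of_commute_of_fpf hAK hfpf hK hp.out (hPA x) (hPA y) (hxy.map f)
    (by rw [← map_pow, hx, map_one]) (by rw [← map_pow, hy, map_one])
    (fun h => hx1 (hf (by rw [h, map_one])))
  obtain ⟨i, hi⟩ := mem_zpowers_iff.mp this
  exact ⟨i, hf (by rw [← hi, map_zpow])⟩

theorem isCyclic_or_quaternion_of_le_of_fpf {p : ℕ} [hp : Fact p.Prime] {P : Subgroup G}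
    (hP : IsPGroup p P) (hPA : P ≤ A) :
    IsCyclic P ∨ (p = 2 ∧ ∃ n : ℕ, 1 ≤ n ∧ Nonempty (P ≃* QuaternionGroup (2 ^ n))) :=
  isCyclic_or_quaternion_of_fpf hAK hfpf hK hP P.subtype P.subtype_injective fun x => hPA x.2

theorem isCyclic_of_odd_of_fpf {p : ℕ} [hp : Fact p.Prime] (hp2 : p ≠ 2) {P : Subgroup G}
    (hP : IsPGroup p P) (hPA : P ≤ A) : IsCyclic P :=
  (isCyclic_or_quaternion_of_le_of_fpf hAK hfpf hK hP hPA).resolve_right fun h => hp2 h.1

theorem sylow_isCyclic_or_quaternion_of_fpf {p : ℕ} [hp : Fact p.Prime] (P : Sylow p A) :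
    IsCyclic P ∨ (p = 2 ∧ ∃ n : ℕ, 1 ≤ n ∧ Nonempty (P ≃* QuaternionGroup (2 ^ n))) :=
  isCyclic_or_quaternion_of_fpf hAK hfpf hK P.2 (A.subtype.comp (P : Subgroup A).subtype)
    (A.subtype_injective.comp (P : Subgroup A).subtype_injective) fun x => x.1.2

/-- A group of odd order acting fixed-point-freely has cyclic Sylow subgroups. -/
theorem isZGroup_of_odd_of_fpf (hodd : Odd (Nat.card A)) : IsZGroup A := by
  refine ⟨fun p hp P => ?_⟩
  have := Fact.mk hp
  rcases sylow_isCyclic_or_quaternion_of_fpf hAK hfpf hK P with h | ⟨rfl, n, -, ⟨e⟩⟩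
  · exact h
  · exfalso
    have h1 : Nat.card P ∣ Nat.card A := Subgroup.card_subgroup_dvd_card _
    rw [Nat.card_congr e.toEquiv, Nat.card_eq_fintype_card, QuaternionGroup.card] at h1
    exact (Nat.not_even_iff_odd.mpr hodd)
      (even_iff_two_dvd.mpr (Dvd.dvd.trans ⟨2 * 2 ^ n, by ring⟩ h1))

/-- An abelian group acting fixed-point-freely is cyclic. -/
theorem isCyclic_of_isMulCommutative_of_fpf [hA : IsMulCommutative A] : IsCyclic A := by
  have : IsZGroup A := by
    refine ⟨fun p hp P => ?_⟩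
    have := Fact.mk hp
    refine isCyclic_of_isMulCommutative_of_unique P.2 fun x y hx hy hx1 => ?_
    have := mem_zpowers_of_commute_of_fpf hAK hfpf hK hp x.1.2 y.1.2
      (congrArg Subtype.val (hA.is_comm.comm x.1 y.1))
      (congrArg (fun z : P => ((z : A) : G)) hx) (congrArg (fun z : P => ((z : A) : G)) hy)
      (fun h => hx1 (Subtype.ext (Subtype.ext h)))
    obtain ⟨i, hi⟩ := mem_zpowers_iff.mp this
    exact ⟨i, Subtype.ext (Subtype.ext hi)⟩
  let _ : CommGroup A := ⟨hA.is_comm.comm⟩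
  infer_instance

/-- A nilpotent group of odd order acting fixed-point-freely is cyclic. -/
theorem isCyclic_of_isNilpotent_of_odd_of_fpf [Group.IsNilpotent A] (hodd : Odd (Nat.card A)) :
    IsCyclic A :=
  have := isZGroup_of_odd_of_fpf hAK hfpf hK hodd
  inferInstance

/-- A group of order `pq` acting fixed-point-freely is cyclic. -/
theorem isCyclic_of_card_eq_mul_of_fpf {p q : ℕ} (hp : p.Prime) (hq : q.Prime)
    (hA : Nat.card A = p * q) : IsCyclic A := by
  wlog hpq : p ≤ q generalizing p q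
  · exact this hq hp (by rw [hA, mul_comm]) (le_of_not_ge hpq)
  by_contra hc
  have := Fact.mk hp
  have := Fact.mk hq
  have hsolv : Group.IsSolvable A := by
    by_cases h : p = q
    · subst h
      have := (IsPGroup.of_card (p := p) (n := 2) (by rw [hA, pow_two])).isNilpotent
      infer_instance
    · have := IsZGroup.of_squarefree (G := A) (by
        rw [hA]
        exact (Nat.squarefree_mul ((Nat.coprime_primes hp hq).mpr h)).mpr
          ⟨hp.squarefree, hq.squarefree⟩)
      infer_instance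
  obtain ⟨a, ha⟩ := exists_prime_orderOf_dvd_card' (G := A) q (hA ▸ dvd_mul_left q p)
  have hidx : (zpowers a).index = p := by
    have := (zpowers a).card_mul_index
    rw [Nat.card_zpowers, ha, hA, mul_comm p q] at this
    exact Nat.eq_of_mul_eq_mul_left hq.pos this
  have hmin : (p * q).minFac = p := by
    refine le_antisymm (Nat.minFac_le_of_dvd hp.two_le (dvd_mul_right p q)) ?_
    have h1 := Nat.minFac_prime (n := p * q) (Nat.one_lt_mul_iff.mpr ⟨hp.pos, hq.pos, Or.inl hp.one_lt⟩).ne'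
    rcases (Nat.Prime.dvd_mul h1).mp (Nat.minFac_dvd (p * q)) with h | h
    · exact ((Nat.prime_dvd_prime_iff_eq h1 hp).mp h).ge
    · exact hpq.trans ((Nat.prime_dvd_prime_iff_eq h1 hq).mp h).ge
  have hN : (zpowers a).Normal := Subgroup.normal_of_index_eq_minFac_card (by rw [hidx, hA, hmin])
  obtain ⟨y, hy⟩ : ∃ y, y ∉ zpowers a := by
    by_contra h
    push Not at h
    exact hc ⟨a, h⟩
  have hmap : (zpowers a).map A.subtype = zpowers (a : G) := MonoidHom.map_zpowers _ _
  have hmem : ∀ z : A, (z : G) ∈ zpowers (a : G) ↔ z ∈ zpowers a := fun z => by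
    rw [← hmap]; exact Subgroup.mem_map_iff_mem A.subtype_injective
  have := eq_bot_of_coset_of_fpf hAK hfpf hK hp (Q := zpowers (a : G)) (B := A) (y := y) le_rfl
    hsolv (zpowers_le_of_mem a.2) y.2 (fun h => hy ((hmem y).mp h))
    (by
      rw [← hmap]
      exact Subgroup.le_normalizer_map A.subtype ⟨y, by simp [Subgroup.normalizer_eq_top], rfl⟩)
    (by
      intro x hx
      have hxA : x ∈ A := zpowers_le_of_mem a.2 hx
      have hz : (⟨x, hxA⟩ * y : A) ∉ zpowers a := fun h =>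
        hy ((Subgroup.mul_mem_cancel_left _ ((hmem ⟨x, hxA⟩).mp hx)).mp h)
      set z : A := ⟨x, hxA⟩ * y
      suffices z ^ p = 1 from congrArg Subtype.val this
      have h1 : orderOf z ∣ p * q := hA ▸ orderOf_dvd_natCard z
      obtain ⟨d, e, hd, he, hde⟩ := exists_dvd_and_dvd_of_dvd_mul h1
      rcases (Nat.dvd_prime hq).mp he with rfl | rfl
      · rw [← orderOf_dvd_iff_pow_eq_one, hde, mul_one]; exact hd
      rcases (Nat.dvd_prime hp).mp hd with rfl | rfl
      · by_cases hpe : p = e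
        · rw [← orderOf_dvd_iff_pow_eq_one, hde, one_mul, hpe]
        · exfalso
          have h2 : z ^ p ∈ zpowers a := hidx ▸ Subgroup.pow_index_mem (zpowers a) z
          have h3 : z ∈ zpowers (z ^ p) := by
            rw [mem_zpowers_pow_iff, hde, one_mul]
            exact (Nat.coprime_primes hp hq).mpr hpe
          exact hz (zpowers_le_of_mem h2 h3)
      · exact absurd (isCyclic_of_orderOf_eq_card z (by rw [hde, hA])) hc)
  rw [zpowers_eq_bot] at this
  rw [show a = 1 from Subtype.ext this, orderOf_one] at ha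
  exact hq.one_lt.ne ha

omit hK in
/-- An involution acting fixed-point-freely inverts every element. -/
theorem conj_eq_inv_of_fpf {t : G} (ht : t ∈ A) (ht2 : orderOf t = 2) {k : G} (hk : k ∈ K) :
    t * k * t⁻¹ = k⁻¹ := by
  have ht1 : t ≠ 1 := by rintro rfl; simp at ht2
  let φ : K →* K := (K.normalizerMonoidHom ⟨t, hAK ht⟩).toMonoidHom
  have hφ : ∀ k : K, (φ k : G) = t * k * t⁻¹ := fun k => rfl
  have h1 : MonoidHom.FixedPointFree φ := fun k hk => by
    have : (k : G) ∈ K ⊓ centralizer {t} := ⟨k.2, Subgroup.mem_centralizer_singleton_iff.mpr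
      (mul_inv_eq_iff_eq_mul.mp ((hφ k).symm.trans (congrArg Subtype.val hk))).symm⟩
    rw [hfpf t ht ht1] at this
    exact Subtype.ext this
  have htt : t * t = 1 := by rw [← pow_two, ← ht2, pow_orderOf_eq_one]
  have h2 : Function.Involutive φ := fun k => Subtype.ext (by
    rw [hφ, hφ]
    calc t * (t * k * t⁻¹) * t⁻¹ = (t * t) * k * (t * t)⁻¹ := by group
      _ = k := by rw [htt]; simp)
  exact congrArg Subtype.val (congrFun (h1.coe_eq_inv_of_involutive h2) ⟨k, hk⟩)

omit hK in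
theorem isMulCommutative_of_involution_of_fpf {t : G} (ht : t ∈ A) (ht2 : orderOf t = 2) :
    IsMulCommutative K := by
  refine ⟨⟨fun a b => Subtype.ext ?_⟩⟩
  have h1 := conj_eq_inv_of_fpf hAK hfpf ht ht2 (K.mul_mem a.2 b.2)
  have h2 : t * (a * b) * t⁻¹ = (t * a * t⁻¹) * (t * b * t⁻¹) := by group
  rw [h2, conj_eq_inv_of_fpf hAK hfpf ht ht2 a.2, conj_eq_inv_of_fpf hAK hfpf ht ht2 b.2,
    ← mul_inv_rev, inv_inj] at h1
  exact h1.symm

/-- A group acting fixed-point-freely has at most one involution. -/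
theorem involution_unique_of_fpf {s t : G} (hs : s ∈ A) (hs2 : orderOf s = 2) (ht : t ∈ A)
    (ht2 : orderOf t = 2) : t = s := by
  have h : zpowers (s⁻¹ * t) = ⊥ := by
    refine eq_bot_of_le_centralizer_of_fpf hfpf hK
      (zpowers_le_of_mem (A.mul_mem (A.inv_mem hs) ht)) (zpowers_le_of_mem fun k hk => ?_)
    have h1 := (conj_eq_inv_of_fpf hAK hfpf hs hs2 hk).trans
      (conj_eq_inv_of_fpf hAK hfpf ht ht2 hk).symm
    calc k * (s⁻¹ * t) = s⁻¹ * (s * k * s⁻¹) * t := by group
      _ = s⁻¹ * (t * k * t⁻¹) * t := by rw [h1]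
      _ = _ := by group
  exact (inv_mul_eq_one.mp (zpowers_eq_bot.mp h)).symm

theorem involution_commute_of_fpf {t : G} (ht : t ∈ A) (ht2 : orderOf t = 2) {a : G} (ha : a ∈ A) :
    a * t = t * a := by
  have := involution_unique_of_fpf hAK hfpf hK ht ht2
    (A.mul_mem (A.mul_mem ha ht) (A.inv_mem ha))
    (by rw [← ht2]; exact (MulAut.conj a).orderOf_eq t)
  exact mul_inv_eq_iff_eq_mul.mp this

/-- If `x ∈ A` has prime order and normalizes a solvable subgroup `N ≤ A`, then `x` has a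
non-identity fixed point on `N` unless `N = 1`. -/
theorem inf_centralizer_ne_bot_of_fpf {x : G} (hx : x ∈ A) (hxp : (orderOf x).Prime)
    {N : Subgroup G} (hN : N ≤ A) (hN1 : N ≠ ⊥) (hsolv : Group.IsSolvable N)
    (hxN : x ∈ normalizer (N : Set G)) : N ⊓ centralizer {x} ≠ ⊥ := by
  intro h
  have hn : zpowers x ≤ normalizer (N : Set G) := zpowers_le_of_mem hxN
  have hs : Group.IsSolvable (N ⊔ zpowers x : Subgroup G) :=
    isSolvable_sup_of_le_normalizer hsolv (isSolvable_of_isMulCommutative _) hn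
  rcases not_frobenius_of_fpf hAK hfpf hK hN (zpowers_le_of_mem hx) hs hn (fun y hy hy1 => by
    refine eq_bot_iff.mpr (le_trans (inf_le_inf_left _ fun k hk => ?_) h.le)
    have := Fact.mk hxp
    have h1 : zpowers y = zpowers x := by
      refine Subgroup.eq_of_le_of_card_ge (zpowers_le_of_mem hy) ?_
      rw [Nat.card_zpowers, Nat.card_zpowers]
      rcases (Nat.dvd_prime hxp).mp (orderOf_dvd_of_mem_zpowers hy) with h2 | h2
      · exact absurd (orderOf_eq_one_iff.mp h2) hy1
      · exact h2.ge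
    obtain ⟨i, rfl⟩ := mem_zpowers_iff.mp (h1 ▸ mem_zpowers x : x ∈ zpowers y)
    rw [Subgroup.mem_centralizer_singleton_iff] at hk ⊢
    exact (Commute.zpow_right hk i).eq) with h1 | h1
  · exact hN1 h1
  · rw [zpowers_eq_bot.mp h1, orderOf_one] at hxp
    exact Nat.not_prime_one hxp

/-- An element of prime order of `A` centralizes every abelian subgroup of `A` of coprime order
that it normalizes. -/
theorem mem_centralizer_of_abelian_of_fpf {x : G} (hx : x ∈ A) (hxp : (orderOf x).Prime)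
    {N : Subgroup G} [IsMulCommutative N] (hN : N ≤ A) (hxN : x ∈ normalizer (N : Set G))
    (hcop : (orderOf x).Coprime (Nat.card N)) : x ∈ centralizer (N : Set G) := by
  have hn : zpowers x ≤ normalizer (N : Set G) := zpowers_le_of_mem hxN
  have h1 := coprime_centralizer_inf_commutator hn (by rwa [Nat.card_zpowers])
  have hD : ⁅N, zpowers x⁆ ≤ N := Subgroup.le_normalizer_iff_commutator_le_left.mp hn
  have h2 : ⁅N, zpowers x⁆ = ⊥ := by
    by_contra h
    refine inf_centralizer_ne_bot_of_fpf hAK hfpf hK hx hxp (hD.trans hN) h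
      (isSolvable_of_le hD (isSolvable_of_isMulCommutative _))
      (le_normalizer_commutator hn Subgroup.le_normalizer (mem_zpowers x)) ?_
    rw [eq_bot_iff, ← h1, centralizer_zpowers_eq]
    exact le_inf (le_inf (inf_le_left.trans hD) inf_le_right) inf_le_left
  rw [Subgroup.commutator_comm, Subgroup.commutator_eq_bot_iff_le_centralizer] at h2
  exact h2 (mem_zpowers x)

/-- A nontrivial group acting fixed-point-freely has nontrivial centre. -/
theorem center_ne_bot_of_fpf (hA : A ≠ ⊥) : center A ≠ ⊥ := by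
  rcases Nat.even_or_odd (Nat.card A) with hev | hodd
  · obtain ⟨t, ht⟩ := exists_prime_orderOf_dvd_card' (G := A) 2 (even_iff_two_dvd.mp hev)
    intro h
    have h1 : t ∈ center A := Subgroup.mem_center_iff.mpr fun a => Subtype.ext
      (involution_commute_of_fpf hAK hfpf hK t.2 (by rw [Subgroup.orderOf_coe, ht]) a.2)
    rw [h, Subgroup.mem_bot] at h1
    rw [h1, orderOf_one] at ht
    exact absurd ht (by norm_num)
  · have := isZGroup_of_odd_of_fpf hAK hfpf hK hodd
    have := (Subgroup.nontrivial_iff_ne_bot A).mpr hA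
    have hcop := IsZGroup.coprime_commutator_index A
    obtain ⟨C, hC⟩ := Subgroup.exists_right_complement'_of_coprime hcop
    have hC1 : C ≠ ⊥ := by
      rintro rfl
      exact (IsZGroup.commutator_lt A).ne (Subgroup.isComplement'_bot_right.mp hC)
    obtain ⟨x, hxC, hxp⟩ := exists_prime_orderOf_mem_of_ne_bot hC1
    have := IsZGroup.isCyclic_commutator A
    have hc : IsMulCommutative (commutator A) := IsCyclic.isMulCommutative
    have h1 : (x : G) ∈ centralizer ((commutator A).map A.subtype : Set G) := by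
      refine mem_centralizer_of_abelian_of_fpf hAK hfpf hK x.2 (by rwa [Subgroup.orderOf_coe])
        (Subgroup.map_subtype_le _)
        (Subgroup.le_normalizer_map A.subtype ⟨x, by simp [Subgroup.normalizer_eq_top], rfl⟩) ?_
      rw [Subgroup.orderOf_coe, card_map_subtype]
      refine Nat.Coprime.coprime_dvd_left ?_ hcop.symm
      rw [hC.symm.index_eq_card]
      exact Subgroup.orderOf_dvd_natCard C hxC
    intro h
    have h2 : x ∈ center A := by
      rw [Subgroup.mem_center_iff]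
      intro a
      obtain ⟨⟨⟨d, hd⟩, ⟨c, hc⟩⟩, rfl⟩ := hC.2 a
      have h3 : d * x = x * d := Subtype.ext (h1 d ⟨d, hd, rfl⟩)
      have h4 : c * x * c⁻¹ * x⁻¹ = 1 := Subgroup.disjoint_def.mp hC.disjoint
        (Subgroup.commutator_mem_commutator (mem_top c) (mem_top x))
        (C.mul_mem (C.mul_mem (C.mul_mem hc hxC) (C.inv_mem hc)) (C.inv_mem hxC))
      rw [mul_inv_eq_one, mul_inv_eq_iff_eq_mul] at h4
      simp only
      rw [mul_assoc, h4, ← mul_assoc, h3, mul_assoc]
    rw [h, Subgroup.mem_bot] at h2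
    rw [h2, orderOf_one] at hxp
    exact Nat.not_prime_one hxp

end

end CL.Frob
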