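import Cfsg.Agent.Solv.NilpMisc
import Cfsg.Agent.Solv.CoprimeAbelian
import Cfsg.Agent.Solv.ConjSub
import Cfsg.Agent.Transfer.Fusion

/-!
# Minimal non-nilpotent groups; Wielandt's theorem on nilpotent Hall subgroups
-/

namespace CL

open Subgroup Cfsg
open scoped commutatorElement Pointwise

universe u

variable {G : Type*} [Group G]

/-- A finite nilpotent group whose subgroups of prime-power order are abelian is abelian. -/
theorem isMulCommutative_of_isNilpotent_of_forall_isPGroup [Finite G] [Group.IsNilpotent G]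
    (h : ∀ (p : ℕ) (P : Subgroup G), p.Prime → IsPGroup p P → IsMulCommutative P) :
    IsMulCommutative G := by
  have h1 : (⊤ : Subgroup G) ≤ centralizer ((⊤ : Subgroup G) : Set G) := by
    refine le_of_forall_isPGroup_le fun p hp P hP _ => le_centralizer_iff.mp ?_
    refine le_of_forall_isPGroup_le fun q hq Q hQ _ => ?_
    rcases eq_or_ne q p with rfl | hne
    · have := h q _ hq.out (pCore_isPGroup q G)
      exact (le_pCore_of_isNilpotent hQ).trans ((le_centralizer _).trans
        (centralizer_le (le_pCore_of_isNilpotent hP)))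
    · exact le_centralizer_of_isNilpotent_of_coprime (IsPGroup.coprime_card_of_ne q p hne Q P hQ hP)
  exact ⟨⟨fun a b => h1 (mem_top b) a (mem_top a)⟩⟩

/-- If `G = N ⟨g⟩` with `N` normal then `G' ≤ N`. -/
theorem commutator_le_of_sup_zpowers_eq_top {N : Subgroup G} [N.Normal] {g : G}
    (h : N ⊔ zpowers g = ⊤) : commutator G ≤ N := by
  have : IsCyclic (G ⧸ N) := by
    refine isCyclic_iff_exists_zpowers_eq_top.mpr ⟨QuotientGroup.mk' N g, ?_⟩
    have := congrArg (Subgroup.map (QuotientGroup.mk' N)) h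
    rwa [Subgroup.map_sup, QuotientGroup.map_mk'_self, bot_sup_eq, MonoidHom.map_zpowers,
      map_top_of_surjective _ (QuotientGroup.mk'_surjective N)] at this
  exact Normal.quotient_commutative_iff_commutator_le.mp inferInstance

/-- If `G = Z ⟨g⟩` with `Z` central then `G` is abelian. -/
theorem isMulCommutative_of_sup_zpowers_eq_top {Z : Subgroup G} (hZ : Z ≤ center G) {g : G}
    (h : Z ⊔ zpowers g = ⊤) : IsMulCommutative G := by
  have h1 : IsMulCommutative Z := le_centralizer_iff_isMulCommutative.mp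
    (hZ.trans (center_le_centralizer _))
  have h2 : IsMulCommutative (Z ⊔ zpowers g : Subgroup G) :=
    isMulCommutative_sup (hZ.trans (center_le_centralizer _))
  rw [h] at h2
  exact ⟨⟨fun a b => congrArg Subtype.val
    (h2.is_comm.comm (⟨a, mem_top a⟩ : (⊤ : Subgroup G)) ⟨b, mem_top b⟩)⟩⟩

/-- A subgroup meeting `G'` trivially is abelian. -/
theorem isMulCommutative_of_inf_commutator_eq_bot {R : Subgroup G} (h : R ⊓ commutator G = ⊥) :
    IsMulCommutative R := by
  rw [← le_centralizer_iff_isMulCommutative, ← commutator_eq_bot_iff_le_centralizer, eq_bot_iff,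
    ← h]
  exact le_inf (commutator_le_self R) (commutator_mono le_top le_top)

/-- The index of `H` in `G = H N` divides `|N|` for `N` normal. -/
theorem index_dvd_card_of_sup_eq_top [Finite G] {H N : Subgroup G} [N.Normal] (h : H ⊔ N = ⊤) :
    H.index ∣ Nat.card N := by
  have h3 := card_sup_mul_card_inf H N
  rw [h, card_top, ← H.card_mul_index, mul_assoc] at h3
  exact Dvd.intro _ (Nat.eq_of_mul_eq_mul_left Nat.card_pos h3)

/-- The index of `N` in `G = H N` divides `|H|` for `N` normal. -/
theorem index_dvd_card_of_sup_eq_top' {H N : Subgroup G} [N.Normal] (h : H ⊔ N = ⊤) :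
    N.index ∣ Nat.card H := by
  rw [← relIndex_top_right, ← h, relIndex_sup_right]
  exact relIndex_dvd_card _ _

/-- A finite non-nilpotent group contains a `q`-subgroup `Q` and an element `g` of `p`-power order,
`p ≠ q`, normalising but not centralising `Q`. -/
theorem exists_normalizer_not_centralizer_of_not_isNilpotent [Finite G]
    (h : ¬ Group.IsNilpotent G) :
    ∃ (p q k : ℕ) (Q : Subgroup G) (g : G), p.Prime ∧ q.Prime ∧ p ≠ q ∧ IsPGroup q Q ∧
      orderOf g = p ^ k ∧ g ∈ normalizer (Q : Set G) ∧ g ∉ centralizer (Q : Set G) := by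
  have h1 := mt Transfer.isNilpotent_of_forall_hasNormalPComplement h
  push Not at h1
  obtain ⟨q, hq, -, h1⟩ := h1
  have := Fact.mk hq
  obtain ⟨Q, g, p, k, hQ, hp, hpq, hg, hgN, hgC⟩ :=
    Transfer.exists_of_not_hasNormalPComplement default h1
  exact ⟨p, q, k, Q, g, hp, hq, hpq, (default : Sylow q G).isPGroup'.to_le hQ, hg, hgN, hgC⟩

theorem isPGroup_zpowers_of_orderOf_eq {p k : ℕ} {g : G} (h : orderOf g = p ^ k) :
    IsPGroup p (zpowers g) := IsPGroup.of_card (by rw [Nat.card_zpowers, h])

/-- Structure of a minimal non-nilpotent group: `G = Q ⟨g⟩`. -/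
theorem schmidt_structure [Finite G] (hG : IsMinimalNonNilpotent G) :
    ∃ (p q k : ℕ) (Q : Subgroup G) (g : G), p.Prime ∧ q.Prime ∧ p ≠ q ∧ IsPGroup q Q ∧ Q.Normal ∧
      orderOf g = p ^ k ∧ Q ⊔ zpowers g = ⊤ ∧ g ∉ centralizer (Q : Set G) := by
  obtain ⟨p, q, k, Q, g, hp, hq, hpq, hQ, hg, hgN, hgC⟩ :=
    exists_normalizer_not_centralizer_of_not_isNilpotent hG.1
  have := Fact.mk hp
  have := Fact.mk hq
  have htop : Q ⊔ zpowers g = ⊤ := by
    by_contra hne
    have := hG.2 _ hne
    exact hgC (le_centralizer_of_le_isNilpotent_of_coprime (N := Q ⊔ zpowers g) le_sup_right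
      le_sup_left (IsPGroup.coprime_card_of_ne p q hpq _ _
        (isPGroup_zpowers_of_orderOf_eq hg) hQ) (mem_zpowers g))
  refine ⟨p, q, k, Q, g, hp, hq, hpq, hQ, ?_, hg, htop, hgC⟩
  rw [← normalizer_eq_top_iff, eq_top_iff, ← htop]
  exact sup_le le_normalizer (zpowers_le.mpr hgN)

/-- If `G = Q P` with `Q` a normal `q`-subgroup and `P` a `p`-subgroup, `p ≠ q`, then `P` and `Q`
are Sylow subgroups. -/
theorem exists_sylow_of_sup_eq_top [Finite G] {p q : ℕ} [hp : Fact p.Prime] [hq : Fact q.Prime]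
    (hpq : p ≠ q) {P Q : Subgroup G} [Q.Normal] (hP : IsPGroup p P) (hQ : IsPGroup q Q)
    (h : Q ⊔ P = ⊤) :
    ∃ (P' : Sylow p G) (Q' : Sylow q G), (P' : Subgroup G) = P ∧ (Q' : Subgroup G) = Q := by
  rw [sup_comm] at h
  refine ⟨hP.toSylow fun hd => ?_, hQ.toSylow fun hd => ?_, rfl, rfl⟩
  · exact hp.out.coprime_iff_not_dvd.mp (coprime_card_of_isPGroup_of_ne hQ hpq.symm).symm
      (hd.trans (index_dvd_card_of_sup_eq_top h))
  · exact hq.out.coprime_iff_not_dvd.mp (coprime_card_of_isPGroup_of_ne hP hpq).symm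
      (hd.trans (index_dvd_card_of_sup_eq_top' h))

theorem isSolvable_of_commutator_le {N : Subgroup G} [Group.IsSolvable N] (h : commutator G ≤ N) :
    Group.IsSolvable G := by
  have := normal_of_commutator_le h
  have : IsMulCommutative (G ⧸ N) := Normal.quotient_commutative_iff_commutator_le.mpr h
  exact (Group.isSolvable_iff_subgroup_quotient N).mpr
    ⟨inferInstance, isSolvable_of_isMulCommutative _⟩

/-- Schmidt: a finite group all of whose proper subgroups are nilpotent is solvable. -/
theorem isSolvable_of_forall_ne_top_isNilpotent [Finite G]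
    (h : ∀ H : Subgroup G, H ≠ ⊤ → Group.IsNilpotent H) : Group.IsSolvable G := by
  by_cases hG : Group.IsNilpotent G
  · infer_instance
  obtain ⟨p, q, k, Q, g, hp, hq, hpq, hQ, hQn, hg, htop, hgC⟩ := schmidt_structure ⟨hG, h⟩
  have := Fact.mk hq
  have := hQ.isNilpotent
  exact isSolvable_of_commutator_le (commutator_le_of_sup_zpowers_eq_top htop)

/-- A nontrivial finite group all of whose proper subgroups are nilpotent is `Q L` with `Q` a
normal `q`-subgroup and `L` a proper `q'`-subgroup. -/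
theorem exists_normal_pgroup_sup_coprime [Finite G] [Nontrivial G]
    (h : ∀ H : Subgroup G, H ≠ ⊤ → Group.IsNilpotent H) :
    ∃ (q : ℕ) (Q L : Subgroup G), q.Prime ∧ q ∣ Nat.card G ∧ IsPGroup q Q ∧ Q.Normal ∧
      (Nat.card L).Coprime q ∧ Q ⊔ L = ⊤ := by
  by_cases hG : Group.IsNilpotent G
  · obtain ⟨q, hq, hd⟩ := Nat.exists_prime_and_dvd (Finite.one_lt_card (α := G)).ne'
    have := Fact.mk hq
    exact ⟨q, _, _, hq, hd, pCore_isPGroup q G, inferInstance, pPrimeCore_coprime q G,
      pCore_sup_pPrimeCore_eq_top q⟩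
  obtain ⟨p, q, k, Q, g, hp, hq, hpq, hQ, hQn, hg, htop, hgC⟩ := schmidt_structure ⟨hG, h⟩
  have := Fact.mk hp
  have := Fact.mk hq
  refine ⟨q, Q, zpowers g, hq, ?_, hQ, hQn,
    coprime_card_of_isPGroup_of_ne (isPGroup_zpowers_of_orderOf_eq hg) hpq, htop⟩
  refine (hQ.card_eq_or_dvd.resolve_left fun h1 => hgC ?_).trans (card_subgroup_dvd_card Q)
  rw [card_eq_one.mp h1]
  intro x hx
  rw [mem_bot.mp hx, one_mul, mul_one]

theorem exists_conj_le_of_isNilpotent_aux (n : ℕ) :
    ∀ (G : Type u) [Group G] [Finite G] (H K : Subgroup G), Nat.card K ≤ n →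
      Group.IsNilpotent H → (Nat.card K).Coprime H.index → ∃ x : G, MulAut.conj x • K ≤ H := by
  induction n with
  | zero => intro G _ _ H K hn; exact absurd hn (Nat.not_le.mpr Nat.card_pos)
  | succ n ih =>
    intro G _ _ H K hn hH hcop
    rcases eq_or_ne K ⊥ with rfl | hK
    · exact ⟨1, by simp⟩
    have : Nontrivial K := (nontrivial_iff_ne_bot K).mpr hK
    have hprop : ∀ L : Subgroup K, L ≠ ⊤ → Group.IsNilpotent L := by
      intro L hL
      have h1 : Nat.card (L.map K.subtype) < Nat.card K := by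
        rw [card_map_subtype_eq]; exact card_lt_of_ne_top L hL
      obtain ⟨x, hx⟩ := ih G H (L.map K.subtype) (by omega) hH
        (Nat.Coprime.coprime_dvd_left (card_dvd_of_le (map_subtype_le L)) hcop)
      rw [← isNilpotent_map_subtype_iff]
      exact (Group.isNilpotent_congr (Cj.conjEquiv x _)).mpr (isNilpotent_of_le hx)
    obtain ⟨q, Q₀, L₀, hq, hqK, hQ, hQn, hL, htop⟩ := exists_normal_pgroup_sup_coprime hprop
    have := Fact.mk hq
    have hqH : ¬ q ∣ H.index := fun hd =>
      hq.ne_one (Nat.eq_one_of_dvd_coprimes hcop hqK hd)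
    obtain ⟨S, hS⟩ := Transfer.exists_sylow_le_of_not_dvd_index hqH
    obtain ⟨y, hy⟩ := Transfer.exists_conj_le_sylow S (hQ.map K.subtype)
    set Q := MulAut.conj y • Q₀.map K.subtype with hQdef
    set L := MulAut.conj y • L₀.map K.subtype with hLdef
    have hKQL : MulAut.conj y • K = Q ⊔ L := by
      rw [hQdef, hLdef, ← Cj.conj_sup, ← Subgroup.map_sup, htop, ← MonoidHom.range_eq_map,
        range_subtype]
    have hQp : IsPGroup q Q := Cj.isPGroup_conj y (hQ.map _)
    set N := normalizer (Q : Set G) with hN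
    have hLN : L ≤ N := by
      rw [hN, hQdef, ← Cj.conj_normalizer]
      exact Cj.conj_mono y ((map_subtype_le _).trans (le_normalizer_map_subtype K Q₀))
    set H₂ := (pPrimeCore q H).map H.subtype with hH₂
    have hH₂H : H₂ ≤ H := map_subtype_le _
    have hH₂N : H₂ ≤ N :=
      (le_centralizer_of_le_isNilpotent_of_coprime hH₂H (hy.trans hS)
        (coprime_card_of_isPGroup hQp (coprime_card_map_subtype_pPrimeCore q H)).symm).trans
        (centralizer_le_normalizer _)
    have hcL : Nat.card L = Nat.card L₀ := by rw [hLdef, Cj.card_conj, card_map_subtype_eq]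
    have hL₀ : L₀ ≠ ⊤ := by
      rintro rfl
      rw [card_top] at hL
      exact hq.coprime_iff_not_dvd.mp hL.symm hqK
    have hlt := card_lt_of_ne_top L₀ hL₀
    have hidx : (H₂.subgroupOf N).index ∣ (pPrimeCore q H).index * H.index := by
      rw [← index_map_subtype]
      exact relIndex_dvd_index_of_le hH₂N
    have hq' : (pPrimeCore q H).index ∣ Nat.card (pCore q H) :=
      index_dvd_card_of_sup_eq_top' (pCore_sup_pPrimeCore_eq_top q)
    obtain ⟨x, hx⟩ := ih N (H₂.subgroupOf N) (L.subgroupOf N)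
      (by rw [card_subgroupOf_eq_of_le hLN, hcL]; omega)
      (have := isNilpotent_of_le hH₂H; isNilpotent_subgroupOf H₂ N)
      (by
        rw [card_subgroupOf_eq_of_le hLN, hcL]
        refine Nat.Coprime.coprime_dvd_right hidx (Nat.Coprime.mul_right ?_ ?_)
        · exact Nat.Coprime.coprime_dvd_right hq'
            (coprime_card_of_isPGroup (pCore_isPGroup q H) hL).symm
        · exact Nat.Coprime.coprime_dvd_left (card_subgroup_dvd_card L₀) hcop)
    refine ⟨x * y, ?_⟩
    rw [← Cj.conj_conj, hKQL, Cj.conj_sup, Cj.conj_eq_of_mem_normalizer x.2]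
    refine sup_le (hy.trans hS) (le_trans ?_ hH₂H)
    rw [Transfer.conj_smul_le_iff] at hx ⊢
    exact fun l hl => hx ⟨l, hLN hl⟩ hl

/-- Wielandt: if `H` is a nilpotent subgroup of a finite group, every subgroup of order prime to the
index of `H` is conjugate to a subgroup of `H`. -/
theorem exists_conj_le_of_isNilpotent [Finite G] (H K : Subgroup G) [hH : Group.IsNilpotent H]
    (hcop : (Nat.card K).Coprime H.index) : ∃ x : G, MulAut.conj x • K ≤ H :=
  exists_conj_le_of_isNilpotent_aux _ G H K le_rfl hH hcop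

/-- Wielandt's theorem inside a subgroup `M`. -/
theorem exists_conj_le_of_isNilpotent_of_le [Finite G] {H K M : Subgroup G} [Group.IsNilpotent H]
    (hKM : K ≤ M) (hcop : (Nat.card K).Coprime (H.relIndex M)) :
    ∃ x ∈ M, MulAut.conj x • K ≤ H := by
  have := isNilpotent_subgroupOf H M
  obtain ⟨x, hx⟩ := exists_conj_le_of_isNilpotent (H.subgroupOf M) (K.subgroupOf M)
    (by rwa [card_subgroupOf_eq_of_le hKM])
  refine ⟨x, x.2, ?_⟩
  rw [Transfer.conj_smul_le_iff] at hx ⊢
  exact fun l hl => hx ⟨l, hKM hl⟩ hl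

end CL
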