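import Cfsg.Agent.Solv.Fitting

/-!
# The Frattini subgroup of a finite group
-/

namespace CL

open Subgroup Cfsg
open scoped commutatorElement

variable {G : Type*} [Group G] {H : Type*} [Group H]

/-! ### Generalities -/

theorem mem_frattini_iff {x : G} : x ∈ frattini G ↔ ∀ M : Subgroup G, IsCoatom M → x ∈ M := by
  simp [frattini, Order.radical, mem_iInf]

theorem le_frattini_iff {K : Subgroup G} :
    K ≤ frattini G ↔ ∀ M : Subgroup G, IsCoatom M → K ≤ M := by
  simp [frattini, Order.radical]

theorem eq_top_of_sup_eq_top_of_le_frattini [Finite G] {K D : Subgroup G} (hD : D ≤ frattini G)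
    (h : K ⊔ D = ⊤) : K = ⊤ :=
  frattini_nongenerating (top_le_iff.mp (h.ge.trans (sup_le_sup_left hD K)))

/-- A subgroup is inside `Φ(G)` iff it supplements no proper subgroup. -/
theorem le_frattini_iff_forall_sup [Finite G] {D : Subgroup G} :
    D ≤ frattini G ↔ ∀ K : Subgroup G, K ⊔ D = ⊤ → K = ⊤ := by
  refine ⟨fun h K => eq_top_of_sup_eq_top_of_le_frattini h, fun h => le_frattini_iff.mpr ?_⟩
  intro M hM
  by_contra hle
  exact hM.1 (h M (hM.2 _ (left_lt_sup.mpr hle)))

theorem frattini_ne_top [Finite G] [Nontrivial G] : frattini G ≠ ⊤ := fun h =>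
  bot_ne_top (frattini_nongenerating (K := (⊥ : Subgroup G)) (by rw [h, sup_top_eq]))

theorem map_frattini_le {f : G →* H} (hf : Function.Surjective f) :
    (frattini G).map f ≤ frattini H :=
  map_le_iff_le_comap.mpr (frattini_le_comap_frattini_of_surjective hf)

/-- The image of a maximal subgroup containing the kernel is maximal. -/
theorem isCoatom_map_of_ker_le {f : G →* H} (hf : Function.Surjective f) {M : Subgroup G}
    (hM : IsCoatom M) (hker : f.ker ≤ M) : IsCoatom (M.map f) := by
  constructor
  · intro h
    apply hM.1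
    rw [← comap_map_eq_self hker, h, comap_top]
  · intro L hL
    have h1 : M < L.comap f := by
      refine lt_of_le_of_ne (map_le_iff_le_comap.mp hL.le) fun h => hL.ne ?_
      rw [h, map_comap_eq_self_of_surjective hf]
    rw [← map_comap_eq_self_of_surjective hf L, hM.2 _ h1, map_top_of_surjective f hf]

theorem comap_frattini_eq {f : G →* H} (hf : Function.Surjective f)
    (hker : f.ker ≤ frattini G) : (frattini H).comap f = frattini G := by
  refine le_antisymm (le_frattini_iff.mpr fun M hM => ?_)
    (frattini_le_comap_frattini_of_surjective hf)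
  have hk : f.ker ≤ M := hker.trans (frattini_le_coatom hM)
  rw [← comap_map_eq_self hk]
  exact comap_mono (frattini_le_coatom (isCoatom_map_of_ker_le hf hM hk))

theorem map_frattini_eq {f : G →* H} (hf : Function.Surjective f)
    (hker : f.ker ≤ frattini G) : (frattini G).map f = frattini H := by
  rw [← comap_frattini_eq hf hker, map_comap_eq_self_of_surjective hf]

theorem map_equiv_frattini (e : G ≃* H) : (frattini G).map (e : G →* H) = frattini H :=
  map_frattini_eq e.surjective (by rw [(MonoidHom.ker_eq_bot_iff _).mpr e.injective]; exact bot_le)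

theorem frattini_quotient_frattini (G : Type*) [Group G] : frattini (G ⧸ frattini G) = ⊥ := by
  rw [← map_frattini_eq (QuotientGroup.mk'_surjective (frattini G))
    (QuotientGroup.ker_mk' _).le, QuotientGroup.map_mk'_self]

/-- Dedekind's modular law, for `D` normal: `C = (K ∩ C) D` when `D ≤ C ≤ K D`. -/
theorem inf_sup_eq_of_normal {K D C : Subgroup G} [D.Normal] (hDC : D ≤ C) (hC : C ≤ K ⊔ D) :
    (K ⊓ C) ⊔ D = C := by
  refine le_antisymm (sup_le inf_le_right hDC) fun x hx => ?_
  obtain ⟨k, hk, d, hd, rfl⟩ := mem_sup_of_normal_right.mp (hC hx)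
  exact mul_mem_sup ⟨hk, by simpa using C.mul_mem hx (C.inv_mem (hDC hd))⟩ hd

/-- A normal subgroup of `G` contained in `Φ(K)` for a subgroup `K` lies in `Φ(G)`. -/
theorem le_frattini_of_normal_of_le_map_frattini [Finite G] {D K : Subgroup G} [D.Normal]
    (h : D ≤ (frattini K).map K.subtype) : D ≤ frattini G := by
  rw [le_frattini_iff_forall_sup]
  intro M hM
  have hDK : D ≤ K := h.trans (map_subtype_le _)
  have h1 : (M ⊓ K) ⊔ D = K := inf_sup_eq_of_normal hDK (hM ▸ le_top)
  have h2 : (M ⊓ K).subgroupOf K ⊔ D.subgroupOf K = ⊤ := by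
    rw [← subgroupOf_sup inf_le_right hDK, h1, subgroupOf_self]
  have h3 : D.subgroupOf K ≤ frattini K := by
    rw [← comap_map_eq_self_of_injective K.subtype_injective (frattini K)]
    exact comap_mono h
  have h4 := subgroupOf_eq_top.mp (eq_top_of_sup_eq_top_of_le_frattini h3 h2)
  rw [← hM, left_eq_sup]
  exact hDK.trans (h4.trans inf_le_left)

/-- `Φ(N) ≤ Φ(G)` for `N` normal. -/
theorem map_subtype_frattini_le [Finite G] (N : Subgroup G) [N.Normal] :
    (frattini N).map N.subtype ≤ frattini G :=
  le_frattini_of_normal_of_le_map_frattini le_rfl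

theorem normalizer_le_normalizer_frattini (K : Subgroup G) :
    normalizer (K : Set G) ≤ normalizer (((frattini K).map K.subtype : Subgroup G) : Set G) :=
  normalizer_le_normalizer_map_subtype K _

theorem map_subtype_frattini_lt [Finite G] {K : Subgroup G} (hK : K ≠ ⊥) :
    (frattini K).map K.subtype < K := by
  have : Nontrivial K := (nontrivial_iff_ne_bot K).mpr hK
  refine lt_of_le_of_ne (map_subtype_le _) fun h => frattini_ne_top (G := K) ?_
  apply map_injective K.subtype_injective
  rw [h, ← MonoidHom.range_eq_map, range_subtype]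

/-- Non-generation inside a subgroup `K` of `G`. -/
theorem eq_of_sup_map_frattini_eq [Finite G] {K L : Subgroup G}
    (h : L ⊔ (frattini K).map K.subtype = K) : L = K := by
  have hLK : L ≤ K := h ▸ le_sup_left
  have h2 : L.subgroupOf K ⊔ frattini K = ⊤ := by
    apply map_injective K.subtype_injective
    rw [Subgroup.map_sup, map_subgroupOf_eq_of_le hLK, h, ← MonoidHom.range_eq_map, range_subtype]
  exact le_antisymm hLK (subgroupOf_eq_top.mp (frattini_nongenerating h2))

theorem isCyclic_of_isCyclic_quotient_frattini [Finite G] [h : IsCyclic (G ⧸ frattini G)] :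
    IsCyclic G := by
  obtain ⟨g, hg⟩ := h.exists_zpow_surjective
  obtain ⟨x, rfl⟩ := QuotientGroup.mk_surjective g
  have : zpowers x ⊔ frattini G = ⊤ := by
    rw [eq_top_iff]
    intro y _
    obtain ⟨n, hn⟩ := hg (y : G ⧸ frattini G)
    have h1 : ((x ^ n : G) : G ⧸ frattini G) = y := by rw [← hn]; rfl
    have h2 : y = x ^ n * ((x ^ n)⁻¹ * y) := by group
    rw [h2]
    exact mul_mem_sup (zpow_mem_zpowers x n) (QuotientGroup.eq.mp h1)
  exact (isCyclic_iff_exists_zpowers_eq_top).mpr ⟨x, frattini_nongenerating this⟩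

/-! ### Cores and the Fitting subgroup modulo the Frattini subgroup -/

/-- If `ker f ≤ Φ(G)`, the preimage of `O_p(H)` is `O_p(G) ker f`. -/
theorem comap_pCore_le_sup_ker [Finite G] {p : ℕ} [hp : Fact p.Prime] (f : G →* H)
    (hker : f.ker ≤ frattini G) : (pCore p H).comap f ≤ pCore p G ⊔ f.ker := by
  set M := (pCore p H).comap f with hM
  obtain ⟨P⟩ : Nonempty (Sylow p M) := inferInstance
  have hkM : f.ker ≤ M := ker_le_comap f _
  -- `M = P (ker f)`
  have h1 : M ≤ P.1.map M.subtype ⊔ f.ker := by
    have h2 : P.1 ⊔ f.ker.subgroupOf M = ⊤ := by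
      rw [← index_eq_one]
      have h3 : (P.1 ⊔ f.ker.subgroupOf M).index ∣ P.1.index := index_dvd_of_le le_sup_left
      have h4 : (P.1 ⊔ f.ker.subgroupOf M).index ∣ f.ker.relIndex M := index_dvd_of_le le_sup_right
      rw [relIndex_ker] at h4
      have : Finite (M.map f) := Finite.of_surjective _ (f.subgroupMap_surjective M)
      obtain ⟨k, hk⟩ := IsPGroup.iff_card.mp ((pCore_isPGroup p H).to_le (map_comap_le f _))
      rw [← hM] at hk
      rw [hk] at h4
      exact Nat.eq_one_of_dvd_coprimes
        (Nat.Coprime.pow_right k ((Nat.coprime_comm.mp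
          (hp.out.coprime_iff_not_dvd.mpr P.not_dvd_index)))) h3 h4
    have := congrArg (Subgroup.map M.subtype) h2
    rw [Subgroup.map_sup, map_subgroupOf_eq_of_le hkM, ← MonoidHom.range_eq_map,
      range_subtype] at this
    exact this.ge
  have h5 := Sylow.normalizer_sup_eq_top P
  have h6 : normalizer ((P.1.map M.subtype : Subgroup G) : Set G) ⊔ f.ker = ⊤ :=
    top_le_iff.mp (h5.ge.trans (sup_le le_sup_left
      (h1.trans (sup_le_sup_right le_normalizer _))))
  have h7 : (P.1.map M.subtype).Normal :=
    normalizer_eq_top_iff.mp (eq_top_of_sup_eq_top_of_le_frattini hker h6)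
  exact h1.trans (sup_le_sup_right (le_pCore (P.isPGroup'.map _)) _)

theorem map_pCore_eq_of_ker_le_frattini [Finite G] {p : ℕ} [Fact p.Prime] {f : G →* H}
    (hf : Function.Surjective f) (hker : f.ker ≤ frattini G) : (pCore p G).map f = pCore p H := by
  refine le_antisymm (map_pCore_le hf) ?_
  rw [← map_comap_eq_self_of_surjective hf (pCore p H)]
  refine (map_mono (comap_pCore_le_sup_ker f hker)).trans ?_
  rw [Subgroup.map_sup, (Subgroup.map_eq_bot_iff (f := f) f.ker).mpr le_rfl, sup_bot_eq]

theorem map_fitting_eq_of_ker_le_frattini [Finite G] {f : G →* H}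
    (hf : Function.Surjective f) (hker : f.ker ≤ frattini G) :
    (fittingSubgroup G).map f = fittingSubgroup H := by
  have : Finite H := Finite.of_surjective f hf
  rw [fitting_eq_iSup_pCore, fitting_eq_iSup_pCore, Subgroup.map_iSup]
  refine iSup_congr fun p => ?_
  have : Fact (p : ℕ).Prime := ⟨p.2⟩
  exact map_pCore_eq_of_ker_le_frattini hf hker

theorem comap_fitting_eq_of_ker_le_frattini [Finite G] {f : G →* H}
    (hf : Function.Surjective f) (hker : f.ker ≤ frattini G) :
    (fittingSubgroup H).comap f = fittingSubgroup G := by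
  rw [← map_fitting_eq_of_ker_le_frattini hf hker,
    comap_map_eq_self (hker.trans frattini_le_fitting)]

/-- `F(G / Φ(G)) = F(G) / Φ(G)`. -/
theorem fitting_quotient_frattini (G : Type*) [Group G] [Finite G] :
    fittingSubgroup (G ⧸ frattini G) =
      (fittingSubgroup G).map (QuotientGroup.mk' (frattini G)) :=
  (map_fitting_eq_of_ker_le_frattini (QuotientGroup.mk'_surjective _)
    (QuotientGroup.ker_mk' _).le).symm

/-- A normal subgroup whose image modulo a subgroup of `Φ(G)` is nilpotent is nilpotent. -/
theorem isNilpotent_of_map_of_ker_le_frattini [Finite G] {f : G →* H}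
    (hf : Function.Surjective f) (hker : f.ker ≤ frattini G) (N : Subgroup G) [hN : N.Normal]
    (h : Group.IsNilpotent (N.map f)) : Group.IsNilpotent N := by
  have := hN.map f hf
  refine isNilpotent_of_le_fitting ?_
  rw [← comap_fitting_eq_of_ker_le_frattini hf hker, ← map_le_iff_le_comap]
  exact le_fitting h

theorem isNilpotent_of_surjective_of_ker_le_frattini [Finite G] {f : G →* H}
    (hf : Function.Surjective f) (hker : f.ker ≤ frattini G) [h : Group.IsNilpotent H] :
    Group.IsNilpotent G :=
  Group.isNilpotent_top.mp (isNilpotent_of_map_of_ker_le_frattini hf hker ⊤ inferInstance)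

theorem isNilpotent_of_quotient_of_le_frattini [Finite G] (D : Subgroup G) [D.Normal]
    (hD : D ≤ frattini G) [Group.IsNilpotent (G ⧸ D)] : Group.IsNilpotent G :=
  isNilpotent_of_surjective_of_ker_le_frattini (QuotientGroup.mk'_surjective D)
    ((QuotientGroup.ker_mk' D).le.trans hD)

theorem isNilpotent_of_quotient_frattini [Finite G] (h : Group.IsNilpotent (G ⧸ frattini G)) :
    Group.IsNilpotent G := isNilpotent_of_quotient_of_le_frattini (frattini G) le_rfl

/-- A normal Hall subgroup inside the Frattini subgroup is trivial. -/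
theorem eq_bot_of_le_frattini_of_coprime [Finite G] {N : Subgroup G} [N.Normal]
    (hN : N ≤ frattini G) (h : (Nat.card N).Coprime N.index) : N = ⊥ := by
  obtain ⟨K, hK⟩ := exists_right_complement'_of_coprime h
  have h1 : K = ⊤ := eq_top_of_sup_eq_top_of_le_frattini hN (by rw [sup_comm, hK.sup_eq_top])
  simpa [h1] using hK.disjoint

/-- Every prime divisor of `|G|` divides `[G : Φ(G)]`. -/
theorem dvd_index_frattini [Finite G] {p : ℕ} (hp : p.Prime) (hdvd : p ∣ Nat.card G) :
    p ∣ (frattini G).index := by
  have : Fact p.Prime := ⟨hp⟩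
  by_contra h
  obtain ⟨P⟩ : Nonempty (Sylow p G) := inferInstance
  have hP : (P : Subgroup G) ≤ frattini G := by
    have h1 : (frattini G).relIndex P ∣ (frattini G).index := relIndex_dvd_index_of_normal _ _
    have h2 : (frattini G).relIndex P ∣ Nat.card P := relIndex_dvd_card _ _
    exact relIndex_eq_one.mp (Nat.eq_one_of_dvd_coprimes (coprime_card_of_isPGroup P.isPGroup'
      (hp.coprime_iff_not_dvd.mpr h).symm) h2 h1)
  have hn : (P : Subgroup G).Normal := by
    rw [← le_antisymm (pCore_le_sylow P)
      (le_pCore_of_le_fitting P.isPGroup' (hP.trans frattini_le_fitting))]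
    infer_instance
  exact P.ne_bot_of_dvd_card hdvd (eq_bot_of_le_frattini_of_coprime hP P.card_coprime_index)

/-- If `G / D` is a `p`-group for a normal `D ≤ Φ(G)`, then so is `G`. -/
theorem isPGroup_of_quotient_of_le_frattini [Finite G] {p : ℕ} [hp : Fact p.Prime]
    (D : Subgroup G) [D.Normal] (hD : D ≤ frattini G) (h : IsPGroup p (G ⧸ D)) : IsPGroup p G := by
  rw [← isPiNumber_singleton_iff_isPGroup] at h ⊢
  exact fun q hq hd => h q hq ((dvd_index_frattini hq hd).trans (index_dvd_of_le hD))

/-! ### Maximal subgroups -/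

/-- A normal maximal subgroup has prime index. -/
theorem index_prime_of_isCoatom_of_normal [Finite G] {M : Subgroup G} (hM : IsCoatom M)
    [M.Normal] : M.index.Prime := by
  obtain ⟨p, hp, hd⟩ := Nat.exists_prime_and_dvd (mt index_eq_one.mp hM.1)
  have : Fact p.Prime := ⟨hp⟩
  obtain ⟨a, ha⟩ := exists_prime_orderOf_dvd_card' (G := G ⧸ M) p hd
  have h1 : M ≤ (zpowers a).comap (QuotientGroup.mk' M) := by
    simpa using ker_le_comap (QuotientGroup.mk' M) (zpowers a)
  have h2 : (zpowers a).comap (QuotientGroup.mk' M) ≠ M := by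
    intro h
    have := congrArg (Subgroup.map (QuotientGroup.mk' M)) h
    rw [map_comap_eq_self_of_surjective (QuotientGroup.mk'_surjective M),
      QuotientGroup.map_mk'_self, zpowers_eq_bot] at this
    rw [this, orderOf_one] at ha
    exact hp.ne_one ha.symm
  have h3 := hM.2 _ (lt_of_le_of_ne h1 h2.symm)
  have h4 : zpowers a = ⊤ := by
    rw [← map_comap_eq_self_of_surjective (QuotientGroup.mk'_surjective M) (zpowers a), h3,
      map_top_of_surjective _ (QuotientGroup.mk'_surjective M)]
  rw [index_eq_card, ← card_top, ← h4, Nat.card_zpowers, ha]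
  exact hp

/-- A subgroup of prime index is maximal. -/
theorem isCoatom_of_index_prime {M : Subgroup G} (h : M.index.Prime) : IsCoatom M := by
  refine ⟨fun h' => h.ne_one (index_eq_one.mpr h'), fun L hL => ?_⟩
  rcases (Nat.dvd_prime h).mp (index_dvd_of_le hL.le) with h1 | h1
  · exact index_eq_one.mp h1
  · have h2 := relIndex_mul_index hL.le
    rw [h1, mul_eq_right₀ h.ne_zero, relIndex_eq_one] at h2
    exact absurd h2 hL.not_ge

/-- A normal subgroup of prime index contains the derived subgroup. -/
theorem commutator_le_of_index_prime {M : Subgroup G} [M.Normal] (h : M.index.Prime) :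
    commutator G ≤ M := by
  have : Fact M.index.Prime := ⟨h⟩
  have : IsCyclic (G ⧸ M) := isCyclic_of_prime_card (p := M.index) rfl
  exact Subgroup.Normal.quotient_commutative_iff_commutator_le.mp inferInstance

theorem commutator_le_of_isCoatom_of_normal [Finite G] {M : Subgroup G} (hM : IsCoatom M)
    [M.Normal] : commutator G ≤ M :=
  commutator_le_of_index_prime (index_prime_of_isCoatom_of_normal hM)

theorem normal_of_commutator_le {K : Subgroup G} (h : commutator G ≤ K) : K.Normal :=
  ⟨fun n hn g => by
    have : ⁅g, n⁆ ∈ K := h (commutator_mem_commutator (mem_top g) (mem_top n))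
    simpa [commutatorElement_def] using K.mul_mem this hn⟩

theorem index_prime_of_isCoatom_of_isNilpotent [Finite G] [h : Group.IsNilpotent G]
    {M : Subgroup G} (hM : IsCoatom M) : M.index.Prime :=
  have := isNilpotent_iff_coatom_normal.mp h M hM
  index_prime_of_isCoatom_of_normal hM

/-- In a finite `p`-group maximal subgroups have index `p`. -/
theorem index_eq_of_isCoatom_of_isPGroup [Finite G] {p : ℕ} [hp : Fact p.Prime]
    (hG : IsPGroup p G) {M : Subgroup G} (hM : IsCoatom M) : M.index = p := by
  have := hG.isNilpotent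
  have h := index_prime_of_isCoatom_of_isNilpotent hM
  obtain ⟨n, hn⟩ := hG.index M
  exact (Nat.prime_dvd_prime_iff_eq h hp.out).mp (h.dvd_of_dvd_pow (dvd_of_eq hn))

/-- A finite group is nilpotent iff `G' ≤ Φ(G)`. -/
theorem isNilpotent_iff_commutator_le_frattini [Finite G] :
    Group.IsNilpotent G ↔ commutator G ≤ frattini G := by
  rw [isNilpotent_iff_coatom_normal, le_frattini_iff]
  exact ⟨fun h M hM => have := h M hM; commutator_le_of_isCoatom_of_normal hM,
    fun h M hM => normal_of_commutator_le (h M hM)⟩

theorem commutator_le_frattini [Finite G] [h : Group.IsNilpotent G] : commutator G ≤ frattini G :=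
  isNilpotent_iff_commutator_le_frattini.mp h

/-- `N' ≤ Φ(G)` for a nilpotent normal subgroup `N`. -/
theorem commutator_le_frattini_of_normal [Finite G] (N : Subgroup G) [N.Normal]
    [Group.IsNilpotent N] : ⁅N, N⁆ ≤ frattini G := by
  rw [← N.map_subtype_commutator]
  exact (map_mono commutator_le_frattini).trans (map_subtype_frattini_le N)

/-- If `Φ(G) = 1` then `F(G)` is abelian. -/
theorem isMulCommutative_fitting_of_frattini_eq_bot [Finite G] (h : frattini G = ⊥) :
    IsMulCommutative (fittingSubgroup G) := by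
  have h1 := commutator_le_frattini_of_normal (fittingSubgroup G)
  rw [h, le_bot_iff, commutator_eq_bot_iff_le_centralizer] at h1
  exact le_centralizer_iff_isMulCommutative.mp h1

/-- A non-normal maximal subgroup contains the centre. -/
theorem center_le_of_isCoatom_of_not_normal {M : Subgroup G} (hM : IsCoatom M) (h : ¬ M.Normal) :
    center G ≤ M := by
  by_contra hle
  apply h
  rw [← normalizer_eq_top_iff, eq_top_iff, ← hM.2 _ (left_lt_sup.mpr hle)]
  exact sup_le le_normalizer (center_le_normalizer _)

/-- `G' ∩ Z(G) ≤ Φ(G)`. -/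
theorem commutator_inf_center_le_frattini [Finite G] : commutator G ⊓ center G ≤ frattini G := by
  rw [le_frattini_iff]
  intro M hM
  by_cases h : M.Normal
  · exact inf_le_left.trans (commutator_le_of_isCoatom_of_normal hM)
  · exact inf_le_right.trans (center_le_of_isCoatom_of_not_normal hM h)

/-- If `K A = G` with `A` an abelian normal subgroup, then `K ∩ A` is normal. -/
theorem normal_inf_of_sup_eq_top {K A : Subgroup G} [A.Normal] [IsMulCommutative A]
    (h : K ⊔ A = ⊤) : (K ⊓ A).Normal := by
  rw [← normalizer_eq_top_iff, eq_top_iff, ← h]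
  refine sup_le ((le_inf le_normalizer le_normalizer_of_normal).trans
    inf_normalizer_le_normalizer_inf) ?_
  exact ((le_centralizer A).trans (centralizer_le inf_le_right)).trans
    (centralizer_le_normalizer _)

theorem isComplement'_of_inf_eq_bot_of_sup_eq_top {N K : Subgroup G} [N.Normal] (h1 : N ⊓ K = ⊥)
    (h2 : N ⊔ K = ⊤) : IsComplement' N K :=
  isComplement'_of_disjoint_and_mul_eq_univ (disjoint_iff.mpr h1)
    (by rw [← normal_mul, h2, coe_top])

/-- A maximal subgroup not containing an abelian minimal normal subgroup complements it. -/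
theorem IsMinNormal.isComplement'_of_isCoatom {N M : Subgroup G} (hN : IsMinNormal N)
    [IsMulCommutative N] (hM : IsCoatom M) (h : ¬ N ≤ M) : IsComplement' N M := by
  have := hN.normal
  have h1 : M ⊔ N = ⊤ := hM.2 _ (left_lt_sup.mpr h)
  refine isComplement'_of_inf_eq_bot_of_sup_eq_top ?_ (by rwa [sup_comm])
  rw [inf_comm]
  refine (hN.eq_bot_or_eq _ (normal_inf_of_sup_eq_top h1) inf_le_right).resolve_right fun h' => ?_
  exact h (inf_eq_right.mp h')

/-- An abelian minimal normal subgroup is complemented iff it is not inside `Φ(G)`. -/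
theorem IsMinNormal.exists_isComplement'_iff [Finite G] {N : Subgroup G} (hN : IsMinNormal N)
    [IsMulCommutative N] : (∃ K : Subgroup G, IsComplement' N K) ↔ ¬ N ≤ frattini G := by
  constructor
  · rintro ⟨K, hK⟩ h
    have h1 : K = ⊤ := eq_top_of_sup_eq_top_of_le_frattini h (by rw [sup_comm, hK.sup_eq_top])
    exact hN.ne_bot (by simpa [h1] using hK.disjoint)
  · intro h
    rw [le_frattini_iff] at h
    push Not at h
    obtain ⟨M, hM, h⟩ := h
    exact ⟨M, hN.isComplement'_of_isCoatom hM h⟩

/-- A complement to an abelian minimal normal subgroup is a maximal subgroup. -/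
theorem IsMinNormal.isCoatom_of_isComplement' {N K : Subgroup G} (hN : IsMinNormal N)
    [IsMulCommutative N] (hK : IsComplement' N K) : IsCoatom K := by
  have := hN.normal
  refine ⟨fun h => hN.ne_bot (by simpa [h] using hK.disjoint), fun L hL => ?_⟩
  have h1 : L ⊔ N = ⊤ := top_le_iff.mp (hK.sup_eq_top.ge.trans (sup_le le_sup_right
    (hL.le.trans le_sup_left)))
  rcases hN.eq_bot_or_eq _ (normal_inf_of_sup_eq_top h1) inf_le_right with h | h
  · exfalso
    refine hL.not_ge fun x hx => ?_
    obtain ⟨⟨n, k⟩, rfl⟩ := hK.2 x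
    have hn : (n : G) ∈ L ⊓ N := ⟨by simpa using L.mul_mem hx (L.inv_mem (hL.le k.2)), n.2⟩
    rw [h, mem_bot] at hn
    simp [hn]
  · rw [← h1, left_eq_sup]
    exact inf_eq_right.mp h

end CL
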