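import Cfsg.Agent.Base

/-!
Fixed-point-free automorphisms of finite groups: invariant Sylow subgroups, subgroups, quotients.
-/

namespace CL.FPF

open Subgroup MonoidHom Pointwise

variable {G : Type*} [Group G]

theorem inv_mul_injective {φ : G →* G} (hφ : FixedPointFree φ) :
    Function.Injective fun x => (φ x)⁻¹ * x := by
  intro x y h
  have h1 : φ (y * x⁻¹) = y * x⁻¹ := by
    simp only at h
    rw [map_mul, map_inv]
    calc φ y * (φ x)⁻¹ = φ y * ((φ x)⁻¹ * x) * x⁻¹ := by group
      _ = φ y * ((φ y)⁻¹ * y) * x⁻¹ := by rw [h]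
      _ = _ := by group
  exact (mul_inv_eq_one.mp (hφ _ h1)).symm

theorem exists_inv_mul_eq [Finite G] {φ : G →* G} (hφ : FixedPointFree φ) (g : G) :
    ∃ x, (φ x)⁻¹ * x = g :=
  Finite.surjective_of_injective (inv_mul_injective hφ) g

/-- The restriction of an endomorphism to an invariant subgroup. -/
def res (φ : G →* G) (N : Subgroup G) (hN : ∀ n ∈ N, φ n ∈ N) : N →* N :=
  (φ.comp N.subtype).codRestrict N fun n => hN n n.2

theorem coe_res (φ : G →* G) (N : Subgroup G) (hN : ∀ n ∈ N, φ n ∈ N) (n : N) :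
    (res φ N hN n : G) = φ n := rfl

theorem fixedPointFree_res {φ : G →* G} (hφ : FixedPointFree φ) (N : Subgroup G)
    (hN : ∀ n ∈ N, φ n ∈ N) : FixedPointFree (res φ N hN) := fun n hn =>
  Subtype.ext (hφ n (congrArg Subtype.val hn))

theorem exists_mem_inv_mul_eq {φ : G →* G} (hφ : FixedPointFree φ) {N : Subgroup G} [Finite N]
    (hN : ∀ n ∈ N, φ n ∈ N) {g : G} (hg : g ∈ N) : ∃ x ∈ N, (φ x)⁻¹ * x = g := by
  obtain ⟨x, hx⟩ := exists_inv_mul_eq (fixedPointFree_res hφ N hN) ⟨g, hg⟩
  exact ⟨x, x.2, congrArg Subtype.val hx⟩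

/-- A coset of a finite invariant subgroup fixed by a fixed-point-free endomorphism is trivial. -/
theorem mem_of_inv_mul_mem {φ : G →* G} (hφ : FixedPointFree φ) {N : Subgroup G} [Finite N]
    (hN : ∀ n ∈ N, φ n ∈ N) {x : G} (hx : (φ x)⁻¹ * x ∈ N) : x ∈ N := by
  obtain ⟨n, hn, h⟩ := exists_mem_inv_mul_eq hφ hN hx
  exact inv_mul_injective hφ h ▸ hn

theorem fixedPointFree_quotient {φ : G →* G} (hφ : FixedPointFree φ) (N : Subgroup G) [N.Normal]
    [Finite N] (hN : N ≤ N.comap φ) : FixedPointFree (QuotientGroup.map N N φ hN) := by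
  intro q hq
  obtain ⟨x, rfl⟩ := QuotientGroup.mk_surjective q
  rw [QuotientGroup.map_mk, QuotientGroup.eq] at hq
  exact (QuotientGroup.eq_one_iff x).mpr (mem_of_inv_mul_mem hφ (N := N) (fun n hn => hN hn) hq)

/-- If a fixed-point-free endomorphism maps `P` onto a conjugate of `P`, then it leaves some
conjugate of `P` invariant. -/
theorem exists_conj_invariant [Finite G] {φ : G →* G} (hφ : FixedPointFree φ) {P : Subgroup G}
    {g : G} (h : P.map φ = MulAut.conj g • P) :
    ∃ x : G, (MulAut.conj x • P).map φ = MulAut.conj x • P := by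
  obtain ⟨x, rfl⟩ := exists_inv_mul_eq hφ g
  refine ⟨x, ?_⟩
  have h1 : (MulAut.conj x • P).map φ = MulAut.conj (φ x) • P.map φ := by
    change (P.map (MulAut.conj x).toMonoidHom).map φ =
      (P.map φ).map (MulAut.conj (φ x)).toMonoidHom
    rw [Subgroup.map_map, Subgroup.map_map]
    congr 1
    ext y
    simp
  rw [h1, h, ← mul_smul, ← map_mul, mul_inv_cancel_left]

/-- A fixed-point-free automorphism of a finite group leaves some Sylow `p`-subgroup
invariant. -/
theorem exists_invariant_sylow [Finite G] {φ : G →* G} (hφ : FixedPointFree φ)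
    (hs : Function.Surjective φ) (p : ℕ) [Fact p.Prime] :
    ∃ P : Sylow p G, (P : Subgroup G).map φ = P := by
  obtain ⟨P⟩ : Nonempty (Sylow p G) := inferInstance
  obtain ⟨g, hg⟩ := MulAction.exists_smul_eq G P (P.mapSurjective hs)
  obtain ⟨x, hx⟩ := exists_conj_invariant hφ (P := P) (g := g)
    (congrArg (fun Q : Sylow p G => (Q : Subgroup G)) hg).symm
  exact ⟨x • P, hx⟩

end CL.FPF
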