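import Cfsg.Agent.Base
import Cfsg.Agent.Solv.FPF
import Cfsg.Agent.Solv.FpfComplement
import Cfsg.Agent.Solv.Core
import Cfsg.Agent.Solv.CoprimeGen

/-!
Fixed-point-free automorphisms of prime order: the solvable case.
-/

namespace CL.FPF

open Subgroup MonoidHom Pointwise Cfsg

universe u

variable {G : Type u} [Group G]

theorem bijective_of_iterate {φ : G →* G} {p : ℕ} (hp : 0 < p) (h : ∀ g, φ^[p] g = g) :
    Function.Bijective φ := by
  obtain ⟨n, rfl⟩ := Nat.exists_eq_add_of_le' hp
  exact Function.bijective_iff_has_inverse.mpr ⟨φ^[n], fun g => h g, fun g => by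
    rw [← Function.iterate_succ_apply' φ n g]; exact h g⟩

theorem iterate_res {φ : G →* G} {N : Subgroup G} (hN : ∀ n ∈ N, φ n ∈ N) (k : ℕ) (n : N) :
    (((res φ N hN)^[k] n : N) : G) = φ^[k] n := by
  induction k with
  | zero => rfl
  | succ k ih => rw [Function.iterate_succ_apply', Function.iterate_succ_apply', coe_res, ih]

theorem iterate_quotient {φ : G →* G} {N : Subgroup G} [N.Normal] (hN : N ≤ N.comap φ) (k : ℕ)
    (g : G) : (QuotientGroup.map N N φ hN)^[k] (g : G ⧸ N) = (φ^[k] g : G) := by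
  induction k with
  | zero => rfl
  | succ k ih =>
    rw [Function.iterate_succ_apply', Function.iterate_succ_apply', ih, QuotientGroup.map_mk]

/-- An automorphism is induced by conjugation in a larger group. -/
theorem exists_ambient [Finite G] (e : MulAut G) :
    ∃ (Γ : Type u) (_ : Group Γ) (_ : Finite Γ) (ι : G →* Γ) (x : Γ), Function.Injective ι ∧
      orderOf x = orderOf e ∧ ∀ g, x * ι g * x⁻¹ = ι (e g) := by
  refine ⟨G ⋊[(zpowers e).subtype] (zpowers e), inferInstance,
    Finite.of_equiv _ SemidirectProduct.equivProd.symm, SemidirectProduct.inl,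
    SemidirectProduct.inr ⟨e, mem_zpowers e⟩, SemidirectProduct.inl_injective, ?_, fun g => ?_⟩
  · rw [orderOf_injective _ SemidirectProduct.inr_injective, Subgroup.orderOf_mk]
  · rw [← map_inv, ← SemidirectProduct.inl_aut]; rfl

theorem mem_normalizer_map_of_invariant [Finite G] {Γ : Type*} [Group Γ] {ι : G →* Γ} {x : Γ}
    {φ : G → G} (hx : ∀ g, x * ι g * x⁻¹ = ι (φ g)) {N : Subgroup G} (hN : ∀ n ∈ N, φ n ∈ N) :
    x ∈ normalizer (N.map ι : Set Γ) := by
  have : Finite (N.map ι : Set Γ) := (Set.toFinite (N : Set G)).image ι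
  refine Subgroup.mem_normalizer_fintype ?_
  rintro _ ⟨n, hn, rfl⟩
  exact ⟨φ n, hN n hn, (hx n).symm⟩

/-- If `x` has prime order and `C_K(x) = 1` then `⟨x⟩` acts fixed-point-freely on `K`. -/
theorem fpf_zpowers_of_prime {x : G} (hx : (orderOf x).Prime) {K : Subgroup G}
    (h : K ⊓ centralizer {x} = ⊥) : ∀ y ∈ zpowers x, y ≠ 1 → K ⊓ centralizer {y} = ⊥ := by
  intro y hy hy1
  refine eq_bot_iff.mpr (le_trans (inf_le_inf_left _ fun k hk => ?_) h.le)
  have hfin : Finite (zpowers x) := (finite_zpowers.mpr (orderOf_pos_iff.mp hx.pos)).to_subtype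
  have h1 : zpowers y = zpowers x := by
    refine Subgroup.eq_of_le_of_card_ge (zpowers_le_of_mem hy) ?_
    rw [Nat.card_zpowers, Nat.card_zpowers]
    rcases (Nat.dvd_prime hx).mp (orderOf_dvd_of_mem_zpowers hy) with h2 | h2
    · exact absurd (orderOf_eq_one_iff.mp h2) hy1
    · exact h2.ge
  obtain ⟨i, rfl⟩ := mem_zpowers_iff.mp (h1 ▸ mem_zpowers x : x ∈ zpowers y)
  rw [Subgroup.mem_centralizer_singleton_iff] at hk ⊢
  exact (Commute.zpow_right hk i).eq

/-- With a fixed-point-free automorphism of prime order, an invariant subgroup `Q` normalizing an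
invariant abelian subgroup `V` of coprime order centralizes `V`. -/
theorem le_centralizer_of_prime [Finite G] {φ : G →* G} (hφ : FixedPointFree φ) {p : ℕ}
    (hp : p.Prime) (h : ∀ g, φ^[p] g = g) {Q V : Subgroup G} [IsMulCommutative V]
    (hQ : ∀ x ∈ Q, φ x ∈ Q) (hV : ∀ x ∈ V, φ x ∈ V) (hQV : Q ≤ normalizer (V : Set G))
    (hcop : (Nat.card V).Coprime (Nat.card Q)) : Q ≤ centralizer (V : Set G) := by
  let e : MulAut G := MulEquiv.ofBijective φ (bijective_of_iterate hp.pos h)
  have he : ∀ g, e g = φ g := fun g => rfl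
  by_cases he1 : e = 1
  · intro q _ v _
    rw [hφ q (by rw [← he, he1]; rfl)]; simp
  have hep : e ^ p = 1 := by
    ext g
    rw [MulAut.one_apply]
    have : ∀ k : ℕ, (e ^ k) g = φ^[k] g := fun k => by
      induction k with
      | zero => rfl
      | succ k ih => rw [pow_succ', MulAut.mul_apply, ih, Function.iterate_succ_apply', he]
    rw [this, h]
  have := Fact.mk hp
  obtain ⟨Γ, _, _, ι, x, hι, hxo, hx⟩ := exists_ambient e
  rw [orderOf_eq_prime hep he1] at hxo
  have hfix : ∀ N : Subgroup G, N.map ι ⊓ centralizer {x} = ⊥ := fun N => by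
    rw [Subgroup.eq_bot_iff_forall]
    rintro _ ⟨⟨g, -, rfl⟩, hg⟩
    have h1 := Subgroup.mem_centralizer_singleton_iff.mp hg
    have h2 : ι (e g) = ι g := by rw [← hx, ← h1, mul_inv_cancel_right]
    rw [hφ g (hι h2), map_one]
  have key := Frob.le_centralizer_of_frobenius (K := Q.map ι) (H := zpowers x) (V := V.map ι)
    (zpowers_le_of_mem (mem_normalizer_map_of_invariant hx hQ))
    (fpf_zpowers_of_prime (hxo ▸ hp) (hfix Q))
    ((Subgroup.map_mono hQV).trans (Subgroup.le_normalizer_map ι))
    (zpowers_le_of_mem (mem_normalizer_map_of_invariant hx hV))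
    (by rwa [Subgroup.card_map_of_injective hι, Subgroup.card_map_of_injective hι])
    (by rw [Frob.centralizer_zpowers_eq, hfix])
  intro q hq v hv
  apply hι
  rw [map_mul, map_mul]
  exact key ⟨q, hq, rfl⟩ _ ⟨v, hv, rfl⟩

theorem map_mem_of_characteristic {φ : G →* G} (hφ : Function.Bijective φ) (N : Subgroup G)
    [hN : N.Characteristic] : ∀ n ∈ N, φ n ∈ N := fun _ hn =>
  (Subgroup.characteristic_iff_le_comap.mp hN (MulEquiv.ofBijective φ hφ)) hn

theorem map_eq_of_invariant [Finite G] {φ : G →* G} (hφ : Function.Injective φ) {N : Subgroup G}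
    (hN : ∀ n ∈ N, φ n ∈ N) : N.map φ = N :=
  Subgroup.eq_of_le_of_card_ge (Subgroup.map_le_iff_le_comap.mpr hN)
    (Subgroup.card_map_of_injective hφ).ge

theorem invariant_of_map_eq {φ : G →* G} {N : Subgroup G} (hN : N.map φ = N) :
    ∀ n ∈ N, φ n ∈ N := fun _ hn => hN.le (Subgroup.mem_map_of_mem φ hn)

theorem invariant_normalizer {φ : G →* G} {N : Subgroup G} (hN : N.map φ = N) :
    ∀ n ∈ normalizer (N : Set G), φ n ∈ normalizer (N : Set G) := fun n hn => by
  have := Subgroup.le_normalizer_map φ (Subgroup.mem_map_of_mem φ hn)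
  rwa [hN] at this

theorem invariant_centralizer {φ : G →* G} {N : Subgroup G} (hN : N.map φ = N) :
    ∀ n ∈ centralizer (N : Set G), φ n ∈ centralizer (N : Set G) := fun n hn x hx => by
  rw [← hN] at hx
  obtain ⟨y, hy, rfl⟩ := hx
  rw [← map_mul, ← map_mul, hn y hy]

/-- A nontrivial finite group with a nontrivial normal `r`-subgroup and a fixed-point-free
automorphism of prime order has nontrivial centre. -/
theorem center_ne_bot_of_pCore_ne_bot [Finite G] {φ : G →* G} (hφ : FixedPointFree φ) {p : ℕ}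
    (hp : p.Prime) (h : ∀ g, φ^[p] g = g) {r : ℕ} [hr : Fact r.Prime] (hO : pCore r G ≠ ⊥) :
    center G ≠ ⊥ := by
  have hb := bijective_of_iterate hp.pos h
  have := pCore_characteristic r G
  set V := pCore r G ⊓ centralizer (pCore r G : Set G) with hV
  have hVc : IsMulCommutative V := Frob.isMulCommutative_inf_centralizer _
  have hV1 : V ≠ ⊥ := Frob.inf_centralizer_ne_bot_of_isPGroup (pCore_isPGroup r G) hO
  have hVp : IsPGroup r V := (pCore_isPGroup r G).to_inf_left
  have hVi : ∀ x ∈ V, φ x ∈ V := map_mem_of_characteristic hb V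
  obtain ⟨R⟩ : Nonempty (Sylow r G) := inferInstance
  have hVR : V ≤ R := inf_le_left.trans (pCore_le_sylow R)
  have := R.2.isNilpotent
  have h1 := inf_center_ne_bot_of_isNilpotent (V.subgroupOf R) (by
    rwa [Ne, Subgroup.subgroupOf_eq_bot, disjoint_iff, inf_eq_left.mpr hVR])
  obtain ⟨⟨z, hzV, hzc⟩, hz1⟩ := (Subgroup.ne_bot_iff_exists_ne_one).mp h1
  have h2 : centralizer {(z : G)} = ⊤ := by
    refine eq_of_le_of_forall_sylow_le le_top fun q hq => ?_
    have := Fact.mk hq
    rw [Subgroup.card_top]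
    by_cases hqr : q = r
    · subst hqr
      refine ⟨R, fun x hx => ?_, R.card_eq_multiplicity⟩
      exact Subgroup.mem_centralizer_singleton_iff.mpr
        (congrArg Subtype.val (Subgroup.mem_center_iff.mp hzc ⟨x, hx⟩))
    · obtain ⟨Q, hQ⟩ := exists_invariant_sylow hφ hb.2 q
      refine ⟨Q, ?_, Q.card_eq_multiplicity⟩
      have hcop : (Nat.card V).Coprime (Nat.card (Q : Subgroup G)) :=
        IsPGroup.coprime_card_of_ne r q (Ne.symm hqr) V (Q : Subgroup G) hVp Q.isPGroup'
      refine (le_centralizer_of_prime hφ hp h (Q := (Q : Subgroup G)) (V := V)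
        (invariant_of_map_eq hQ) hVi
        (by rw [Subgroup.normalizer_eq_top]; exact le_top) hcop).trans ?_
      exact Subgroup.centralizer_le (Set.singleton_subset_iff.mpr hzV)
  intro hc
  have h3 : (z : G) ∈ center G := Subgroup.mem_center_iff.mpr fun g =>
    Subgroup.mem_centralizer_singleton_iff.mp (h2 ▸ mem_top g)
  rw [hc] at h3
  exact hz1 (Subtype.ext (Subtype.ext h3))

/-- A finite solvable group with a fixed-point-free automorphism of prime order is nilpotent. -/
theorem isNilpotent_of_isSolvable {p : ℕ} (hp : p.Prime) (n : ℕ) :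
    ∀ (G : Type u) [Group G] [Finite G] [Group.IsSolvable G] (φ : G →* G), Nat.card G = n →
      FixedPointFree φ → (∀ g, φ^[p] g = g) → Group.IsNilpotent G := by
  induction n using Nat.strong_induction_on with
  | _ n ih =>
    intro G _ _ _ φ hn hφ h
    rcases subsingleton_or_nontrivial G with hs | hnt
    · infer_instance
    obtain ⟨r, N, hr, hN, hNe⟩ := exists_normal_elementary G
    have := Fact.mk hr
    have := hN.normal
    have hZ := center_ne_bot_of_pCore_ne_bot hφ hp h (r := r) fun h1 =>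
      hN.ne_bot (eq_bot_iff.mpr (h1 ▸ le_pCore (isPGroup_of_isElementaryAbelian hNe)))
    have hZi : center G ≤ (center G).comap φ :=
      map_mem_of_characteristic (bijective_of_iterate hp.pos h) _
    refine Group.of_quotient_center_nilpotent (ih _ (hn ▸ card_quotient_lt _ hZ) _ _ rfl
      (fixedPointFree_quotient hφ _ hZi) fun g => ?_)
    obtain ⟨g, rfl⟩ := QuotientGroup.mk_surjective g
    rw [iterate_quotient, h]

end CL.FPF
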