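import Cfsg.Agent.Base
import Cfsg.Agent.Solv.FPFSolv
import Cfsg.Agent.Solv.FrobeniusThm
import Cfsg.Agent.Transfer.Fusion
import Cfsg.Agent.PLocal.Thompson
import Cfsg.Agent.S0108

/-!
Thompson's theorem: a finite group with a fixed-point-free automorphism of prime order is
nilpotent; Frobenius kernels are nilpotent.
-/

namespace CL.FPF

open Subgroup MonoidHom Pointwise Cfsg CL.Transfer

universe u

variable {G : Type u} [Group G]

theorem isNilpotent_aux {p : ℕ} (hp : p.Prime) (n : ℕ) :
    ∀ (G : Type u) [Group G] [Finite G] (φ : G →* G), Nat.card G = n →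
      FixedPointFree φ → (∀ g, φ^[p] g = g) → Group.IsNilpotent G := by
  induction n using Nat.strong_induction_on with
  | _ n ih =>
    intro G _ _ φ hn hφ h
    have hb := bijective_of_iterate hp.pos h
    have hsub : ∀ H : Subgroup G, H ≠ ⊤ → (∀ x ∈ H, φ x ∈ H) → Group.IsNilpotent H :=
      fun H hH hi => ih _ (hn ▸ card_lt_of_ne_top H hH) H (res φ H hi) rfl
        (fixedPointFree_res hφ H hi) fun g => Subtype.ext (by rw [iterate_res, h])
    suffices Group.IsSolvable G from isNilpotent_of_isSolvable hp _ G φ rfl hφ h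
    by_cases hN : ∃ N : Subgroup G, N.Normal ∧ N ≠ ⊥ ∧ N ≠ ⊤ ∧ ∀ x ∈ N, φ x ∈ N
    · obtain ⟨N, hNn, hN1, hN2, hNi⟩ := hN
      have h1 := hsub N hN2 hNi
      have hNi' : N ≤ N.comap φ := hNi
      have h2 : Group.IsNilpotent (G ⧸ N) := ih _ (hn ▸ card_quotient_lt _ hN1) _ _ rfl
        (fixedPointFree_quotient hφ _ hNi') fun g => by
          obtain ⟨g, rfl⟩ := QuotientGroup.mk_surjective g
          rw [iterate_quotient, h]
      exact (Group.isSolvable_iff_subgroup_quotient N).mpr ⟨inferInstance, inferInstance⟩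
    push Not at hN
    have hpg : ∀ (q : ℕ) [Fact q.Prime], IsPGroup q G → Group.IsSolvable G := fun q _ hq => by
      have := hq.isNilpotent
      infer_instance
    by_cases h2 : IsPGroup 2 G
    · exact hpg 2 h2
    obtain ⟨q, hq, hqG, hq2⟩ : ∃ q : ℕ, q.Prime ∧ q ∣ Nat.card G ∧ q ≠ 2 := by
      by_contra h3
      push Not at h3
      exact h2 (IsPGroup.of_card (Nat.eq_prime_pow_of_unique_prime_dvd Nat.card_pos.ne'
        fun hd hdG => h3 _ hd hdG))
    have := Fact.mk hq
    by_contra hsolv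
    have hqg : ¬ IsPGroup q G := fun h => hsolv (hpg q h)
    obtain ⟨P, hP⟩ := exists_invariant_sylow hφ hb.2 q
    have hP1 : (P : Subgroup G) ≠ ⊥ := P.ne_bot_of_dvd_card hqG
    -- a nontrivial invariant subgroup of `P` has proper normalizer
    have hprop : ∀ J : Subgroup G, J ≤ P → J ≠ ⊥ → J.map φ = J → normalizer (J : Set G) ≠ ⊤ := by
      intro J hJ hJ1 hJi hJn
      have hJ2 : J ≠ ⊤ := by
        rintro rfl
        exact hqg ((P.2.to_le hJ).of_equiv Subgroup.topEquiv)
      obtain ⟨x, hx, hx'⟩ := hN J (Subgroup.normalizer_eq_top_iff.mp hJn) hJ1 hJ2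
      exact hx' (invariant_of_map_eq hJi x hx)
    have hJ : (thompsonSubgroupOf q (P : Subgroup G)).map φ = thompsonSubgroupOf q P := by
      rw [← Thompson.thompsonOf_map_of_injective hb.1, hP]
    have hZ : ((P : Subgroup G) ⊓ centralizer (P : Set G)).map φ =
        (P : Subgroup G) ⊓ centralizer (P : Set G) :=
      map_eq_of_invariant hb.1 fun x hx =>
        ⟨invariant_of_map_eq hP x hx.1, invariant_centralizer hP x hx.2⟩
    have h3 := hsub _ (hprop _ (Thompson.thompsonOf_le _)
      (Thompson.thompsonOf_ne_bot_of_isPGroup P.2 hP1) hJ) (invariant_normalizer hJ)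
    have h4 := hsub (centralizer (((P : Subgroup G) ⊓ centralizer (P : Set G) : Subgroup G) : Set G))
      (fun h5 => hprop _ inf_le_left (Frob.inf_centralizer_ne_bot_of_isPGroup P.2 hP1) hZ
        (eq_top_iff.mpr (h5.ge.trans (Subgroup.centralizer_le_normalizer _))))
      (invariant_centralizer hZ)
    have h5 : HasNormalPComplement q G := (Cfsg.Agent.S0108.result hq2 P).mpr
      ⟨hasNormalPComplement_of_isNilpotent, hasNormalPComplement_of_isNilpotent⟩
    rw [hasNormalPComplement_iff_not_dvd] at h5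
    obtain ⟨x, hx, hx'⟩ := hN (pResidual q G) inferInstance
      (fun h6 => hqg (pResidual_eq_bot_iff.mp h6))
      (fun h6 => h5 (by rwa [h6, Subgroup.card_top]))
    exact hx' (map_mem_of_characteristic hb _ x hx)

/-- **Thompson's theorem**, endomorphism form. -/
theorem isNilpotent_of_iterate [Finite G] {φ : G →* G} (hφ : FixedPointFree φ) {p : ℕ}
    (hp : p.Prime) (h : ∀ g, φ^[p] g = g) : Group.IsNilpotent G :=
  isNilpotent_aux hp _ G φ rfl hφ h

/-- **Thompson's theorem**, automorphism form. -/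
theorem isNilpotent_of_pow_eq_one [Finite G] {φ : MulAut G} (hφ : ∀ g, φ g = g → g = 1) {p : ℕ}
    (hp : p.Prime) (h : φ ^ p = 1) : Group.IsNilpotent G := by
  refine isNilpotent_of_iterate (φ := (φ : G →* G)) hφ hp fun g => ?_
  have : ∀ k : ℕ, (φ : G →* G)^[k] g = (φ ^ k) g := fun k => by
    induction k with
    | zero => rfl
    | succ k ih => rw [pow_succ', MulAut.mul_apply, Function.iterate_succ_apply', ih]; rfl
  rw [this, h, MulAut.one_apply]

/-- **Thompson's theorem**, ambient form: `x` normalizes `K`, `x ^ p` centralizes `K` and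
`C_K(x) = 1`. -/
theorem isNilpotent_of_inf_centralizer_eq_bot {K : Subgroup G} [Finite K] {x : G}
    (hx : x ∈ normalizer (K : Set G)) {p : ℕ} (hp : p.Prime)
    (hxp : x ^ p ∈ centralizer (K : Set G)) (h : K ⊓ centralizer {x} = ⊥) :
    Group.IsNilpotent K := by
  refine isNilpotent_of_pow_eq_one (φ := K.normalizerMonoidHom ⟨x, hx⟩) (fun k hk => ?_) hp ?_
  · have : (k : G) ∈ K ⊓ centralizer {x} := ⟨k.2, Subgroup.mem_centralizer_singleton_iff.mpr
      (mul_inv_eq_iff_eq_mul.mp (congrArg Subtype.val hk)).symm⟩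
    rw [h] at this
    exact Subtype.ext this
  · rw [← map_pow, ← MonoidHom.mem_ker, Subgroup.normalizerMonoidHom_ker]
    exact hxp

/-- A finite group on which a nontrivial finite group acts fixed-point-freely is nilpotent. -/
theorem isNilpotent_of_fpf {A K : Subgroup G} [Finite A] [Finite K]
    (hAK : A ≤ normalizer (K : Set G)) (hfpf : ∀ a ∈ A, a ≠ 1 → K ⊓ centralizer {a} = ⊥)
    (hA : A ≠ ⊥) : Group.IsNilpotent K := by
  obtain ⟨x, hx, hxp⟩ := exists_prime_orderOf_mem_of_ne_bot hA
  refine isNilpotent_of_inf_centralizer_eq_bot (hAK hx) hxp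
    (by rw [pow_orderOf_eq_one]; exact one_mem _) (hfpf x hx ?_)
  rintro rfl
  rw [orderOf_one] at hxp
  exact Nat.not_prime_one hxp

/-- The Frobenius kernel is a nilpotent normal complement. -/
theorem exists_nilpotent_kernel [Finite G] {H : Subgroup G} (hH : IsFrobeniusComplement H) :
    ∃ N : Subgroup G, (N : Set G) = frobeniusKernel H ∧ N.Normal ∧ IsComplement' N H ∧
      Group.IsNilpotent N := by
  obtain ⟨N, h1, h2, h3, -, h5⟩ := Frob.exists_kernel_of_isFrobeniusComplement hH
  exact ⟨N, h1, h2, h3,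
    isNilpotent_of_fpf (by rw [Subgroup.normalizer_eq_top]; exact le_top) h5 hH.1⟩

end CL.FPF
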