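import Cfsg.Agent.Base
import Cfsg.Agent.Solv.Subnormal

/-!
Factorised groups: `CL.IsProd S A B` says that the subgroup `S` is the product set `A B`.
Simultaneous conjugacy, counting, normalisers, Kegel's lemma.
-/

set_option autoImplicit false

open scoped Pointwise

namespace CL

open Cj

variable {G : Type*} [Group G]

/-- `S = A B` as sets. -/
def IsProd (S A B : Subgroup G) : Prop :=
  A ≤ S ∧ B ≤ S ∧ ∀ g ∈ S, ∃ a ∈ A, ∃ b ∈ B, g = a * b

theorem isProd_top_iff {A B : Subgroup G} :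
    IsProd ⊤ A B ↔ ∀ g : G, ∃ a ∈ A, ∃ b ∈ B, g = a * b :=
  ⟨fun h g => h.2.2 g trivial, fun h => ⟨le_top, le_top, fun g _ => h g⟩⟩

theorem isProd_iff_coe {S A B : Subgroup G} :
    IsProd S A B ↔ (S : Set G) = (A : Set G) * (B : Set G) := by
  constructor
  · rintro ⟨h1, h2, h3⟩
    refine Set.Subset.antisymm (fun g hg => ?_) (Subgroup.mul_subset h1 h2)
    obtain ⟨a, ha, b, hb, rfl⟩ := h3 g hg
    exact Set.mul_mem_mul ha hb
  · intro h
    refine ⟨fun a ha => ?_, fun b hb => ?_, fun g hg => ?_⟩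
    · have : a * 1 ∈ (S : Set G) := h ▸ Set.mul_mem_mul ha B.one_mem
      simpa using this
    · have : 1 * b ∈ (S : Set G) := h ▸ Set.mul_mem_mul A.one_mem hb
      simpa using this
    · have : g ∈ (A : Set G) * (B : Set G) := h ▸ hg
      obtain ⟨a, ha, b, hb, rfl⟩ := this
      exact ⟨a, ha, b, hb, rfl⟩

theorem card_inf_mul_relIndex_left (A B : Subgroup G) :
    Nat.card (A ⊓ B : Subgroup G) * B.relIndex A = Nat.card A := by
  rw [← Subgroup.relIndex_bot_left, ← Subgroup.relIndex_bot_left, ← Subgroup.inf_relIndex_left A B,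
    Subgroup.relIndex_mul_relIndex _ _ _ bot_le inf_le_left]

theorem card_mul_relIndex_eq {B S : Subgroup G} (h : B ≤ S) :
    Nat.card B * B.relIndex S = Nat.card S := by
  rw [← Subgroup.relIndex_bot_left, ← Subgroup.relIndex_bot_left,
    Subgroup.relIndex_mul_relIndex _ _ _ bot_le h]

namespace IsProd

variable {S A B T : Subgroup G}

theorem left_le (h : IsProd S A B) : A ≤ S := h.1

theorem right_le (h : IsProd S A B) : B ≤ S := h.2.1

theorem exists_mul (h : IsProd S A B) {g : G} (hg : g ∈ S) : ∃ a ∈ A, ∃ b ∈ B, g = a * b :=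
  h.2.2 g hg

protected theorem symm (h : IsProd S A B) : IsProd S B A := by
  refine ⟨h.2.1, h.1, fun g hg => ?_⟩
  obtain ⟨a, ha, b, hb, he⟩ := h.exists_mul (S.inv_mem hg)
  exact ⟨b⁻¹, B.inv_mem hb, a⁻¹, A.inv_mem ha, by rw [← mul_inv_rev, ← he, inv_inv]⟩

theorem eq_sup (h : IsProd S A B) : S = A ⊔ B := by
  refine le_antisymm (fun g hg => ?_) (sup_le h.1 h.2.1)
  obtain ⟨a, ha, b, hb, rfl⟩ := h.exists_mul hg
  exact Subgroup.mul_mem_sup ha hb

theorem le_of_le (h : IsProd S A B) (hA : A ≤ T) (hB : B ≤ T) : S ≤ T :=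
  h.eq_sup.le.trans (sup_le hA hB)

theorem to_sup (h : IsProd S A B) : IsProd (A ⊔ B) A B := h.eq_sup ▸ h

theorem of_le_normalizer (h : A ≤ Subgroup.normalizer (B : Set G)) : IsProd (A ⊔ B) A B :=
  isProd_iff_coe.2 (Subgroup.coe_mul_of_left_le_normalizer_right A B h)

theorem of_le_normalizer' (h : B ≤ Subgroup.normalizer (A : Set G)) : IsProd (A ⊔ B) A B :=
  isProd_iff_coe.2 (Subgroup.coe_mul_of_right_le_normalizer_left A B h)

theorem of_normal_right (A B : Subgroup G) [B.Normal] : IsProd (A ⊔ B) A B :=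
  of_le_normalizer Subgroup.le_normalizer_of_normal

theorem of_normal_left (A B : Subgroup G) [A.Normal] : IsProd (A ⊔ B) A B :=
  of_le_normalizer' Subgroup.le_normalizer_of_normal

theorem of_le_left (h : B ≤ A) : IsProd A A B :=
  ⟨le_rfl, h, fun g hg => ⟨g, hg, 1, B.one_mem, (mul_one g).symm⟩⟩

theorem of_le_right (h : A ≤ B) : IsProd B A B := (of_le_left h).symm

protected theorem map {G' : Type*} [Group G'] (h : IsProd S A B) (f : G →* G') :
    IsProd (S.map f) (A.map f) (B.map f) := by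
  refine ⟨Subgroup.map_mono h.1, Subgroup.map_mono h.2.1, ?_⟩
  rintro _ ⟨g, hg, rfl⟩
  obtain ⟨a, ha, b, hb, rfl⟩ := h.exists_mul hg
  exact ⟨f a, ⟨a, ha, rfl⟩, f b, ⟨b, hb, rfl⟩, map_mul f a b⟩

theorem map_top {G' : Type*} [Group G'] (h : IsProd ⊤ A B) (f : G →* G')
    (hf : Function.Surjective f) : IsProd ⊤ (A.map f) (B.map f) := by
  have := h.map f
  rwa [Subgroup.map_top_of_surjective f hf] at this

theorem subgroupOf (h : IsProd S A B) : IsProd ⊤ (A.subgroupOf S) (B.subgroupOf S) := by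
  rw [isProd_top_iff]
  rintro ⟨g, hg⟩
  obtain ⟨a, ha, b, hb, rfl⟩ := h.exists_mul hg
  exact ⟨⟨a, h.1 ha⟩, ha, ⟨b, h.2.1 hb⟩, hb, rfl⟩

protected theorem conj (h : IsProd S A B) (g : G) :
    IsProd (MulAut.conj g • S) (MulAut.conj g • A) (MulAut.conj g • B) := h.map _

theorem mono {A' B' : Subgroup G} (h : IsProd S A B) (hA : A ≤ A') (hA' : A' ≤ S) (hB : B ≤ B')
    (hB' : B' ≤ S) : IsProd S A' B' := by
  refine ⟨hA', hB', fun g hg => ?_⟩
  obtain ⟨a, ha, b, hb, rfl⟩ := h.exists_mul hg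
  exact ⟨a, hA ha, b, hB hb, rfl⟩

/-- Dedekind's law. -/
theorem dedekind (h : IsProd S A B) (hA : A ≤ T) : IsProd (S ⊓ T) A (B ⊓ T) := by
  refine ⟨le_inf h.1 hA, inf_le_inf_right T h.2.1, fun g hg => ?_⟩
  obtain ⟨a, ha, b, hb, rfl⟩ := h.exists_mul hg.1
  exact ⟨a, ha, b, ⟨hb, (T.mul_mem_cancel_left (hA ha)).1 hg.2⟩, rfl⟩

theorem dedekind_of_le (h : IsProd S A B) (hA : A ≤ T) (hT : T ≤ S) : IsProd T A (B ⊓ T) := by
  have := h.dedekind hA
  rwa [inf_eq_right.2 hT] at this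

/-- Two cosets `x A` and `y B` meet. -/
theorem exists_mul_eq_mul (h : IsProd S A B) {x y : G} (hx : x ∈ S) (hy : y ∈ S) :
    ∃ a ∈ A, ∃ b ∈ B, x * a = y * b := by
  obtain ⟨a, ha, b, hb, he⟩ := h.exists_mul (S.mul_mem (S.inv_mem hx) hy)
  refine ⟨a, ha, b⁻¹, B.inv_mem hb, ?_⟩
  calc x * a = x * (a * b) * b⁻¹ := by group
    _ = y * b⁻¹ := by rw [← he]; group

/-- Simultaneous conjugacy: if `A` normalises `A₀` and `B` normalises `B₀`, any pair of
conjugates of `A₀` and `B₀` under `S = AB` is conjugate to the pair `(A₀, B₀)`. -/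
theorem exists_conj_eq (h : IsProd S A B) {A₀ B₀ : Subgroup G}
    (hA : A ≤ Subgroup.normalizer (A₀ : Set G)) (hB : B ≤ Subgroup.normalizer (B₀ : Set G))
    {x y : G} (hx : x ∈ S) (hy : y ∈ S) :
    ∃ z ∈ S, MulAut.conj x • A₀ = MulAut.conj z • A₀ ∧ MulAut.conj y • B₀ = MulAut.conj z • B₀ := by
  obtain ⟨a, ha, b, hb, he⟩ := h.exists_mul_eq_mul hx hy
  refine ⟨x * a, S.mul_mem hx (h.1 ha), ?_, ?_⟩
  · rw [← conj_conj, conj_eq_of_mem_normalizer (hA ha)]
  · rw [he, ← conj_conj, conj_eq_of_mem_normalizer (hB hb)]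

theorem conj_conj (h : IsProd S A B) {x y : G} (hx : x ∈ S) (hy : y ∈ S) :
    IsProd S (MulAut.conj x • A) (MulAut.conj y • B) := by
  obtain ⟨z, hz, h1, h2⟩ := h.exists_conj_eq Subgroup.le_normalizer Subgroup.le_normalizer hx hy
  have := h.conj z
  rwa [conj_eq_of_mem hz, ← h1, ← h2] at this

theorem conj_right (h : IsProd S A B) {y : G} (hy : y ∈ S) : IsProd S A (MulAut.conj y • B) := by
  have := h.conj_conj S.one_mem hy
  rwa [conj_one] at this

theorem conj_left (h : IsProd S A B) {x : G} (hx : x ∈ S) : IsProd S (MulAut.conj x • A) B :=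
  (h.symm.conj_right hx).symm

theorem relIndex_eq (h : IsProd S A B) : B.relIndex A = B.relIndex S := by
  refine Nat.card_congr (Equiv.ofBijective (Subgroup.quotientSubgroupOfEmbeddingOfLE B h.1)
    ⟨(Subgroup.quotientSubgroupOfEmbeddingOfLE B h.1).injective, ?_⟩)
  intro q
  obtain ⟨⟨g, hg⟩, rfl⟩ := QuotientGroup.mk_surjective q
  obtain ⟨a, ha, b, hb, rfl⟩ := h.exists_mul hg
  refine ⟨QuotientGroup.mk ⟨a, ha⟩, ?_⟩
  rw [Subgroup.quotientSubgroupOfEmbeddingOfLE_apply_mk, QuotientGroup.eq,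
    Subgroup.mem_subgroupOf]
  simpa using hb

theorem of_relIndex_le [Finite G] (hA : A ≤ S) (hB : B ≤ S) (h : B.relIndex S ≤ B.relIndex A) :
    IsProd S A B := by
  refine ⟨hA, hB, fun g hg => ?_⟩
  have hsurj : Function.Surjective (Subgroup.quotientSubgroupOfEmbeddingOfLE B hA) :=
    ((Subgroup.quotientSubgroupOfEmbeddingOfLE B hA).injective.bijective_of_nat_card_le h).2
  obtain ⟨q, hq⟩ := hsurj (QuotientGroup.mk ⟨g, hg⟩)
  obtain ⟨⟨a, ha⟩, rfl⟩ := QuotientGroup.mk_surjective q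
  rw [Subgroup.quotientSubgroupOfEmbeddingOfLE_apply_mk, QuotientGroup.eq,
    Subgroup.mem_subgroupOf] at hq
  exact ⟨a, ha, a⁻¹ * g, hq, by group⟩

/-- `|AB| |A ∩ B| = |A| |B|`. -/
theorem card_mul_card_inf (h : IsProd S A B) :
    Nat.card S * Nat.card (A ⊓ B : Subgroup G) = Nat.card A * Nat.card B := by
  rw [← card_inf_mul_relIndex_left A B, ← card_mul_relIndex_eq h.2.1, h.relIndex_eq]; ring

theorem of_card_le [Finite G] (hA : A ≤ S) (hB : B ≤ S)
    (h : Nat.card S * Nat.card (A ⊓ B : Subgroup G) ≤ Nat.card A * Nat.card B) :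
    IsProd S A B := by
  refine of_relIndex_le hA hB ?_
  rw [← card_inf_mul_relIndex_left A B, ← card_mul_relIndex_eq hB] at h
  have h1 : 0 < Nat.card B * Nat.card (A ⊓ B : Subgroup G) := Nat.mul_pos Nat.card_pos Nat.card_pos
  refine Nat.le_of_mul_le_mul_left ?_ h1
  calc _ = Nat.card B * B.relIndex S * Nat.card (A ⊓ B : Subgroup G) := by ring
    _ ≤ _ := h
    _ = _ := by ring

theorem card_dvd (h : IsProd S A B) : Nat.card S ∣ Nat.card A * Nat.card B :=
  ⟨_, h.card_mul_card_inf.symm⟩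

theorem relIndex_dvd_card (h : IsProd S A B) : B.relIndex S ∣ Nat.card A :=
  h.relIndex_eq ▸ Subgroup.relIndex_dvd_card B A

theorem index_dvd_card (h : IsProd ⊤ A B) : B.index ∣ Nat.card A := by
  have := h.relIndex_dvd_card
  rwa [Subgroup.relIndex_top_right] at this

/-- Subgroups of coprime relative indices factorise. -/
theorem of_coprime_relIndex [Finite G] (hA : A ≤ S) (hB : B ≤ S)
    (h : (A.relIndex S).Coprime (B.relIndex S)) : IsProd S A B := by
  refine of_relIndex_le hA hB (Nat.le_of_dvd (Nat.pos_of_ne_zero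
    Subgroup.index_ne_zero_of_finite) (h.symm.dvd_of_dvd_mul_right ?_))
  have h1 := Subgroup.relIndex_inf_mul_relIndex B A S
  rw [inf_eq_left.2 hA] at h1
  rw [h1]
  exact Subgroup.relIndex_dvd_of_le_left S inf_le_left

/-- The normaliser of the join of a normal subgroup of `A` and a normal subgroup of `B` is
factorised. -/
theorem normalizer_sup [Finite G] (h : IsProd S A B) {A₀ B₀ : Subgroup G}
    (hA : A ≤ Subgroup.normalizer (A₀ : Set G)) (hB : B ≤ Subgroup.normalizer (B₀ : Set G)) :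
    IsProd (Subgroup.normalizer ((A₀ ⊔ B₀ : Subgroup G) : Set G) ⊓ S)
      (Subgroup.normalizer ((A₀ ⊔ B₀ : Subgroup G) : Set G) ⊓ A)
      (Subgroup.normalizer ((A₀ ⊔ B₀ : Subgroup G) : Set G) ⊓ B) := by
  refine ⟨inf_le_inf_left _ h.1, inf_le_inf_left _ h.2.1, fun g hg => ?_⟩
  obtain ⟨a, ha, b, hb, rfl⟩ := h.exists_mul hg.2
  have h1 := conj_eq_of_mem_normalizer hg.1
  rw [← Cj.conj_conj, conj_eq_iff] at h1
  have h2 : b ∈ Subgroup.normalizer ((A₀ ⊔ B₀ : Subgroup G) : Set G) := by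
    refine mem_normalizer_of_le_conj (sup_le ?_ ?_)
    · rw [h1, conj_sup, conj_eq_of_mem_normalizer (hA (A.inv_mem ha))]
      exact le_sup_left
    · rw [conj_sup, conj_eq_of_mem_normalizer (hB hb)]
      exact le_sup_right
  exact ⟨a, ⟨(Subgroup.mul_mem_cancel_right _ h2).1 hg.1, ha⟩, b, ⟨h2, hb⟩, rfl⟩

/-- If `A` and `A'` both permute with `B`, so does their join. -/
theorem sup_left {A' S' : Subgroup G} (h : IsProd S A B) (h' : IsProd S' A' B) :
    IsProd ((A ⊔ A') ⊔ B) (A ⊔ A') B := by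
  have key : ∀ x ∈ A ⊔ A', ∀ b ∈ B, ∃ a ∈ A ⊔ A', ∃ b' ∈ B, b * x = a * b' := by
    intro x hx
    rw [Subgroup.sup_eq_closure] at hx
    induction hx using Subgroup.closure_induction_left with
    | one => exact fun b hb => ⟨1, Subgroup.one_mem _, b, hb, by simp⟩
    | mul_left y hy x _ ih =>
      intro b hb
      have : ∃ a ∈ A ⊔ A', ∃ b' ∈ B, b * y = a * b' := by
        rcases hy with hy | hy
        · obtain ⟨a, ha, b', hb', he⟩ := h.exists_mul (S.mul_mem (h.2.1 hb) (h.1 hy))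
          exact ⟨a, Subgroup.mem_sup_left ha, b', hb', he⟩
        · obtain ⟨a, ha, b', hb', he⟩ := h'.exists_mul (S'.mul_mem (h'.2.1 hb) (h'.1 hy))
          exact ⟨a, Subgroup.mem_sup_right ha, b', hb', he⟩
      obtain ⟨a, ha, b', hb', he⟩ := this
      obtain ⟨a2, ha2, b2, hb2, he2⟩ := ih b' hb'
      exact ⟨a * a2, Subgroup.mul_mem _ ha ha2, b2, hb2, by
        rw [← mul_assoc, he, mul_assoc, he2, mul_assoc]⟩
    | inv_mul_cancel y hy x _ ih =>
      intro b hb
      have : ∃ a ∈ A ⊔ A', ∃ b' ∈ B, b * y⁻¹ = a * b' := by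
        rcases hy with hy | hy
        · obtain ⟨a, ha, b', hb', he⟩ := h.exists_mul (S.mul_mem (h.2.1 hb) (h.1 (A.inv_mem hy)))
          exact ⟨a, Subgroup.mem_sup_left ha, b', hb', he⟩
        · obtain ⟨a, ha, b', hb', he⟩ :=
            h'.exists_mul (S'.mul_mem (h'.2.1 hb) (h'.1 (A'.inv_mem hy)))
          exact ⟨a, Subgroup.mem_sup_right ha, b', hb', he⟩
      obtain ⟨a, ha, b', hb', he⟩ := this
      obtain ⟨a2, ha2, b2, hb2, he2⟩ := ih b' hb'
      exact ⟨a * a2, Subgroup.mul_mem _ ha ha2, b2, hb2, by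
        rw [← mul_assoc, he, mul_assoc, he2, mul_assoc]⟩
  refine ⟨le_sup_left, le_sup_right, fun g hg => ?_⟩
  rw [Subgroup.sup_eq_closure (A ⊔ A')] at hg
  induction hg using Subgroup.closure_induction_left with
  | one => exact ⟨1, Subgroup.one_mem _, 1, B.one_mem, by simp⟩
  | mul_left y hy x _ ih =>
    obtain ⟨a, ha, b, hb, rfl⟩ := ih
    rcases hy with hy | hy
    · exact ⟨y * a, Subgroup.mul_mem _ hy ha, b, hb, by group⟩
    · obtain ⟨a2, ha2, b2, hb2, he⟩ := key a ha y hy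
      exact ⟨a2, ha2, b2 * b, B.mul_mem hb2 hb, by rw [← mul_assoc, he, mul_assoc]⟩
  | inv_mul_cancel y hy x _ ih =>
    obtain ⟨a, ha, b, hb, rfl⟩ := ih
    rcases hy with hy | hy
    · exact ⟨y⁻¹ * a, Subgroup.mul_mem _ (Subgroup.inv_mem _ hy) ha, b, hb, by group⟩
    · obtain ⟨a2, ha2, b2, hb2, he⟩ := key a ha y⁻¹ (B.inv_mem hy)
      exact ⟨a2, ha2, b2 * b, B.mul_mem hb2 hb, by rw [← mul_assoc, he, mul_assoc]⟩

end IsProd

/-- `|A| |B| ≤ |S| |A ∩ B|` for subgroups `A`, `B` of `S`. -/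
theorem card_mul_card_le_card_mul_card_inf [Finite G] {S A B : Subgroup G} (hA : A ≤ S)
    (hB : B ≤ S) : Nat.card A * Nat.card B ≤ Nat.card S * Nat.card (A ⊓ B : Subgroup G) := by
  rw [← card_inf_mul_relIndex_left A B, ← card_mul_relIndex_eq hB]
  have := Subgroup.relIndex_le_of_le_right (H := B) hA Subgroup.index_ne_zero_of_finite
  calc _ = Nat.card B * B.relIndex A * Nat.card (A ⊓ B : Subgroup G) := by ring
    _ ≤ _ := Nat.mul_le_mul_right _ (Nat.mul_le_mul_left _ this)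

end CL
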