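import Cfsg.Agent.Solv.SylowSystem
import Cfsg.Agent.S0144

/-!
# Hall's characterisation of solvable groups (uses Burnside's `p^a q^b` theorem)
-/

open Cfsg
open scoped Pointwise

namespace CL

namespace Hall

universe u

/-- Burnside's theorem in `π`-form. -/
theorem solvable_of_isPiNum_pair {G : Type*} [Group G] [Finite G] {p q : ℕ} (hp : p.Prime)
    (hq : q.Prime) (h : IsPiNum {p, q} (Nat.card G)) : Group.IsSolvable G := by
  obtain ⟨a, b, ha, hb, hab⟩ := IsPiNum.exists_mul_eq {p} (Nat.card_pos (α := G)).ne'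
  have hne : a * b ≠ 0 := hab ▸ Nat.card_pos.ne'
  obtain ⟨i, rfl⟩ := (IsPiNum.singleton_iff hp (left_ne_zero_of_mul hne)).mp ha
  have hb' : IsPiNum {q} b := fun r hr hd =>
    (h r hr (hab ▸ hd.mul_left _)).resolve_left (hb r hr hd)
  obtain ⟨j, rfl⟩ := (IsPiNum.singleton_iff hq (right_ne_zero_of_mul hne)).mp hb'
  exact Cfsg.Agent.S0144.result p q i j hp hq hab

/-- A finite group whose order has at most two prime divisors is solvable. -/
theorem solvable_of_card_primeFactors_le_two {G : Type*} [Group G] [Finite G]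
    (h : (Nat.card G).primeFactors.card ≤ 2) : Group.IsSolvable G := by
  have hmem : ∀ r : ℕ, r.Prime → r ∣ Nat.card G → r ∈ (Nat.card G).primeFactors :=
    fun r hr hd => Nat.mem_primeFactors.mpr ⟨hr, hd, Nat.card_pos.ne'⟩
  by_cases h1 : ∃ p : ℕ, p.Prime ∧ p ∣ Nat.card G
  · obtain ⟨p, hp, hpd⟩ := h1
    by_cases h2 : ∃ q : ℕ, q.Prime ∧ q ∣ Nat.card G ∧ q ≠ p
    · obtain ⟨q, hq, hqd, hqp⟩ := h2
      refine solvable_of_isPiNum_pair hp hq fun r hr hd => ?_
      by_contra hr'
      simp only [Set.mem_insert_iff, Set.mem_singleton_iff, not_or] at hr'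
      have : 2 < (Nat.card G).primeFactors.card := Finset.two_lt_card_iff.mpr
        ⟨p, q, r, hmem p hp hpd, hmem q hq hqd, hmem r hr hd, hqp.symm, Ne.symm hr'.1,
          Ne.symm hr'.2⟩
      omega
    · refine solvable_of_isPiNum_pair hp hp fun r hr hd => ?_
      by_contra hr'
      exact h2 ⟨r, hr, hd, fun h => hr' (Or.inl h)⟩
  · exact solvable_of_isPiNum_pair Nat.prime_two Nat.prime_two fun r hr hd =>
      absurd ⟨r, hr, hd⟩ h1

theorem solvable_of_complements_aux (n : ℕ) : ∀ (G : Type u) [Group G] [Finite G],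
    Nat.card G = n → (∀ p : ℕ, p.Prime → ∃ H : Subgroup G, IsPiHall {p}ᶜ H) →
      Group.IsSolvable G := by
  induction n using Nat.strong_induction_on with
  | _ n ih =>
  intro G _ _ hn h
  by_cases h2 : (Nat.card G).primeFactors.card ≤ 2
  · exact solvable_of_card_primeFactors_le_two h2
  obtain ⟨p, q, r, hp, hq, hr, hpq, hpr, hqr⟩ := Finset.two_lt_card_iff.mp (not_le.mp h2)
  have hcop : ∀ {p q : ℕ} {H K : Subgroup G}, p ≠ q → IsPiHall {p}ᶜ H → IsPiHall {q}ᶜ K →
      H.index.Coprime K.index := fun hpq hH hK =>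
    (PiHall.index_pi hH).coprime_of_disjoint (PiHall.index_pi hK)
      (by rw [compl_compl, compl_compl]; exact Set.disjoint_singleton.mpr hpq)
  have hsol : ∀ p ∈ (Nat.card G).primeFactors, ∀ H : Subgroup G, IsPiHall {p}ᶜ H →
      Group.IsSolvable H := by
    intro p hp H hH
    have hp' := Nat.mem_primeFactors.mp hp
    have hne : H ≠ ⊤ := by
      rintro rfl
      exact PiHall.top_iff.mp hH p hp'.1 hp'.2.1 rfl
    refine ih (Nat.card H) ?_ H rfl fun q hq => ?_
    · rw [← hn]
      exact card_lt_of_ne_top hne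
    · rcases eq_or_ne q p with rfl | hqp
      · exact ⟨⊤, PiHall.top_iff.mpr (PiHall.card_pi hH)⟩
      · obtain ⟨K, hK⟩ := h q hq
        refine ⟨K.subgroupOf H, PiHall.mk (Pi.isPiNum_card_subgroupOf (PiHall.card_pi hK) H) ?_⟩
        change IsPiNum _ (K.relIndex H)
        rw [Pi.relIndex_eq_index_of_coprime (hcop hqp hK hH)]
        exact PiHall.index_pi hK
  obtain ⟨H₁, h₁⟩ := h p (Nat.prime_of_mem_primeFactors hp)
  obtain ⟨H₂, h₂⟩ := h q (Nat.prime_of_mem_primeFactors hq)
  obtain ⟨H₃, h₃⟩ := h r (Nat.prime_of_mem_primeFactors hr)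
  exact solvable_of_three_solvable H₁ H₂ H₃ (hsol p hp _ h₁) (hsol q hq _ h₂) (hsol r hr _ h₃)
    (Pi.exists_mul_eq_of_coprime_index (hcop hpq h₁ h₂))
    (Pi.exists_mul_eq_of_coprime_index (hcop hpr h₁ h₃)) (hcop hqr h₂ h₃)

/-- **Hall's converse**: a finite group with a Hall `p'`-subgroup for every prime `p` is
solvable. -/
theorem solvable_of_complements {G : Type*} [Group G] [Finite G]
    (h : ∀ p : ℕ, p.Prime → ∃ H : Subgroup G, IsPiHall {p}ᶜ H) : Group.IsSolvable G :=
  solvable_of_complements_aux _ G rfl h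

end Hall

end CL
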