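import Cfsg.Agent.Solv.Hall

/-!
# Permuting subgroups, complement systems, Sylow systems, Wielandt's three-subgroup criterion,
Hall subgroups of nilpotent groups
-/

open Cfsg
open scoped Pointwise

namespace CL

namespace Hall

universe u

variable {G : Type*} [Group G] {π ρ : Set ℕ}

/-- Permuting subgroups: the product set is the join. -/
theorem coe_sup_of_mul_comm {H K : Subgroup G} (h : (H : Set G) * K = K * H) :
    ((H ⊔ K : Subgroup G) : Set G) = H * K := by
  let L : Subgroup G :=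
    { carrier := (H : Set G) * K
      one_mem' := ⟨1, H.one_mem, 1, K.one_mem, mul_one 1⟩
      mul_mem' := by
        rintro _ _ ⟨a, ha, b, hb, rfl⟩ ⟨c, hc, d, hd, rfl⟩
        have hbc : b * c ∈ (H : Set G) * K := h ▸ ⟨b, hb, c, hc, rfl⟩
        obtain ⟨e, he, f, hf, hef⟩ := hbc
        refine ⟨a * e, H.mul_mem ha he, f * d, K.mul_mem hf hd, ?_⟩
        have hef' : e * f = b * c := hef
        change a * e * (f * d) = a * b * (c * d)
        rw [mul_assoc a e, ← mul_assoc e, hef']; group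
      inv_mem' := by
        rintro _ ⟨a, ha, b, hb, rfl⟩
        rw [h]
        exact ⟨b⁻¹, K.inv_mem hb, a⁻¹, H.inv_mem ha, (mul_inv_rev a b).symm⟩ }
  refine Set.Subset.antisymm ?_
    (Subgroup.mul_subset (le_sup_left : H ≤ H ⊔ K) (le_sup_right : K ≤ H ⊔ K))
  exact (sup_le (fun x hx => ⟨x, hx, 1, K.one_mem, mul_one x⟩)
    (fun x hx => ⟨1, H.one_mem, x, hx, one_mul x⟩) : H ⊔ K ≤ L)

/-- If the join of `H` and `K` is the product set then `|HK| |H ∩ K| = |H| |K|`. -/
theorem card_sup_mul_card_inf_of_coe_sup {H K : Subgroup G}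
    (h : ((H ⊔ K : Subgroup G) : Set G) = H * K) :
    Nat.card ↥(H ⊔ K) * Nat.card ↥(H ⊓ K) = Nat.card H * Nat.card K := by
  have h1 : (H.subgroupOf (H ⊔ K)).relIndex (K.subgroupOf (H ⊔ K)) = (H.subgroupOf (H ⊔ K)).index := by
    refine Pi.relIndex_eq_index_of_exists_mul_eq fun g => ?_
    have : (g : G) ∈ (H : Set G) * K := h ▸ g.2
    obtain ⟨a, ha, b, hb, hab⟩ := this
    exact ⟨⟨a, Subgroup.mem_sup_left ha⟩, ha, ⟨b, Subgroup.mem_sup_right hb⟩, hb,
      Subtype.ext hab.symm⟩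
  rw [Subgroup.relIndex_subgroupOf le_sup_right] at h1
  rw [← Pi.card_mul_relIndex (le_sup_left : H ≤ H ⊔ K), ← Pi.card_inf_mul_relIndex H K, h1]
  change _ = _ * (_ * H.relIndex (H ⊔ K))
  ring

theorem card_sup_dvd_of_mul_comm {H K : Subgroup G} (h : (H : Set G) * K = K * H) :
    Nat.card ↥(H ⊔ K) ∣ Nat.card H * Nat.card K :=
  ⟨_, (card_sup_mul_card_inf_of_coe_sup (coe_sup_of_mul_comm h)).symm⟩

/-- Two subgroups of `L` whose orders are coprime and multiply to `|L|` have product `L`. -/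
theorem coe_eq_mul_of_card_mul [Finite G] {H K L : Subgroup G} (hH : H ≤ L) (hK : K ≤ L)
    (hc : (Nat.card H).Coprime (Nat.card K)) (h : Nat.card H * Nat.card K = Nat.card L) :
    (L : Set G) = H * K := by
  have hcompl : (H.subgroupOf L).IsComplement' (K.subgroupOf L) :=
    Subgroup.isComplement'_of_coprime
      (by rwa [Pi.card_subgroupOf_of_le hH, Pi.card_subgroupOf_of_le hK])
      (by rwa [Pi.card_subgroupOf_of_le hH, Pi.card_subgroupOf_of_le hK])
  refine Set.Subset.antisymm (fun x hx => ?_) (Subgroup.mul_subset hH hK)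
  obtain ⟨⟨a, b⟩, hab⟩ := hcompl.2 ⟨x, hx⟩
  exact ⟨a, a.2, b, b.2, congrArg Subtype.val hab⟩

/-- A Hall `π`-subgroup and a Hall `π'`-subgroup of `L` have product `L`. -/
theorem coe_eq_mul_of_isPiHallOf [Finite G] {H K L : Subgroup G} (hH : IsPiHallOf π H L)
    (hK : IsPiHallOf πᶜ K L) : (L : Set G) = H * K := by
  refine coe_eq_mul_of_card_mul hH.1 hK.1
    ((PiHall.of_card_pi hH).coprime (PiHall.of_card_pi hK)) ?_
  have := (PiHall.isComplement' (PiHall.subgroupOf hH) (PiHall.subgroupOf hK)).card_mul_card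
  rwa [Pi.card_subgroupOf_of_le hH.1, Pi.card_subgroupOf_of_le hK.1] at this

/-- A Hall `π`-subgroup and a Hall `ρ`-subgroup with `π ∪ ρ` everything meet in a Hall
`(π ∩ ρ)`-subgroup. -/
theorem isPiHall_inf [Finite G] {H K : Subgroup G} (hH : IsPiHall π H) (hK : IsPiHall ρ K)
    (h : Disjoint πᶜ ρᶜ) : IsPiHall (π ∩ ρ) (H ⊓ K) := by
  refine PiHall.mk ((Pi.isPiNum_card_of_le (PiHall.card_pi hH) inf_le_left).inter
    (Pi.isPiNum_card_of_le (PiHall.card_pi hK) inf_le_right)) ?_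
  rw [Pi.index_inf_of_coprime ((PiHall.index_pi hH).coprime_of_disjoint (PiHall.index_pi hK) h)]
  exact ((PiHall.index_pi hH).mono (Set.compl_subset_compl.mpr Set.inter_subset_left)).mul
    ((PiHall.index_pi hK).mono (Set.compl_subset_compl.mpr Set.inter_subset_right))

theorem exists_finset_primes_dvd {n : ℕ} (hn : n ≠ 0) (P : ℕ → Prop) :
    ∃ s : Finset Nat.Primes, ∀ q : Nat.Primes, q ∈ s ↔ (q : ℕ) ∣ n ∧ P q := by
  have hfin : Set.Finite {q : Nat.Primes | (q : ℕ) ∣ n ∧ P q} :=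
    ((Set.finite_le_nat n).preimage (f := fun q : Nat.Primes => (q : ℕ))
      (Nat.Primes.coe_nat_injective.injOn)).subset
      fun q hq => Nat.le_of_dvd (Nat.pos_of_ne_zero hn) hq.1
  exact ⟨hfin.toFinset, fun q => hfin.mem_toFinset⟩

theorem isComplementSystem_iff [Finite G] {K : Nat.Primes → Subgroup G} :
    IsComplementSystem K ↔ ∀ p : Nat.Primes, IsPiHall {(p : ℕ)}ᶜ (K p) :=
  forall_congr' fun p => (PiHall.isPiHall_compl_singleton_iff p.2).symm

/-- A finite solvable group has a complement system. -/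
theorem exists_isComplementSystem (G : Type*) [Group G] [Finite G] [Group.IsSolvable G] :
    ∃ K : Nat.Primes → Subgroup G, IsComplementSystem K := by
  choose K hK using fun p : Nat.Primes => exists_isPiHall {(p : ℕ)}ᶜ G
  exact ⟨K, isComplementSystem_iff.mpr hK⟩

/-- The intersection of the members of a complement system at the primes outside `π` is a Hall
`π`-subgroup. -/
theorem isPiHall_iInf_of_isComplementSystem [Finite G] {K : Nat.Primes → Subgroup G}
    (hK : IsComplementSystem K) (π : Set ℕ) :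
    IsPiHall π (⨅ (q : Nat.Primes) (_ : (q : ℕ) ∉ π), K q) := by
  classical
  rw [isComplementSystem_iff] at hK
  have key : ∀ s : Finset Nat.Primes,
      IsPiHall ((fun q : Nat.Primes => (q : ℕ)) '' (s : Set Nat.Primes))ᶜ (⨅ q ∈ s, K q) := by
    intro s
    induction s using Finset.induction_on with
    | empty =>
      simp only [Finset.coe_empty, Set.image_empty, Set.compl_empty, Finset.notMem_empty, iInf_false,
        iInf_top]
      exact PiHall.top_iff.mpr (IsPiNum.univ _)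
    | insert q s hq ih =>
      rw [Finset.iInf_insert, Finset.coe_insert, Set.image_insert_eq, Set.insert_eq, Set.compl_union]
      refine isPiHall_inf (hK q) ih ?_
      rw [compl_compl, compl_compl, Set.disjoint_singleton_left]
      rintro ⟨r, hr, hrq⟩
      exact hq (Subtype.ext hrq ▸ hr)
  obtain ⟨s, hs⟩ := exists_finset_primes_dvd (Nat.card_pos (α := G)).ne' (· ∉ π)
  have heq : (⨅ (q : Nat.Primes) (_ : (q : ℕ) ∉ π), K q) = ⨅ q ∈ s, K q := by
    refine le_antisymm (le_iInf₂ fun q hq => iInf₂_le q ((hs q).mp hq).2) (le_iInf₂ fun q hq => ?_)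
    by_cases hd : (q : ℕ) ∣ Nat.card G
    · exact iInf₂_le q ((hs q).mpr ⟨hd, hq⟩)
    · have : K q = ⊤ := PiHall.eq_of_le (hK q)
        (by rw [Subgroup.card_top]; exact (IsPiNum.compl_singleton_iff q.2).mpr hd) le_top
      rw [this]; exact le_top
  rw [heq]
  refine PiHall.congr (key s) fun p hp hd => ?_
  constructor
  · intro h
    by_contra hπ
    exact h ⟨⟨p, hp⟩, (hs ⟨p, hp⟩).mpr ⟨hd, hπ⟩, rfl⟩
  · rintro hπ ⟨q, hq, rfl⟩
    exact ((hs q).mp hq).2 hπ

/-- A finite solvable group has a *Hall system*: a Hall `π`-subgroup for every `π`, monotone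
in `π`. -/
theorem exists_hall_system (G : Type*) [Group G] [Finite G] [Group.IsSolvable G] :
    ∃ H : Set ℕ → Subgroup G, (∀ π, IsPiHall π (H π)) ∧ Monotone H := by
  obtain ⟨K, hK⟩ := exists_isComplementSystem G
  refine ⟨fun π => ⨅ (q : Nat.Primes) (_ : (q : ℕ) ∉ π), K q,
    isPiHall_iInf_of_isComplementSystem hK, fun π ρ h => ?_⟩
  exact le_iInf₂ fun q hq => iInf₂_le q fun hq' => hq (h hq')

/-- In a Hall system, the members for disjoint sets of primes permute. -/
theorem hall_system_coe_union [Finite G] {H : Set ℕ → Subgroup G} (hH : ∀ π, IsPiHall π (H π))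
    (hm : Monotone H) (h : Disjoint π ρ) : (H (π ∪ ρ) : Set G) = H π * H ρ := by
  refine coe_eq_mul_of_isPiHallOf (π := π)
    (PiHall.isPiHallOf_of_le (hH π) (hm Set.subset_union_left)) ?_
  have h1 := PiHall.subgroupOf (PiHall.isPiHallOf_of_le (hH ρ) (hm Set.subset_union_right :
    H ρ ≤ H (π ∪ ρ)))
  rw [PiHall.isPiHallOf_iff_subgroupOf (hm Set.subset_union_right)]
  refine PiHall.congr h1 fun p hp hd => ⟨fun hρ hπ => Set.disjoint_left.mp h hπ hρ, fun hπ => ?_⟩
  exact (PiHall.card_pi (hH (π ∪ ρ)) p hp hd).resolve_left hπ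

/-- A finite solvable group has a Sylow system. -/
theorem exists_sylow_system (G : Type*) [Group G] [Finite G] [Group.IsSolvable G] :
    ∃ S : (p : Nat.Primes) → Sylow (p : ℕ) G,
      ∀ p q : Nat.Primes, (S p : Set G) * (S q : Set G) = (S q : Set G) * (S p : Set G) := by
  obtain ⟨H, hH, hm⟩ := exists_hall_system G
  have hS : ∀ p : Nat.Primes, ∃ P : Sylow (p : ℕ) G, (P : Subgroup G) = H {(p : ℕ)} := fun p =>
    haveI := Fact.mk p.2
    PiHall.exists_sylow_eq (hH _)
  choose S hS using hS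
  refine ⟨S, fun p q => ?_⟩
  rcases eq_or_ne p q with rfl | hpq
  · rfl
  have hd : Disjoint ({(p : ℕ)} : Set ℕ) {(q : ℕ)} :=
    Set.disjoint_singleton.mpr fun h => hpq (Subtype.ext h)
  rw [← Sylow.coe_coe, ← Sylow.coe_coe, hS, hS, ← hall_system_coe_union hH hm hd,
    ← hall_system_coe_union hH hm hd.symm, Set.union_comm]

/-- A group with a Sylow system has Hall `π`-subgroups for all `π`. -/
theorem exists_isPiHall_of_sylow_system [Finite G] (S : (p : Nat.Primes) → Sylow (p : ℕ) G)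
    (hS : ∀ p q : Nat.Primes, (S p : Set G) * (S q : Set G) = (S q : Set G) * (S p : Set G))
    (π : Set ℕ) : ∃ H : Subgroup G, IsPiHall π H ∧
      ∀ p : Nat.Primes, (p : ℕ) ∈ π → (S p : Subgroup G) ≤ H := by
  classical
  have key : ∀ s : Finset Nat.Primes, (∀ q ∈ s, (q : ℕ) ∈ π) → ∃ H : Subgroup G,
      IsPiNum π (Nat.card H) ∧ (∀ q ∈ s, (S q : Subgroup G) ≤ H) ∧
        ∀ r : Nat.Primes, (H : Set G) * (S r : Set G) = (S r : Set G) * H := by
    intro s
    induction s using Finset.induction_on with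
    | empty =>
      refine fun _ => ⟨⊥, by rw [Subgroup.card_bot]; exact IsPiNum.one π, by simp, fun r => ?_⟩
      rw [Subgroup.coe_bot, Set.singleton_one, one_mul, mul_one]
    | insert q s hq ih =>
      intro hπ
      obtain ⟨H, h1, h2, h3⟩ := ih fun r hr => hπ r (Finset.mem_insert_of_mem hr)
      have hc : (H : Set G) * (S q : Subgroup G) = (S q : Subgroup G) * H := h3 q
      refine ⟨H ⊔ S q, ?_, ?_, fun r => ?_⟩
      · exact (h1.mul (Pi.isPiNum_card_of_isPGroup q.2 (hπ q (Finset.mem_insert_self _ _))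
          (S q).isPGroup')).of_dvd (card_sup_dvd_of_mul_comm hc)
      · intro r hr
        rcases Finset.mem_insert.mp hr with rfl | hr
        · exact le_sup_right
        · exact (h2 r hr).trans le_sup_left
      · rw [coe_sup_of_mul_comm hc, Sylow.coe_coe, mul_assoc, hS, ← mul_assoc, h3, mul_assoc]
  obtain ⟨s, hs⟩ := exists_finset_primes_dvd (Nat.card_pos (α := G)).ne' (· ∈ π)
  obtain ⟨H, h1, h2, -⟩ := key s fun q hq => ((hs q).mp hq).2
  have hH : IsPiHall π H := by
    refine PiHall.mk h1 fun p hp hd hπ => ?_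
    have := Fact.mk hp
    have hle := h2 ⟨p, hp⟩ ((hs ⟨p, hp⟩).mpr ⟨hd.trans H.index_dvd_card, hπ⟩)
    exact (S ⟨p, hp⟩).not_dvd_index (hd.trans (Subgroup.index_dvd_of_le hle))
  refine ⟨H, hH, fun p hp => ?_⟩
  by_cases hd : (p : ℕ) ∣ Nat.card G
  · exact h2 p ((hs p).mpr ⟨hd, hp⟩)
  · have := Fact.mk p.2
    rcases (S p).isPGroup'.card_eq_or_dvd with h | h
    · rw [Subgroup.card_eq_one.mp h]; exact bot_le
    · exact absurd (h.trans (Subgroup.card_subgroup_dvd_card _)) hd

/-- In a finite nilpotent group the `π`-core is a Hall `π`-subgroup. -/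
theorem isPiHall_piCore_of_nilpotent (π : Set ℕ) (G : Type*) [Group G] [Finite G]
    [Group.IsNilpotent G] : IsPiHall π (piCore π G) := by
  refine PiHall.mk (PiCore.isPiNum_card π) fun p hp hd hπ => ?_
  have := Fact.mk hp
  obtain ⟨P⟩ : Nonempty (Sylow p G) := inferInstance
  have hle : (P : Subgroup G) ≤ piCore π G :=
    PiCore.le_piCore (Pi.isPiNum_card_of_isPGroup hp hπ P.isPGroup')
  exact P.not_dvd_index (hd.trans (Subgroup.index_dvd_of_le hle))

theorem eq_piCore_of_nilpotent [Finite G] [Group.IsNilpotent G] {H : Subgroup G}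
    (hH : IsPiHall π H) : H = piCore π G :=
  (PiHall.eq_of_le (isPiHall_piCore_of_nilpotent π G) (PiHall.card_pi hH)
    (PiCore.le_isPiHall hH)).symm

/-- A Hall subgroup of a finite nilpotent group is normal. -/
theorem normal_of_nilpotent [Finite G] [Group.IsNilpotent G] {H : Subgroup G}
    (hH : IsPiHall π H) : H.Normal := by
  rw [eq_piCore_of_nilpotent hH]; infer_instance

theorem le_normalizer_of_nilpotent [Finite G] {H M : Subgroup G} [Group.IsNilpotent M]
    (hH : IsPiHallOf π H M) : M ≤ Subgroup.normalizer (H : Set G) :=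
  (Subgroup.normal_subgroupOf_iff_le_normalizer hH.1).mp (normal_of_nilpotent (PiHall.subgroupOf hH))

theorem three_solvable_aux (n : ℕ) : ∀ (G : Type u) [Group G] [Finite G], Nat.card G = n →
    ∀ H₁ H₂ H₃ : Subgroup G, Group.IsSolvable H₁ → Group.IsSolvable H₂ → Group.IsSolvable H₃ →
      (∀ g : G, ∃ x ∈ H₁, ∃ y ∈ H₂, g = x * y) → (∀ g : G, ∃ x ∈ H₁, ∃ y ∈ H₃, g = x * y) →
      H₂.index.Coprime H₃.index → Group.IsSolvable G := by
  induction n using Nat.strong_induction_on with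
  | _ n ih =>
  intro G _ _ hn H₁ H₂ H₃ h₁ h₂ h₃ h12 h13 hcop
  rcases eq_or_ne H₁ ⊥ with rfl | hne
  · refine Group.isSolvable_of_surjective (f := H₂.subtype) fun g => ?_
    obtain ⟨x, hx, y, hy, rfl⟩ := h12 g
    rw [Subgroup.mem_bot.mp hx, one_mul]
    exact ⟨⟨y, hy⟩, rfl⟩
  have := (Subgroup.nontrivial_iff_ne_bot H₁).mpr hne
  obtain ⟨p, A₀, hp, hc, hA₀, hpA, -⟩ := exists_char_abelian_pgroup H₁
  have := Fact.mk hp
  set A := A₀.map H₁.subtype with hA
  have hAn : ∀ x ∈ H₁, MulAut.conj x • A = A := fun x hx => by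
    rw [hA, show x = H₁.subtype ⟨x, hx⟩ from rfl, ← Pi.map_conj_smul,
      Subgroup.Normal.conj_smul_eq_self]
  have hAbot : A ≠ ⊥ := by
    rwa [hA, Ne, Subgroup.map_eq_bot_iff_of_injective _ H₁.subtype_injective]
  -- a nontrivial solvable normal subgroup
  have key : ∀ H : Subgroup G, Group.IsSolvable H → (∀ g : G, ∃ x ∈ H₁, ∃ y ∈ H, g = x * y) →
      ¬ p ∣ H.index → ∃ N : Subgroup G, N.Normal ∧ N ≠ ⊥ ∧ Group.IsSolvable N := by
    intro H hH hprod hidx
    obtain ⟨P⟩ : Nonempty (Sylow p H) := inferInstance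
    have hP : IsPiHall {p} ((P : Subgroup H).map H.subtype) :=
      PiHall.isPiHall_of_index (PiHall.isPiHallOf_map_subtype.mpr (PiHall.sylow P))
        ((IsPiNum.compl_singleton_iff hp).mpr hidx)
    obtain ⟨Q, hQ⟩ := PiHall.exists_sylow_eq hP
    obtain ⟨R, hR⟩ := (hpA.map H₁.subtype).exists_le_sylow
    obtain ⟨g, hg⟩ := MulAction.exists_smul_eq G R Q
    have h1 : MulAut.conj g • A ≤ H := by
      refine le_trans ?_ (hQ ▸ Subgroup.map_subtype_le _ : (Q : Subgroup G) ≤ H)
      rw [← hg, Sylow.coe_subgroup_smul]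
      exact Subgroup.pointwise_smul_le_pointwise_smul_iff.mpr hR
    have h2 : ∀ g : G, ∃ y ∈ H, MulAut.conj g • A = MulAut.conj y • A := fun g => by
      obtain ⟨x, hx, y, hy, hxy⟩ := hprod g⁻¹
      refine ⟨y⁻¹, H.inv_mem hy, ?_⟩
      rw [← inv_inv g, hxy, mul_inv_rev, map_mul, mul_smul, hAn _ (H₁.inv_mem hx)]
    have h3 : A ≤ H := by
      obtain ⟨y, hy, hy'⟩ := h2 g
      rw [hy', Subgroup.pointwise_smul_subset_iff, ← map_inv,
        Subgroup.conj_smul_eq_self_of_mem (H.inv_mem hy)] at h1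
      exact h1
    have h4 : A ≤ H.normalCore := fun a ha g => by
      obtain ⟨y, hy, hy'⟩ := h2 g
      have : g * a * g⁻¹ ∈ MulAut.conj g • A := Subgroup.smul_mem_pointwise_smul a (MulAut.conj g) A ha
      rw [hy'] at this
      exact Subgroup.conj_smul_le_of_le h3 ⟨y, hy⟩ this
    exact ⟨H.normalCore, inferInstance, fun h => hAbot (le_bot_iff.mp (h ▸ h4)),
      Group.isSolvable_of_isSolvable_injective (Subgroup.inclusion_injective H.normalCore_le)⟩
  obtain ⟨N, hNn, hN, hNs⟩ : ∃ N : Subgroup G, N.Normal ∧ N ≠ ⊥ ∧ Group.IsSolvable N := by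
    by_cases h : p ∣ H₂.index
    · exact key H₃ h₃ h13 fun h' => hp.ne_one (Nat.eq_one_of_dvd_coprimes hcop h h')
    · exact key H₂ h₂ h12 h
  have hlt : Nat.card (G ⧸ N) < n := hn ▸ card_quotient_lt hN
  have hs := QuotientGroup.mk'_surjective N
  have hprod : ∀ H K : Subgroup G, (∀ g : G, ∃ x ∈ H, ∃ y ∈ K, g = x * y) → ∀ g : G ⧸ N,
      ∃ x ∈ H.map (QuotientGroup.mk' N), ∃ y ∈ K.map (QuotientGroup.mk' N), g = x * y := by
    intro H K h g
    obtain ⟨g, rfl⟩ := hs g
    obtain ⟨x, hx, y, hy, rfl⟩ := h g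
    exact ⟨_, ⟨x, hx, rfl⟩, _, ⟨y, hy, rfl⟩, map_mul _ x y⟩
  have hsol : ∀ H : Subgroup G, Group.IsSolvable H →
      Group.IsSolvable (H.map (QuotientGroup.mk' N)) := fun H _ =>
    Group.isSolvable_of_surjective ((QuotientGroup.mk' N).subgroupMap_surjective H)
  have hq := ih _ hlt (G ⧸ N) rfl _ _ _ (hsol _ h₁) (hsol _ h₂) (hsol _ h₃) (hprod _ _ h12)
    (hprod _ _ h13) ((hcop.coprime_dvd_left (H₂.index_map_dvd hs)).coprime_dvd_right
      (H₃.index_map_dvd hs))
  exact (Group.isSolvable_iff_subgroup_quotient N).mpr ⟨hNs, hq⟩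

/-- Wielandt: `G = H₁ H₂ = H₁ H₃` with solvable factors and `H₂`, `H₃` of coprime indices
is solvable. -/
theorem solvable_of_three_solvable [Finite G] (H₁ H₂ H₃ : Subgroup G)
    (h₁ : Group.IsSolvable H₁) (h₂ : Group.IsSolvable H₂) (h₃ : Group.IsSolvable H₃)
    (h12 : ∀ g : G, ∃ x ∈ H₁, ∃ y ∈ H₂, g = x * y) (h13 : ∀ g : G, ∃ x ∈ H₁, ∃ y ∈ H₃, g = x * y)
    (hcop : H₂.index.Coprime H₃.index) : Group.IsSolvable G :=
  three_solvable_aux _ G rfl H₁ H₂ H₃ h₁ h₂ h₃ h12 h13 hcop

/-- A maximal subgroup of a finite solvable group has prime power index. -/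
theorem isPrimePow_index_of_isCoatom [Finite G] [Group.IsSolvable G] {M : Subgroup G}
    (hM : IsCoatom M) : IsPrimePow M.index := by
  have hC : M.normalCore ≠ ⊤ := fun h => hM.1 (top_le_iff.mp (h ▸ M.normalCore_le))
  have : Nontrivial (G ⧸ M.normalCore) := QuotientGroup.nontrivial_iff.mpr hC
  obtain ⟨p, A, hp, hc, hA, hpA, -⟩ := exists_char_abelian_pgroup (G ⧸ M.normalCore)
  have := Fact.mk hp
  set N := A.comap (QuotientGroup.mk' M.normalCore) with hN
  have hNM : ¬ N ≤ M := fun h => hA (by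
    rw [← Subgroup.map_comap_eq_self_of_surjective (QuotientGroup.mk'_surjective _) A,
      Subgroup.map_eq_bot_iff, QuotientGroup.ker_mk']
    exact Subgroup.normal_le_normalCore.mpr h)
  have hsup : M ⊔ N = ⊤ := hM.2 _ (left_lt_sup.mpr hNM)
  have h1 : M.relIndex N = M.index := by
    refine Pi.relIndex_eq_index_of_exists_mul_eq fun g => ?_
    have : g ∈ (M : Set G) * N := by rw [← Subgroup.mul_normal, hsup]; trivial
    obtain ⟨a, ha, b, hb, rfl⟩ := this
    exact ⟨a, ha, b, hb, rfl⟩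
  have h2 : M.normalCore.relIndex N = Nat.card A := by
    conv_lhs => rw [← QuotientGroup.ker_mk' M.normalCore]
    rw [Subgroup.relIndex_ker, hN,
      Subgroup.map_comap_eq_self_of_surjective (QuotientGroup.mk'_surjective _)]
  obtain ⟨k, hk⟩ := IsPGroup.iff_card.mp hpA
  have h3 : M.index ∣ p ^ k := by
    rw [← h1, ← hk, ← h2]
    exact Subgroup.relIndex_dvd_of_le_left N M.normalCore_le
  obtain ⟨j, -, hj⟩ := (Nat.dvd_prime_pow hp).mp h3
  refine ⟨p, j, hp.prime, Nat.pos_of_ne_zero ?_, hj.symm⟩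
  rintro rfl
  exact hM.1 (Subgroup.index_eq_one.mp hj)

end Hall

end CL
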