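import Cfsg.Agent.Base
import Cfsg.Agent.Solv.FrobeniusThm
import Cfsg.Agent.Solv.Frobenius2
import Cfsg.Agent.Solv.FpfComplement

/-!
Frobenius complements: structure and conjugacy.
-/

namespace CL.Frob

open Subgroup Cfsg Pointwise

variable {G : Type*} [Group G] [Finite G]

theorem center_ne_bot_of_isFrobeniusComplement {H : Subgroup G} (hH : IsFrobeniusComplement H) :
    center H ≠ ⊥ := by
  obtain ⟨N, -, hNn, -, hN1, hf⟩ := exists_kernel_of_isFrobeniusComplement hH
  exact center_ne_bot_of_fpf (by rw [Subgroup.normalizer_eq_top]; exact le_top) hf hN1 hH.1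

omit [Finite G] in
/-- A group with nontrivial centre has no proper nontrivial malnormal subgroup. -/
theorem IsMalnormal.le_of_center_ne_bot {H L : Subgroup G} (hH : IsMalnormal H)
    (hHL : H ⊓ L ≠ ⊥) (hL : center L ≠ ⊥) : L ≤ H := by
  obtain ⟨⟨x, hx, hxL⟩, hx1⟩ := (Subgroup.ne_bot_iff_exists_ne_one).mp hHL
  obtain ⟨⟨z, hz⟩, hz1⟩ := (Subgroup.ne_bot_iff_exists_ne_one).mp hL
  rw [Subgroup.mem_center_iff] at hz
  have h1 : (z : G) ∈ H := hH.mem_of_commute hx (fun h => hx1 (Subtype.ext h))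
    (congrArg Subtype.val (hz ⟨x, hxL⟩)).symm
  exact fun y hy => hH.mem_of_commute h1 (fun h => hz1 (Subtype.ext (Subtype.ext h)))
    (congrArg Subtype.val (hz ⟨y, hy⟩))

/-- All Frobenius complements of a finite group are conjugate. -/
theorem exists_conj_smul_eq_of_isFrobeniusComplement {H H₀ : Subgroup G}
    (hH : IsFrobeniusComplement H) (hH₀ : IsFrobeniusComplement H₀) :
    ∃ g : G, MulAut.conj g • H₀ = H := by
  wlog hle : Nat.card H₀ ≤ Nat.card H generalizing H H₀
  · obtain ⟨g, hg⟩ := this hH₀ hH (le_of_not_ge hle)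
    exact ⟨g⁻¹, by rw [← hg, map_inv, inv_smul_smul]⟩
  have hm := isMalnormal_of_isFrobeniusComplement hH₀
  obtain ⟨g, hg⟩ := (isMalnormal_of_isFrobeniusComplement hH).exists_conj_smul_le_of_card_le hm hle
  refine ⟨g, le_antisymm hg ((hm.conj_smul g).le_of_center_ne_bot ?_
    (center_ne_bot_of_isFrobeniusComplement hH))⟩
  rw [inf_eq_left.mpr hg]
  intro h
  apply hH₀.1
  rw [← inv_smul_smul (MulAut.conj g) H₀, h, Subgroup.smul_bot]

/-- The Frobenius kernel does not depend on the complement. -/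
theorem kernel_eq_of_isFrobeniusComplement {H H₀ : Subgroup G}
    (hH : IsFrobeniusComplement H) (hH₀ : IsFrobeniusComplement H₀) :
    frobeniusKernel H₀ = frobeniusKernel H := by
  obtain ⟨g, rfl⟩ := exists_conj_smul_eq_of_isFrobeniusComplement hH hH₀
  rw [kernel_conj_smul]

end CL.Frob
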