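import Cfsg.Agent.Solv.SylowSystem

/-!
# Carter subgroups of finite solvable groups: existence, conjugacy, images in quotients
-/

open Cfsg
open scoped Pointwise

namespace CL

namespace Carter

universe u

variable {G : Type*} [Group G]

theorem normalizer_smul {α : Type*} [Group α] [MulDistribMulAction α G] (a : α) (H : Subgroup G) :
    Subgroup.normalizer ((a • H : Subgroup G) : Set G) = a • Subgroup.normalizer (H : Set G) :=
  (Subgroup.map_normalizer_eq_of_bijective H
    (f := MulDistribMulAction.toMonoidHom G a) (MulAction.bijective a)).symm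

theorem smul {α : Type*} [Group α] [MulDistribMulAction α G] (a : α) {C : Subgroup G}
    (hC : IsCarterSubgroup C) : IsCarterSubgroup (a • C) :=
  ⟨(Group.isNilpotent_congr (Subgroup.equivSMul a C)).mp hC.1, by rw [normalizer_smul, hC.2]⟩

theorem subgroupOf {C K : Subgroup G} (hC : IsCarterSubgroup C) (h : C ≤ K) :
    IsCarterSubgroup (C.subgroupOf K) :=
  ⟨(Group.isNilpotent_congr (Subgroup.subgroupOfEquivOfLe h)).mpr hC.1, by
    rw [← Subgroup.subgroupOf_normalizer_eq h, hC.2]⟩

/-- A self-normalising subgroup of a nilpotent subgroup `K` is `K`. -/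
theorem eq_of_le_of_nilpotent {C K : Subgroup G} [Group.IsNilpotent K]
    (hC : Subgroup.normalizer (C : Set G) ⊓ K ≤ C) (h : C ≤ K) : C = K := by
  have h1 : C.subgroupOf K = ⊤ :=
    normalizerCondition_iff_only_full_group_self_normalizing.mp
      Group.normalizerCondition_of_isNilpotent
      _ (by
        rw [← Subgroup.subgroupOf_normalizer_eq h]
        exact le_antisymm (fun x hx => hC ⟨hx, x.2⟩) fun x hx => Subgroup.le_normalizer hx)
  exact le_antisymm h (Subgroup.subgroupOf_eq_top.mp h1)

section PByNilpotent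

variable [Finite G] {G' : Type*} [Group G'] [Group.IsNilpotent G'] {f : G →* G'} {p : ℕ}

/-- In a (`p`-group)-by-nilpotent group the normaliser of a Hall `p'`-subgroup is nilpotent. -/
theorem nilpotent_normalizer_hall (hp : p.Prime) (hker : IsPGroup p f.ker) {Q : Subgroup G}
    (hQ : IsPiHall {p}ᶜ Q) : Group.IsNilpotent (Subgroup.normalizer (Q : Set G)) := by
  have := Fact.mk hp
  set C := Subgroup.normalizer (Q : Set G) with hC
  have hp1 : IsPGroup p (C ⧸ Q.subgroupOf C) := by
    rw [Pi.isPGroup_iff_isPiNum hp]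
    exact (IsPiNum.compl_compl.mp (PiHall.index_pi hQ)).of_dvd
      (Subgroup.relIndex_dvd_index_of_le Subgroup.le_normalizer)
  have := hp1.isNilpotent
  let φ : C →* (C ⧸ Q.subgroupOf C) × G' := (QuotientGroup.mk' _).prod (f.comp C.subtype)
  have hφ : Function.Injective φ := by
    rw [injective_iff_map_eq_one]
    intro x hx
    have h1 : (x : G) ∈ Q := (QuotientGroup.eq_one_iff (N := Q.subgroupOf C) x).mp
      (congrArg Prod.fst hx)
    have h2 : (x : G) ∈ f.ker := congrArg Prod.snd hx
    exact Subtype.ext (Subgroup.disjoint_def.mp (Pi.disjoint_of_isPiNum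
      ((Pi.isPGroup_iff_isPiNum hp).mp hker) (PiHall.card_pi hQ)) h2 h1)
  exact (Group.isNilpotent_congr (MonoidHom.ofInjective hφ)).mpr inferInstance

/-- In a (`p`-group)-by-nilpotent group, `G = N · N_G(Q)` for a Hall `p'`-subgroup `Q`. -/
theorem ker_sup_normalizer_hall (hf : Function.Surjective f) (hp : p.Prime)
    (hker : IsPGroup p f.ker) {Q : Subgroup G} (hQ : IsPiHall {p}ᶜ Q) :
    f.ker ⊔ Subgroup.normalizer (Q : Set G) = ⊤ := by
  have := Fact.mk hp
  have : Finite G' := Finite.of_surjective f hf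
  have := hker.isNilpotent
  have : Group.IsSolvable G := Group.isSolvable_of_ker_le_range f.ker.subtype f (by simp)
  have hn : (Q.map f).Normal := Hall.normal_of_nilpotent (PiHall.map_of_surjective hf hQ)
  have hn' : (Q ⊔ f.ker).Normal := by rw [← Subgroup.comap_map_eq]; infer_instance
  have h1 := Hall.frattini_sup_eq_top (PiHall.isPiHallOf_of_le hQ (le_sup_left : Q ≤ Q ⊔ f.ker))
  rw [eq_top_iff, ← h1]
  exact sup_le (sup_le (Subgroup.le_normalizer.trans le_sup_right) le_sup_left) le_sup_right

/-- In a (`p`-group)-by-nilpotent group the normaliser of a Hall `p'`-subgroup is a Carter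
subgroup. -/
theorem isCarterSubgroup_normalizer_hall (hp : p.Prime) (hker : IsPGroup p f.ker) {Q : Subgroup G}
    (hQ : IsPiHall {p}ᶜ Q) : IsCarterSubgroup (Subgroup.normalizer (Q : Set G)) := by
  refine ⟨nilpotent_normalizer_hall hp hker hQ, le_antisymm (fun g hg => ?_) Subgroup.le_normalizer⟩
  have hQ' := PiHall.isPiHallOf_of_le hQ Subgroup.le_normalizer
  have hQ'' := PiHall.of_conj_smul hQ' hg
  exact Pi.conj_smul_eq_iff_mem_normalizer.mp (PiHall.eq_of_le (PiHall.smul _ hQ)
    (PiHall.card_pi hQ) (PiHall.of_le_of_normal hQ' le_rfl hQ''.1 (PiHall.of_card_pi hQ'')))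

end PByNilpotent

theorem exists_aux (n : ℕ) : ∀ (G : Type u) [Group G] [Finite G] [Group.IsSolvable G],
    Nat.card G = n → ∃ C : Subgroup G, IsCarterSubgroup C := by
  induction n using Nat.strong_induction_on with
  | _ n ih =>
  intro G _ _ _ hn
  rcases subsingleton_or_nontrivial G with hG | hG
  · exact ⟨⊤, inferInstance, Subgroup.normalizer_eq_top ⊤⟩
  obtain ⟨p, N, hp, hc, hN, hpN, -⟩ := Hall.exists_char_abelian_pgroup G
  obtain ⟨Cb, hCb⟩ := ih _ (hn ▸ Hall.card_quotient_lt hN) (G ⧸ N) rfl
  have hs := QuotientGroup.mk'_surjective N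
  set K := Cb.comap (QuotientGroup.mk' N) with hK
  have hKn : Subgroup.normalizer (K : Set G) = K := by
    rw [hK, ← Subgroup.comap_normalizer_eq_of_surjective _ hs, hCb.2]
  have := hCb.1
  let f : K →* Cb := (QuotientGroup.mk' N).subgroupComap Cb
  have hf : Function.Surjective f := MonoidHom.subgroupComap_surjective_of_surjective _ _ hs
  have hker : f.ker = N.subgroupOf K := by
    ext x
    rw [MonoidHom.mem_ker, Subgroup.mem_subgroupOf, ← QuotientGroup.eq_one_iff, Subtype.ext_iff]
    rfl
  have hkp : IsPGroup p f.ker := hker ▸ hpN.comap_subtype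
  obtain ⟨Q, hQ⟩ := Hall.exists_isPiHall {p}ᶜ K
  have hC := isCarterSubgroup_normalizer_hall hp hkp hQ
  have hsup := ker_sup_normalizer_hall hf hp hkp hQ
  set C := Subgroup.normalizer (Q : Set K) with hCdef
  have hNK : N ≤ K := fun x hx => by
    rw [hK, Subgroup.mem_comap, QuotientGroup.mk'_apply, (QuotientGroup.eq_one_iff x).mpr hx]
    exact Cb.one_mem
  have hsup' : C.map K.subtype ⊔ N = K := by
    conv_lhs => rw [← Subgroup.map_subgroupOf_eq_of_le hNK]
    rw [← Subgroup.map_sup, ← hker, sup_comm, hsup, ← MonoidHom.range_eq_map,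
      Subgroup.range_subtype]
  refine ⟨C.map K.subtype, (Group.isNilpotent_congr
    (C.equivMapOfInjective _ K.subtype_injective)).mp hC.1,
    le_antisymm (fun g hg => ?_) Subgroup.le_normalizer⟩
  have hgK : g ∈ K := by
    rw [← hKn, ← hsup']
    exact Subgroup.normalizer_le_normalizer_sup_normal hg
  have h1 : (⟨g, hgK⟩ : K) ∈ (Subgroup.normalizer (C.map K.subtype : Set G)).subgroupOf K := hg
  have h2 : (C.map K.subtype).subgroupOf K = C :=
    Subgroup.comap_map_eq_self_of_injective K.subtype_injective C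
  rw [Subgroup.subgroupOf_normalizer_eq (Subgroup.map_subtype_le C), h2, hC.2] at h1
  exact ⟨_, h1, rfl⟩

/-- A finite solvable group has a Carter subgroup. -/
theorem exists_isCarterSubgroup (G : Type*) [Group G] [Finite G] [Group.IsSolvable G] :
    ∃ C : Subgroup G, IsCarterSubgroup C :=
  exists_aux _ G rfl

/-- If the Carter subgroups of `K ≥ C` are conjugate then `K` is self-normalising. -/
theorem normalizer_eq_of_conj {C K : Subgroup G} (hC : IsCarterSubgroup C) (h : C ≤ K)
    (hconj : ∀ D E : Subgroup K, IsCarterSubgroup D → IsCarterSubgroup E →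
      ∃ g : K, MulAut.conj g • D = E) : Subgroup.normalizer (K : Set G) = K := by
  refine le_antisymm (fun g hg => ?_) Subgroup.le_normalizer
  have h1 : MulAut.conj g • C ≤ K := by
    rw [← Pi.conj_smul_eq_iff_mem_normalizer.mpr hg]
    exact Subgroup.pointwise_smul_le_pointwise_smul_iff.mpr h
  obtain ⟨k, hk⟩ := hconj _ _ (subgroupOf (smul (MulAut.conj g) hC) h1) (subgroupOf hC h)
  rw [← Pi.subgroupOf_conj_smul, ← mul_smul, ← map_mul] at hk
  have h2 : MulAut.conj ((k : G) * g) • C ≤ K := by
    rw [map_mul, mul_smul]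
    exact Subgroup.conj_smul_le_of_le h1 k
  have h3 : MulAut.conj ((k : G) * g) • C = C := by
    rw [← Subgroup.map_subgroupOf_eq_of_le h2, hk, Subgroup.map_subgroupOf_eq_of_le h]
  have h4 : (k : G) * g ∈ K := h (hC.2 ▸ Pi.conj_smul_eq_iff_mem_normalizer.mp h3)
  exact (K.mul_mem_cancel_left k.2).mp h4

theorem map_of_normalizer_eq {G' : Type*} [Group G'] {f : G →* G'} (hf : Function.Surjective f)
    {C : Subgroup G} (hC : Group.IsNilpotent C)
    (h : Subgroup.normalizer ((C ⊔ f.ker : Subgroup G) : Set G) = C ⊔ f.ker) :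
    IsCarterSubgroup (C.map f) := by
  refine ⟨Group.nilpotent_of_surjective _ (f.subgroupMap_surjective C), ?_⟩
  apply Subgroup.comap_injective hf
  rw [Subgroup.comap_normalizer_eq_of_surjective _ hf, Subgroup.comap_map_eq, h]

theorem conj_aux (n : ℕ) : ∀ (G : Type u) [Group G] [Finite G] [Group.IsSolvable G],
    Nat.card G = n → ∀ C D : Subgroup G, IsCarterSubgroup C → IsCarterSubgroup D →
      ∃ g : G, MulAut.conj g • C = D := by
  induction n using Nat.strong_induction_on with
  | _ n ih =>
  intro G _ _ _ hn C D hC hD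
  rcases subsingleton_or_nontrivial G with hG | hG
  · exact ⟨1, Subsingleton.elim _ _⟩
  obtain ⟨p, N, hp, hc, hN, hpN, -⟩ := Hall.exists_char_abelian_pgroup G
  have hs := QuotientGroup.mk'_surjective N
  have hmap : ∀ C : Subgroup G, IsCarterSubgroup C →
      IsCarterSubgroup (C.map (QuotientGroup.mk' N)) := by
    intro C hC
    refine map_of_normalizer_eq hs hC.1 ?_
    rcases eq_or_ne (C ⊔ (QuotientGroup.mk' N).ker) ⊤ with h | h
    · rw [h]; exact Subgroup.normalizer_eq_top ⊤
    · exact normalizer_eq_of_conj hC le_sup_left (ih _ (hn ▸ Hall.card_lt_of_ne_top h) _ rfl)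
  obtain ⟨gb, hgb⟩ := ih _ (hn ▸ Hall.card_quotient_lt hN) (G ⧸ N) rfl _ _ (hmap C hC) (hmap D hD)
  obtain ⟨g, rfl⟩ := hs gb
  rw [← Pi.map_conj_smul] at hgb
  have hC' := smul (MulAut.conj g) hC
  suffices h : ∃ a : G, MulAut.conj a • MulAut.conj g • C = D by
    obtain ⟨a, ha⟩ := h
    exact ⟨a * g, by rwa [map_mul, mul_smul]⟩
  generalize MulAut.conj g • C = E at hgb hC'
  have hsup : E ⊔ N = D ⊔ N := by
    have := congrArg (Subgroup.comap (QuotientGroup.mk' N)) hgb
    rwa [Subgroup.comap_map_eq, Subgroup.comap_map_eq, QuotientGroup.ker_mk'] at this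
  rcases eq_or_ne (D ⊔ N) ⊤ with h | h
  · -- `G / N` is nilpotent
    have hnil : Group.IsNilpotent (G ⧸ N) := by
      have := hD.1
      refine Group.nilpotent_of_surjective ((QuotientGroup.mk' N).comp D.subtype) fun q => ?_
      obtain ⟨x, rfl⟩ := hs q
      have : x ∈ (D : Set G) * N := by rw [← Subgroup.mul_normal, h]; trivial
      obtain ⟨a, ha, b, hb, rfl⟩ := this
      refine ⟨⟨a, ha⟩, QuotientGroup.eq.mpr ?_⟩
      simpa using hb
    have hkp : IsPGroup p (QuotientGroup.mk' N).ker := by rwa [QuotientGroup.ker_mk']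
    have key : ∀ D : Subgroup G, IsCarterSubgroup D → D ⊔ N = ⊤ →
        ∃ Q : Subgroup G, IsPiHall {p}ᶜ Q ∧ D = Subgroup.normalizer (Q : Set G) := by
      intro D hD h
      have := hD.1
      obtain ⟨Q, hQ⟩ := Hall.exists_isPiHallOf {p}ᶜ D
      have hidx : D.relIndex N = D.index := Pi.relIndex_eq_index_of_exists_mul_eq fun x => by
        have : x ∈ (D : Set G) * N := by rw [← Subgroup.mul_normal, h]; trivial
        obtain ⟨a, ha, b, hb, rfl⟩ := this
        exact ⟨a, ha, b, hb, rfl⟩
      have hQ' : IsPiHall {p}ᶜ Q := PiHall.isPiHall_of_index hQ (by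
        rw [← hidx, IsPiNum.compl_compl]
        exact ((Pi.isPGroup_iff_isPiNum hp).mp hpN).of_dvd (Subgroup.relIndex_dvd_card D N))
      have := nilpotent_normalizer_hall hp hkp hQ'
      exact ⟨Q, hQ', eq_of_le_of_nilpotent (inf_le_left.trans hD.2.le)
        (Hall.le_normalizer_of_nilpotent hQ)⟩
    obtain ⟨Q, hQ, rfl⟩ := key E hC' (hsup.trans h)
    obtain ⟨R, hR, rfl⟩ := key D hD h
    obtain ⟨a, ha⟩ := Hall.exists_conj_eq hQ hR
    exact ⟨a, by rw [← normalizer_smul, ha]⟩
  · have hE : E ≤ D ⊔ N := hsup ▸ le_sup_left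
    obtain ⟨a, ha⟩ := ih _ (hn ▸ Hall.card_lt_of_ne_top h) _ rfl _ _ (subgroupOf hC' hE)
      (subgroupOf hD le_sup_left)
    refine ⟨a, ?_⟩
    rw [← Pi.subgroupOf_conj_smul] at ha
    rw [← Subgroup.map_subgroupOf_eq_of_le (Subgroup.conj_smul_le_of_le hE a), ha,
      Subgroup.map_subgroupOf_eq_of_le le_sup_left]

/-- Carter subgroups of a finite solvable group are conjugate. -/
theorem exists_conj_eq [Finite G] [Group.IsSolvable G] {C D : Subgroup G}
    (hC : IsCarterSubgroup C) (hD : IsCarterSubgroup D) : ∃ g : G, MulAut.conj g • C = D :=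
  conj_aux _ G rfl C D hC hD

/-- Every solvable subgroup containing a Carter subgroup is self-normalising. -/
theorem normalizer_eq_of_le [Finite G] {C K : Subgroup G} [Group.IsSolvable K]
    (hC : IsCarterSubgroup C) (h : C ≤ K) : Subgroup.normalizer (K : Set G) = K :=
  normalizer_eq_of_conj hC h fun _ _ => exists_conj_eq

/-- The image of a Carter subgroup of a finite solvable group is a Carter subgroup. -/
theorem map_of_surjective [Finite G] [Group.IsSolvable G] {G' : Type*} [Group G'] {f : G →* G'}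
    (hf : Function.Surjective f) {C : Subgroup G} (hC : IsCarterSubgroup C) :
    IsCarterSubgroup (C.map f) :=
  map_of_normalizer_eq hf hC.1 (normalizer_eq_of_le hC le_sup_left)

/-- A Carter subgroup covers every nilpotent quotient. -/
theorem map_eq_top_of_nilpotent [Finite G] [Group.IsSolvable G] {G' : Type*} [Group G']
    [Group.IsNilpotent G'] {f : G →* G'} (hf : Function.Surjective f) {C : Subgroup G}
    (hC : IsCarterSubgroup C) : C.map f = ⊤ :=
  eq_of_le_of_nilpotent (inf_le_left.trans (map_of_surjective hf hC).2.le) le_top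

end Carter

end CL
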