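import Cfsg.Agent.Solv.Pi
import Cfsg.Agent.Solv.Fitting
import Cfsg.Agent.S0034

/-!
# Schmidt's theorem: a finite group all of whose maximal subgroups are nilpotent is solvable
-/

open Cfsg
open scoped Pointwise

namespace CL

namespace Schmidt

universe u

theorem isCoatom_smul {G α : Type*} [Group G] [Group α] [MulDistribMulAction α G] (a : α)
    {M : Subgroup G} (hM : IsCoatom M) : IsCoatom (a • M) := by
  refine ⟨fun h => hM.1 ?_, fun K hK => ?_⟩
  · rw [← Subgroup.index_eq_one] at h ⊢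
    rwa [Pi.index_smul] at h
  · have h1 : M < a⁻¹ • K := lt_of_le_of_ne (Subgroup.pointwise_smul_subset_iff.mp hK.le)
      fun h => hK.ne (by rw [h, smul_inv_smul])
    have h2 := hM.2 _ h1
    rw [← Subgroup.index_eq_one] at h2 ⊢
    rwa [Pi.index_smul] at h2

/-- In a finite non-solvable simple group some two distinct maximal subgroups meet
nontrivially. -/
theorem exists_coatoms_inf_ne_bot (G : Type*) [Group G] [Finite G] [IsSimpleGroup G]
    (hG : ¬ Group.IsSolvable G) :
    ∃ M N : Subgroup G, IsCoatom M ∧ IsCoatom N ∧ M ≠ N ∧ M ⊓ N ≠ ⊥ := by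
  by_contra hcon
  push Not at hcon
  have hx : ∀ x : G, ∃ M : Subgroup G, IsCoatom M ∧ x ∈ M := fun x => by
    rcases eq_top_or_exists_le_coatom (Subgroup.zpowers x) with h | ⟨M, hM, hle⟩
    · have : IsCyclic G := ⟨⟨x, fun y => (h ▸ Subgroup.mem_top y : y ∈ Subgroup.zpowers x)⟩⟩
      exact absurd (Group.isSolvable_of_comm fun a b =>
        (IsCyclic.commGroup (α := G)).mul_comm a b) hG
    · exact ⟨M, hM, hle (Subgroup.mem_zpowers x)⟩
  have hne : ∀ M : Subgroup G, IsCoatom M → M ≠ ⊥ := by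
    rintro M hM rfl
    obtain ⟨x, hx1⟩ := exists_ne (1 : G)
    obtain ⟨N, hN, hxN⟩ := hx x
    exact hN.1 (hM.2 N (bot_lt_iff_ne_bot.mpr fun h => hx1 (Subgroup.mem_bot.mp (h ▸ hxN))))
  have hfrob : ∀ M : Subgroup G, IsCoatom M → IsFrobeniusComplement M := fun M hM => by
    refine ⟨hne M hM, hM.1, fun g hg => hcon _ _ hM (isCoatom_smul _ hM) fun h => hg ?_⟩
    have h1 : g ∈ Subgroup.normalizer (M : Set G) := Pi.conj_smul_eq_iff_mem_normalizer.mp h.symm
    rcases (Subgroup.le_normalizer : M ≤ _).eq_or_lt with h2 | h2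
    · exact h2 ▸ h1
    · rcases (Subgroup.normalizer_eq_top_iff.mp (hM.2 _ h2)).eq_bot_or_eq_top with h3 | h3
      · exact absurd h3 (hne M hM)
      · exact absurd h3 hM.1
  have hidx : ∀ M : Subgroup G, IsCoatom M → 2 * M.index ≤ Nat.card G := fun M hM => by
    rw [← M.card_mul_index]
    exact Nat.mul_le_mul_right _ ((Subgroup.one_lt_card_iff_ne_bot M).mpr (hne M hM))
  obtain ⟨M, hM, -⟩ := hx 1
  have hKM : (frobeniusKernel M).ncard = M.index := (Cfsg.Agent.S0034.result M (hfrob M hM)).1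
  obtain ⟨x, hxK, hx1⟩ := Set.exists_ne_of_one_lt_ncard
    (hKM ▸ Subgroup.one_lt_index_of_ne_top hM.1) (1 : G)
  obtain ⟨N, hN, hxN⟩ := hx x
  have hKN : (frobeniusKernel N).ncard = N.index := (Cfsg.Agent.S0034.result N (hfrob N hN)).1
  have hunion : frobeniusKernel M ∪ frobeniusKernel N = Set.univ := by
    rw [Set.eq_univ_iff_forall]
    intro y
    by_contra hy
    simp only [frobeniusKernel, Set.mem_union, Set.mem_ofPred_eq, not_or, not_forall, not_not] at hy
    obtain ⟨⟨hy1, g, hg⟩, -, k, hk⟩ := hy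
    have h1 : MulAut.conj g • M = MulAut.conj k • N := by
      by_contra h
      have := hcon _ _ (isCoatom_smul _ hM) (isCoatom_smul _ hN) h
      exact hy1 (Subgroup.mem_bot.mp (this ▸ ⟨hg, hk⟩))
    refine hxK.resolve_left hx1 (k⁻¹ * g) ?_
    rw [map_mul, mul_smul, h1, map_inv, inv_smul_smul]
    exact hxN
  have h1 := Set.ncard_union_add_ncard_inter (frobeniusKernel M) (frobeniusKernel N)
  have h2 : 0 < (frobeniusKernel M ∩ frobeniusKernel N).ncard :=
    (Set.ncard_pos (Set.toFinite _)).mpr ⟨1, Or.inl rfl, Or.inl rfl⟩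
  rw [hunion, Set.ncard_univ, hKM, hKN] at h1
  have := hidx M hM
  have := hidx N hN
  omega

/-- If all maximal subgroups of a finite simple group are nilpotent, distinct ones meet
trivially. -/
theorem inf_eq_bot_of_nilpotent {G : Type*} [Group G] [Finite G] [IsSimpleGroup G]
    (h : ∀ M : Subgroup G, IsCoatom M → Group.IsNilpotent M) {M N : Subgroup G} (hM : IsCoatom M)
    (hN : IsCoatom N) (hMN : M ≠ N) : M ⊓ N = ⊥ := by
  by_contra hne
  obtain ⟨D, ⟨hD, M, N, hM, hN, hMN, rfl⟩, hmax⟩ := (Set.toFinite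
    {D : Subgroup G | D ≠ ⊥ ∧ ∃ M N, IsCoatom M ∧ IsCoatom N ∧ M ≠ N ∧ D = M ⊓ N}).exists_maximal
    ⟨M ⊓ N, hne, M, N, hM, hN, hMN, rfl⟩
  have hnorm : Subgroup.normalizer ((M ⊓ N : Subgroup G) : Set G) ≠ ⊤ := fun h1 => by
    rcases (Subgroup.normalizer_eq_top_iff.mp h1).eq_bot_or_eq_top with h2 | h2
    · exact hD h2
    · exact hM.1 (top_le_iff.mp (h2 ▸ inf_le_left))
  obtain ⟨L, hL, hle⟩ := (eq_top_or_exists_le_coatom _).resolve_left hnorm
  have key : ∀ M' : Subgroup G, IsCoatom M' → M ⊓ N < M' → L = M' := by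
    intro M' hM' hlt
    have := h M' hM'
    have h1 := lt_inf_normalizer_of_isNilpotent hlt
    have h2 : M ⊓ N < L ⊓ M' := h1.trans_le (le_inf (inf_le_right.trans hle) inf_le_left)
    by_contra hLM
    exact h2.not_ge (hmax ⟨fun h3 => hD (le_bot_iff.mp (h3 ▸ h2.le)), L, M', hL, hM', hLM, rfl⟩
      h2.le)
  have h1 : M ⊓ N < M := lt_of_le_of_ne inf_le_left fun h3 =>
    hMN ((hM.le_iff.mp (inf_eq_left.mp h3)).resolve_left hN.1).symm
  have h2 : M ⊓ N < N := lt_of_le_of_ne inf_le_right fun h3 =>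
    hMN ((hN.le_iff.mp (inf_eq_right.mp h3)).resolve_left hM.1)
  exact hMN ((key M hM h1).symm.trans (key N hN h2))

theorem solvable_aux (n : ℕ) : ∀ (G : Type u) [Group G] [Finite G], Nat.card G = n →
    (∀ M : Subgroup G, IsCoatom M → Group.IsNilpotent M) → Group.IsSolvable G := by
  induction n using Nat.strong_induction_on with
  | _ n ih =>
  intro G _ _ hn h
  rcases subsingleton_or_nontrivial G with hG | hG
  · infer_instance
  by_cases hs : IsSimpleGroup G
  · by_contra hG
    obtain ⟨M, N, hM, hN, hMN, hne⟩ := exists_coatoms_inf_ne_bot G hG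
    exact hne (inf_eq_bot_of_nilpotent h hM hN hMN)
  · obtain ⟨N, hNn, hN, hN'⟩ : ∃ N : Subgroup G, N.Normal ∧ N ≠ ⊥ ∧ N ≠ ⊤ := by
      by_contra hcon
      push Not at hcon
      exact hs ⟨fun N hN => or_iff_not_imp_left.mpr (hcon N hN)⟩
    obtain ⟨M, hM, hle⟩ := (eq_top_or_exists_le_coatom N).resolve_left hN'
    have := h M hM
    have h1 : Group.IsSolvable N :=
      Group.isSolvable_of_isSolvable_injective (Subgroup.inclusion_injective hle)
    have hsurj := QuotientGroup.mk'_surjective N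
    refine (Group.isSolvable_iff_subgroup_quotient N).mpr
      ⟨h1, ih _ (hn ▸ card_quotient_lt N hN) _ rfl fun K hK => ?_⟩
    have := h _ (Subgroup.isCoatom_comap_of_surjective hsurj hK)
    exact Group.nilpotent_of_surjective _ (MonoidHom.subgroupComap_surjective_of_surjective _ K hsurj)

/-- **Schmidt**: if all maximal subgroups are nilpotent the group is solvable. -/
theorem solvable_of_coatoms_nilpotent {G : Type*} [Group G] [Finite G]
    (h : ∀ M : Subgroup G, IsCoatom M → Group.IsNilpotent M) : Group.IsSolvable G :=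
  solvable_aux _ G rfl h

end Schmidt

end CL
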