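import Cfsg.Agent.Base
import Cfsg.Agent.Solv.Factor
import Cfsg.Agent.Solv.Fitting

/-!
The `p`-part of a nilpotent subgroup, Sylow subgroups of products, Kegel's lemma on permutable
conjugates and Wielandt's subnormality lemma.
-/

set_option autoImplicit false

open scoped Pointwise

namespace CL

open Cj Cfsg

variable {G : Type*} [Group G]

/-- The join of all `p`-subgroups of `H`; for nilpotent `H` its Sylow `p`-subgroup. -/
def pPart (p : ℕ) (H : Subgroup G) : Subgroup G := sSup {Q | Q ≤ H ∧ IsPGroup p Q}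

section pPart

variable {p : ℕ} {H Q K : Subgroup G}

theorem pPart_le (p : ℕ) (H : Subgroup G) : pPart p H ≤ H := sSup_le fun _ hQ => hQ.1

theorem le_pPart (h : Q ≤ H) (hQ : IsPGroup p Q) : Q ≤ pPart p H := le_sSup ⟨h, hQ⟩

theorem pPart_mono (h : H ≤ K) : pPart p H ≤ pPart p K :=
  sSup_le fun _ hQ => le_pPart (hQ.1.trans h) hQ.2

theorem normalizer_le_normalizer_pPart (p : ℕ) (H : Subgroup G) :
    Subgroup.normalizer (H : Set G) ≤ Subgroup.normalizer (pPart p H : Set G) :=
  le_normalizer_sSup fun k hk _ hU => ⟨conj_le_of_mem_normalizer hk hU.1, isPGroup_conj k hU.2⟩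

theorem le_normalizer_pPart (p : ℕ) (H : Subgroup G) :
    H ≤ Subgroup.normalizer (pPart p H : Set G) :=
  Subgroup.le_normalizer.trans (normalizer_le_normalizer_pPart p H)

theorem normIn_pPart (p : ℕ) (H : Subgroup G) : NormIn (pPart p H) H :=
  ⟨pPart_le p H, le_normalizer_pPart p H⟩

theorem conj_pPart (p : ℕ) (g : G) (H : Subgroup G) :
    MulAut.conj g • pPart p H = pPart p (MulAut.conj g • H) := by
  have key : ∀ (g : G) (H : Subgroup G),
      MulAut.conj g • pPart p H ≤ pPart p (MulAut.conj g • H) := by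
    intro g H
    rw [pPart, conj_sSup]
    exact iSup₂_le fun Q hQ => le_pPart (conj_mono g hQ.1) (isPGroup_conj g hQ.2)
  refine le_antisymm (key g H) ?_
  rw [le_conj_iff]
  have := key g⁻¹ (MulAut.conj g • H)
  rwa [conj_inv_conj] at this

theorem isPGroup_pPart [Finite G] (p : ℕ) (hH : Group.IsNilpotent H) :
    IsPGroup p (pPart p H) := by
  refine (isPGroup_map_subtype_pCore p H).to_le (sSup_le fun Q hQ => ?_)
  rw [← Subgroup.map_subgroupOf_eq_of_le hQ.1]
  exact Subgroup.map_mono (le_pCore_of_isNilpotent hQ.2.comap_subtype)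

theorem map_sylow_le_pPart (P : Sylow p H) : (P : Subgroup H).map H.subtype ≤ pPart p H :=
  le_pPart (Subgroup.map_subtype_le _) (P.isPGroup'.map _)

theorem not_dvd_relIndex_pPart [Finite G] [Fact p.Prime] (H : Subgroup G) :
    ¬ p ∣ (pPart p H).relIndex H := by
  obtain ⟨P⟩ : Nonempty (Sylow p H) := inferInstance
  exact fun h => P.not_dvd_index (h.trans (Subgroup.index_dvd_of_le
    (Subgroup.map_le_iff_le_comap.1 (map_sylow_le_pPart P))))

theorem map_sylow_eq_pPart [Finite G] (hH : Group.IsNilpotent H) (P : Sylow p H) :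
    (P : Subgroup H).map H.subtype = pPart p H := by
  refine le_antisymm (map_sylow_le_pPart P) ?_
  have h := P.is_maximal' (isPGroup_pPart p hH).comap_subtype
    (Subgroup.map_le_iff_le_comap.1 (map_sylow_le_pPart P))
  rw [← Subgroup.map_subgroupOf_eq_of_le (pPart_le p H)]
  exact Subgroup.map_mono h.le

theorem le_of_forall_pPart_le [Finite G] (h : ∀ p : ℕ, p.Prime → pPart p H ≤ K) : H ≤ K :=
  le_of_forall_isPGroup_le fun p hp _ h1 h2 => (le_pPart h2 h1).trans (h p hp.out)

theorem isPGroup_zpowers_of_pow_eq_one {x : G} {k : ℕ} (hx : x ^ p ^ k = 1) :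
    IsPGroup p (Subgroup.zpowers x) :=
  IsPGroup.of_card_dvd_pow (n := k) (by
    rw [Nat.card_zpowers]; exact orderOf_dvd_of_pow_eq_one hx)

theorem mem_pPart_of_pow_eq_one {x : G} (hxH : x ∈ H) {k : ℕ} (hx : x ^ p ^ k = 1) :
    x ∈ pPart p H :=
  le_pPart (Subgroup.zpowers_le.2 hxH) (isPGroup_zpowers_of_pow_eq_one hx) (Subgroup.mem_zpowers x)

theorem mem_pPart_of_orderOf_eq {x : G} (hxH : x ∈ H) (hx : orderOf x = p) : x ∈ pPart p H :=
  mem_pPart_of_pow_eq_one hxH (k := 1) (by rw [pow_one, ← hx, pow_orderOf_eq_one])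

theorem pPart_ne_bot [Finite G] [Fact p.Prime] (h : p ∣ Nat.card H) : pPart p H ≠ ⊥ := by
  intro h0
  apply not_dvd_relIndex_pPart (p := p) H
  rwa [h0, Subgroup.relIndex_bot_left]

theorem pPart_eq_bot [Finite G] [Fact p.Prime] (h : ¬ p ∣ Nat.card H) : pPart p H = ⊥ := by
  refine le_bot_iff.1 (sSup_le fun Q hQ => ?_)
  rcases hQ.2.card_eq_or_dvd with h1 | h1
  · exact (Subgroup.card_eq_one.1 h1).le
  · exact absurd (h1.trans (Subgroup.card_dvd_of_le hQ.1)) h

theorem pPart_le_centralizer_of_isPGroup [Finite G] {q : ℕ} [Fact p.Prime] [Fact q.Prime]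
    (hH : Group.IsNilpotent H) (hpq : p ≠ q) (hQH : Q ≤ H) (hQ : IsPGroup q Q) :
    pPart p H ≤ Subgroup.centralizer (Q : Set G) :=
  le_centralizer_of_le_isNilpotent_of_coprime (pPart_le p H) hQH
    (IsPGroup.coprime_card_of_ne p q hpq _ _ (isPGroup_pPart p hH) hQ)

/-- The `p`-part of a nilpotent subgroup of index prime to `p` is a Sylow subgroup. -/
theorem exists_sylow_eq_pPart [Finite G] [Fact p.Prime] (hH : Group.IsNilpotent H)
    (h : ¬ p ∣ H.index) : ∃ P : Sylow p G, (P : Subgroup G) = pPart p H := by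
  refine ⟨(isPGroup_pPart p hH).toSylow ?_, rfl⟩
  rw [← Subgroup.relIndex_mul_index (pPart_le p H), (Fact.out : p.Prime).dvd_mul]
  exact fun h' => h'.elim (not_dvd_relIndex_pPart H) h

/-- Every `p`-subgroup is conjugate into a subgroup of index prime to `p`. -/
theorem exists_le_conj_of_isPGroup [Finite G] [Fact p.Prime] (hQ : IsPGroup p Q)
    (h : ¬ p ∣ H.index) : ∃ g : G, Q ≤ MulAut.conj g • H := by
  obtain ⟨P⟩ : Nonempty (Sylow p H) := inferInstance
  have h1 : ¬ p ∣ ((P : Subgroup H).map H.subtype).index := by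
    rw [Subgroup.index_map_subtype, (Fact.out : p.Prime).dvd_mul]
    exact fun h' => h'.elim P.not_dvd_index h
  obtain ⟨R, hR⟩ := hQ.exists_le_sylow
  obtain ⟨g, hg⟩ := MulAction.exists_smul_eq G ((P.isPGroup'.map H.subtype).toSylow h1) R
  refine ⟨g, hR.trans ?_⟩
  rw [← hg, coe_sylow_smul]
  exact conj_mono g (Subgroup.map_subtype_le _)

end pPart

namespace IsProd

variable {S A B : Subgroup G}

/-- A subgroup `R` of `S = AB` containing large enough parts `P` of `A` and `Q` of `B` is `PQ`. -/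
theorem of_coprime_of_le [Finite G] (h : IsProd S A B) {R P Q : Subgroup G} (hPA : P ≤ A)
    (hQB : Q ≤ B) (hPR : P ≤ R) (hQR : Q ≤ R) (hRS : R ≤ S)
    (hP : (Nat.card R).Coprime (P.relIndex A)) (hQ : (Nat.card R).Coprime (Q.relIndex B)) :
    IsProd R P Q := by
  refine of_card_le hPR hQR (Nat.le_of_dvd (Nat.mul_pos Nat.card_pos Nat.card_pos) ?_)
  have h1 : Nat.card R * Nat.card (P ⊓ Q : Subgroup G) ∣
      Nat.card P * Nat.card Q * (P.relIndex A * Q.relIndex B) := by
    have h2 := h.card_mul_card_inf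
    rw [← card_mul_relIndex_eq hPA, ← card_mul_relIndex_eq hQB] at h2
    rw [show Nat.card P * Nat.card Q * (P.relIndex A * Q.relIndex B) =
      Nat.card P * P.relIndex A * (Nat.card Q * Q.relIndex B) by ring, ← h2]
    exact Nat.mul_dvd_mul (Subgroup.card_dvd_of_le hRS)
      (Subgroup.card_dvd_of_le (inf_le_inf hPA hQB))
  have h3 : (Nat.card R).Coprime (P.relIndex A * Q.relIndex B) := Nat.Coprime.mul_right hP hQ
  exact (Nat.Coprime.mul_left h3
    (h3.coprime_dvd_left (Subgroup.card_dvd_of_le (inf_le_left.trans hPR)))).dvd_of_dvd_mul_right h1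

/-- Sylow subgroups of a product. -/
theorem exists_sylow [Finite G] (h : IsProd ⊤ A B) (p : ℕ) [Fact p.Prime] :
    ∃ (P : Sylow p A) (Q : Sylow p B) (R : Sylow p G),
      IsProd (R : Subgroup G) ((P : Subgroup A).map A.subtype) ((Q : Subgroup B).map B.subtype) := by
  obtain ⟨P₀⟩ : Nonempty (Sylow p A) := inferInstance
  obtain ⟨Q₀⟩ : Nonempty (Sylow p B) := inferInstance
  obtain ⟨R₀, hR₀⟩ := (P₀.isPGroup'.map A.subtype).exists_le_sylow
  obtain ⟨R₁, hR₁⟩ := (Q₀.isPGroup'.map B.subtype).exists_le_sylow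
  obtain ⟨x, rfl⟩ := MulAction.exists_smul_eq G R₀ R₁
  obtain ⟨b, hb, a, ha, rfl⟩ := h.symm.exists_mul (Subgroup.mem_top x)
  have aux : ∀ {H : Subgroup G} (T : Sylow p H) (y : H),
      ((y • T : Sylow p H) : Subgroup H).map H.subtype =
        MulAut.conj (y : G) • (T : Subgroup H).map H.subtype := by
    intro H T y
    rw [coe_sylow_smul, conj_eq_map, conj_eq_map, Subgroup.map_map, Subgroup.map_map]
    rfl
  have aux2 : ∀ {H : Subgroup G} (T : Sylow p H) (R : Sylow p G),
      (Nat.card (R : Subgroup G)).Coprime (((T : Subgroup H).map H.subtype).relIndex H) := by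
    intro H T R
    obtain ⟨n, hn⟩ := R.isPGroup'.exists_card_eq
    rw [hn, Subgroup.relIndex, Subgroup.subgroupOf,
      Subgroup.comap_map_eq_self_of_injective H.subtype_injective]
    exact ((Nat.Prime.coprime_iff_not_dvd Fact.out).2 T.not_dvd_index).pow_left n
  refine ⟨(⟨a, ha⟩ : A) • P₀, (⟨b⁻¹, B.inv_mem hb⟩ : B) • Q₀, a • R₀,
    h.of_coprime_of_le (Subgroup.map_subtype_le _) (Subgroup.map_subtype_le _) ?_ ?_ le_top
    (aux2 _ _) (aux2 _ _)⟩
  · rw [aux, coe_sylow_smul]
    exact conj_mono a hR₀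
  · rw [aux, coe_sylow_smul, conj_le_iff, inv_inv, Cj.conj_conj]
    exact hR₁

/-- For nilpotent factors the product of the `p`-parts is a Sylow subgroup. -/
theorem exists_sylow_pPart [Finite G] (h : IsProd ⊤ A B) (hA : Group.IsNilpotent A)
    (hB : Group.IsNilpotent B) (p : ℕ) [Fact p.Prime] :
    ∃ R : Sylow p G, IsProd (R : Subgroup G) (pPart p A) (pPart p B) := by
  obtain ⟨P, Q, R, hR⟩ := h.exists_sylow p
  rw [map_sylow_eq_pPart hA, map_sylow_eq_pPart hB] at hR
  exact ⟨R, hR⟩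

theorem sSup_left [Finite G] {F : Set (Subgroup G)} (h : ∀ X ∈ F, IsProd (X ⊔ B) X B) :
    IsProd (sSup F ⊔ B) (sSup F) B := by
  refine sSup_subgroup_induction F (fun X => IsProd (X ⊔ B) X B) ?_ ?_ h
  · rw [bot_sup_eq]; exact of_le_right bot_le
  · intro X Y hX hY
    exact hX.sup_left hY

theorem iSup_left [Finite G] {ι : Sort*} {F : ι → Subgroup G} (h : ∀ i, IsProd (F i ⊔ B) (F i) B) :
    IsProd ((⨆ i, F i) ⊔ B) (⨆ i, F i) B := by
  rw [← sSup_range]
  exact sSup_left (by rintro _ ⟨i, rfl⟩; exact h i)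

end IsProd

/-- `A` permutes with all conjugates of `B` under `V`. -/
def PermConj (V A B : Subgroup G) : Prop :=
  ∀ v ∈ V, IsProd (A ⊔ MulAut.conj v • B) A (MulAut.conj v • B)

namespace PermConj

variable {V A B : Subgroup G}

theorem isProd (h : PermConj V A B) : IsProd (A ⊔ B) A B := by
  have := h 1 V.one_mem
  rwa [conj_one] at this

theorem conj_conj (h : PermConj V A B) {x y : G} (hx : x ∈ V) (hy : y ∈ V) :
    IsProd (MulAut.conj x • A ⊔ MulAut.conj y • B) (MulAut.conj x • A) (MulAut.conj y • B) := by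
  have := (h (x⁻¹ * y) (V.mul_mem (V.inv_mem hx) hy)).conj x
  rw [Cj.conj_conj, mul_inv_cancel_left] at this
  exact this.to_sup

protected theorem symm (h : PermConj V A B) : PermConj V B A := by
  intro v hv
  have := (h.conj_conj hv V.one_mem).symm
  rw [conj_one] at this
  exact this.to_sup

theorem conj_left (h : PermConj V A B) {x : G} (hx : x ∈ V) : PermConj V (MulAut.conj x • A) B :=
  fun _ hv => h.conj_conj hx hv

theorem sup_left {A' : Subgroup G} (h : PermConj V A B) (h' : PermConj V A' B) :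
    PermConj V (A ⊔ A') B := fun v hv => (h v hv).sup_left (h' v hv)

theorem iSup_left [Finite G] {ι : Sort*} {F : ι → Subgroup G} (h : ∀ i, PermConj V (F i) B) :
    PermConj V (⨆ i, F i) B := fun v hv => IsProd.iSup_left fun i => h i v hv

theorem iSup_conj_left [Finite G] (h : PermConj V A B) {S : Subgroup G} (hS : S ≤ V) :
    PermConj V (⨆ s ∈ S, MulAut.conj s • A) B :=
  iSup_left fun _ => iSup_left fun hs => h.conj_left (hS hs)

/-- If `V = H K` with `H` normalising `A`, `K` normalising `B` and `AB` a subgroup, then `A`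
permutes with all conjugates of `B`. -/
theorem of_isProd {H K S : Subgroup G} (h : IsProd V H K)
    (hA : H ≤ Subgroup.normalizer (A : Set G)) (hB : K ≤ Subgroup.normalizer (B : Set G))
    (hS : IsProd S A B) : PermConj V A B := by
  intro v hv
  obtain ⟨z, -, h1, h2⟩ := h.exists_conj_eq hA hB V.one_mem hv
  rw [conj_one] at h1
  have := hS.conj z
  rw [← h1, ← h2] at this
  exact this.to_sup

/-- **Kegel's lemma.** -/
theorem exists_normIn [Finite G] (h : PermConj V A B) (hA : A ≤ V) (hB : B ≤ V)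
    (hne : A ⊔ B ≠ V) : ∃ N, NormIn N V ∧ N ≠ V ∧ (A ≤ N ∨ B ≤ N) := by
  induction A using WellFoundedGT.induction with
  | ind A ih =>
  by_cases hn : V ≤ Subgroup.normalizer (A : Set G)
  · exact ⟨A, ⟨hA, hn⟩, fun he => hne (le_antisymm (sup_le hA hB) (he.ge.trans le_sup_left)),
      Or.inl le_rfl⟩
  by_cases hc : ∃ g ∈ V, ¬ MulAut.conj g • A ≤ A ∧ (A ⊔ MulAut.conj g • A) ⊔ B ≠ V
  · obtain ⟨g, hg, h1, h2⟩ := hc
    obtain ⟨N, hN1, hN2, hN3⟩ := ih (A ⊔ MulAut.conj g • A)
      (lt_of_le_of_ne le_sup_left fun he => h1 (le_sup_right.trans he.ge))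
      (h.sup_left (h.conj_left hg)) (sup_le hA (conj_le_of_mem hg hA)) h2
    exact ⟨N, hN1, hN2, hN3.imp_left le_sup_left.trans⟩
  push Not at hc
  have key : ∀ x ∈ V, MulAut.conj x • B ≤ Subgroup.normalizer (A : Set G) := by
    intro x hx
    rw [le_normalizer_iff_conj_le]
    intro b hb
    by_contra hcon
    have hbV : b ∈ V := conj_le_of_mem hx hB hb
    have h1 : IsProd V (A ⊔ MulAut.conj b • A) B := by
      have := (h.sup_left (h.conj_left hbV)).isProd
      rwa [hc b hbV hcon] at this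
    have h2 : A ⊔ MulAut.conj x • B = V := by
      refine le_antisymm (sup_le hA (conj_le_of_mem hx hB)) ((h1.conj_right hx).le_of_le
        (sup_le le_sup_left (conj_le_of_mem (Subgroup.mem_sup_right hb) le_sup_left)) le_sup_right)
    have h3 := h x hx
    rw [h2] at h3
    have h4 := h3.conj_right (V.inv_mem hx)
    rw [conj_inv_conj] at h4
    exact hne h4.eq_sup.symm
  refine ⟨⨆ x ∈ V, MulAut.conj x • B, ⟨iSup₂_le fun x hx => conj_le_of_mem hx hB, ?_⟩,
    fun he => hn (he.ge.trans (iSup₂_le key)), Or.inr ?_⟩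
  · rw [le_normalizer_iff_conj_le]
    intro k hk
    simp only [conj_iSup, Cj.conj_conj]
    exact iSup₂_le fun v hv =>
      le_iSup₂ (f := fun v (_ : v ∈ V) => MulAut.conj v • B) (k * v) (V.mul_mem hk hv)
  · refine le_trans ?_ (le_iSup₂ (f := fun v (_ : v ∈ V) => MulAut.conj v • B) 1 V.one_mem)
    rw [conj_one]

/-- **Wielandt's lemma**: if moreover `A` and `B` normalise each other, `A ∩ B` is subnormal. -/
theorem subnIn_inf [Finite G] (h : PermConj V A B) (hA : A ≤ V) (hB : B ≤ V)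
    (hAB : A ≤ Subgroup.normalizer (B : Set G)) (hBA : B ≤ Subgroup.normalizer (A : Set G)) :
    SubnIn (A ⊓ B) V := by
  induction V using WellFoundedLT.induction generalizing A B with
  | ind V ih =>
  by_cases he : A ⊔ B = V
  · subst he
    exact (NormIn.inf ⟨hA, sup_le Subgroup.le_normalizer hBA⟩
      ⟨hB, sup_le hAB Subgroup.le_normalizer⟩).subnIn
  have aux : ∀ {A B N : Subgroup G}, PermConj V A B → A ≤ Subgroup.normalizer (B : Set G) →
      B ≤ Subgroup.normalizer (A : Set G) → NormIn N V → N ≠ V → A ≤ N → SubnIn (A ⊓ B) V := by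
    intro A B N h hAB hBA hN hNV hAN
    have h1 : PermConj N A (B ⊓ N) := by
      intro v hv
      rw [conj_inf, conj_eq_of_mem hv]
      exact ((h v (hN.1 hv)).dedekind hAN).to_sup
    have h2 := ih N (lt_of_le_of_ne hN.1 hNV) h1 hAN inf_le_right
      ((le_inf hAB (hAN.trans Subgroup.le_normalizer)).trans
        Subgroup.inf_normalizer_le_normalizer_inf) (inf_le_left.trans hBA)
    rw [← inf_assoc, inf_eq_left.2 (inf_le_left.trans hAN)] at h2
    exact h2.tail hN
  obtain ⟨N, hN1, hN2, hN3 | hN3⟩ := h.exists_normIn hA hB he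
  · exact aux h hAB hBA hN1 hN2 hN3
  · rw [inf_comm]
    exact aux h.symm hBA hAB hN1 hN2 hN3

/-- If `A` permutes with all conjugates of `B`, then `[A, B]` is subnormal. -/
theorem subnIn_commutator [Finite G] (h : PermConj V A B) (hA : A ≤ V) (hB : B ≤ V) :
    SubnIn ⁅A, B⁆ V := by
  have hS : A ⊔ B ≤ V := sup_le hA hB
  have hcl : ∀ X, X ≤ A ⊔ B → X ≤ (⨆ s ∈ A ⊔ B, MulAut.conj s • X) ∧
      NormIn (⨆ s ∈ A ⊔ B, MulAut.conj s • X) (A ⊔ B) := by
    intro X hX
    refine ⟨?_, iSup₂_le fun s hs => conj_le_of_mem hs hX, ?_⟩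
    · refine le_trans ?_ (le_iSup₂ (f := fun v (_ : v ∈ A ⊔ B) => MulAut.conj v • X) 1
        (Subgroup.one_mem _))
      rw [conj_one]
    · rw [le_normalizer_iff_conj_le]
      intro k hk
      simp only [conj_iSup, Cj.conj_conj]
      exact iSup₂_le fun v hv => le_iSup₂ (f := fun v (_ : v ∈ A ⊔ B) => MulAut.conj v • X)
        (k * v) (Subgroup.mul_mem _ hk hv)
  obtain ⟨hA1, hA2⟩ := hcl A le_sup_left
  obtain ⟨hB1, hB2⟩ := hcl B le_sup_right
  have h1 := ((h.iSup_conj_left hS).symm.iSup_conj_left hS).symm.subnIn_inf (hA2.1.trans hS)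
    (hB2.1.trans hS) (hA2.1.trans hB2.2) (hB2.1.trans hA2.2)
  refine SubnIn.head ⟨le_inf ?_ ?_, (inf_le_left.trans hA2.1).trans (sup_le
    (Subgroup.normalizer_commutator_ge_left A B) (Subgroup.normalizer_commutator_ge_right A B))⟩ h1
  · exact (Subgroup.commutator_mono hA1 le_rfl).trans
      (Subgroup.le_normalizer_iff_commutator_le_left.1 (le_sup_right.trans hA2.2))
  · exact (Subgroup.commutator_mono le_rfl hB1).trans
      (Subgroup.le_normalizer_iff_commutator_le_right.1 (le_sup_left.trans hB2.2))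

end PermConj

end CL
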