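import Cfsg.Agent.Base
import Cfsg.Agent.Solv.FactorKegel

/-!
Itô's theorems on products of two abelian subgroups.
-/

set_option autoImplicit false

open scoped Pointwise commutatorElement

namespace CL

open Cj Cfsg

variable {G : Type*} [Group G]

theorem mul_comm_of_mem_of_isMulCommutative {A : Subgroup G} [IsMulCommutative A] {x y : G}
    (hx : x ∈ A) (hy : y ∈ A) : x * y = y * x :=
  (Subgroup.le_centralizer A hy x hx)

theorem isMulCommutative_subgroup_of_le {A B : Subgroup G} [IsMulCommutative A] (h : B ≤ A) :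
    IsMulCommutative B :=
  ⟨⟨fun x y => Subtype.ext (mul_comm_of_mem_of_isMulCommutative (h x.2) (h y.2))⟩⟩

namespace IsProd

variable {S A B : Subgroup G}

theorem commute_commutatorElement [IsMulCommutative A] [IsMulCommutative B] (h : IsProd S A B)
    {a b a₁ b₁ : G} (ha : a ∈ A) (hb : b ∈ B) (ha₁ : a₁ ∈ A) (hb₁ : b₁ ∈ B) :
    ⁅a₁, b₁⁆ * ⁅a, b⁆ = ⁅a, b⁆ * ⁅a₁, b₁⁆ := by
  have e1 : ∀ {x y z : G}, x ∈ A → z ∈ A → ⁅x, y * z⁆ = ⁅x, y⁆ := by
    intro x y z hx hz
    have := mul_comm_of_mem_of_isMulCommutative hz (A.inv_mem hx)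
    rw [commutatorElement_def, commutatorElement_def]
    calc x * (y * z) * x⁻¹ * (y * z)⁻¹ = x * y * (z * x⁻¹) * z⁻¹ * y⁻¹ := by group
      _ = _ := by rw [this]; group
  have e2 : ∀ {x y z : G}, y ∈ B → z ∈ B → ⁅x * z, y⁆ = ⁅x, y⁆ := by
    intro x y z hy hz
    have := mul_comm_of_mem_of_isMulCommutative hz hy
    rw [commutatorElement_def, commutatorElement_def]
    calc x * z * y * (x * z)⁻¹ * y⁻¹ = x * (z * y) * z⁻¹ * x⁻¹ * y⁻¹ := by group
      _ = _ := by rw [this]; group
  have key : ∀ {u v : G}, u ∈ A → v ∈ B →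
      v * (u * ⁅a, b⁆ * u⁻¹) * v⁻¹ = u * (v * ⁅a, b⁆ * v⁻¹) * u⁻¹ := by
    intro u v hu hv
    obtain ⟨b₂, hb₂, a₂, ha₂, h2⟩ := h.symm.exists_mul
      (S.mul_mem (S.mul_mem (h.1 hu) (h.2.1 hb)) (S.inv_mem (h.1 hu)))
    obtain ⟨a₃, ha₃, b₃, hb₃, h3⟩ := h.exists_mul
      (S.mul_mem (S.mul_mem (h.2.1 hv) (h.1 ha)) (S.inv_mem (h.2.1 hv)))
    have cA : ∀ {x : G}, x ∈ A → u * x * u⁻¹ = x := fun hx => by
      rw [mul_comm_of_mem_of_isMulCommutative hu hx, mul_inv_cancel_right]
    have cB : ∀ {x : G}, x ∈ B → v * x * v⁻¹ = x := fun hx => by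
      rw [mul_comm_of_mem_of_isMulCommutative hv hx, mul_inv_cancel_right]
    rw [conjugate_commutatorElement a b u, cA ha, h2, e1 ha ha₂, conjugate_commutatorElement,
      cB hb₂, h3, e2 hb₂ hb₃, conjugate_commutatorElement a b v, cB hb, h3, e2 hb hb₃,
      conjugate_commutatorElement, cA ha₃, h2, e1 ha₃ ha₂]
  have := key (A.inv_mem ha₁) (B.inv_mem hb₁)
  rw [commutatorElement_def a₁ b₁]
  calc a₁ * b₁ * a₁⁻¹ * b₁⁻¹ * ⁅a, b⁆
      = a₁ * b₁ * (a₁⁻¹ * (b₁⁻¹ * ⁅a, b⁆ * b₁⁻¹⁻¹) * a₁⁻¹⁻¹) * a₁⁻¹ * b₁⁻¹ := by group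
    _ = _ := by rw [← this]; group

theorem commutator_eq [IsMulCommutative A] [IsMulCommutative B] (h : IsProd ⊤ A B) :
    commutator G = ⁅A, B⁆ := by
  refine le_antisymm ?_ (Subgroup.commutator_mono le_top le_top)
  have : (⁅A, B⁆ : Subgroup G).Normal := normal_of_top_le_normalizer (h.le_of_le
    (Subgroup.normalizer_commutator_ge_left A B) (Subgroup.normalizer_commutator_ge_right A B))
  rw [← Subgroup.Normal.quotient_commutative_iff_commutator_le]
  refine ⟨⟨fun x y => ?_⟩⟩
  obtain ⟨x, rfl⟩ := QuotientGroup.mk'_surjective _ x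
  obtain ⟨y, rfl⟩ := QuotientGroup.mk'_surjective _ y
  obtain ⟨a, ha, b, hb, rfl⟩ := h.exists_mul (Subgroup.mem_top x)
  obtain ⟨a', ha', b', hb', rfl⟩ := h.exists_mul (Subgroup.mem_top y)
  have hAB : ∀ {u v : G}, u ∈ A → v ∈ B →
      Commute (QuotientGroup.mk' ⁅A, B⁆ u) (QuotientGroup.mk' ⁅A, B⁆ v) := by
    intro u v hu hv
    rw [← commutatorElement_eq_one_iff_commute, ← map_commutatorElement, QuotientGroup.mk'_apply,
      QuotientGroup.eq_one_iff]
    exact Subgroup.commutator_mem_commutator hu hv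
  have hA : Commute (QuotientGroup.mk' ⁅A, B⁆ a) (QuotientGroup.mk' ⁅A, B⁆ a') :=
    Commute.map (mul_comm_of_mem_of_isMulCommutative ha ha') _
  have hB : Commute (QuotientGroup.mk' ⁅A, B⁆ b) (QuotientGroup.mk' ⁅A, B⁆ b') :=
    Commute.map (mul_comm_of_mem_of_isMulCommutative hb hb') _
  rw [map_mul, map_mul]
  exact ((hA.mul_right (hAB ha hb')).mul_left ((hAB ha' hb).symm.mul_right hB)).eq

theorem isMulCommutative_commutator_pair [IsMulCommutative A] [IsMulCommutative B]
    (h : IsProd S A B) : IsMulCommutative (⁅A, B⁆ : Subgroup G) := by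
  rw [Subgroup.commutator_def]
  refine Subgroup.isMulCommutative_closure ?_
  rintro _ ⟨a, ha, b, hb, rfl⟩ _ ⟨a', ha', b', hb', rfl⟩
  exact h.commute_commutatorElement ha' hb' ha hb

/-- **Itô's theorem**. -/
theorem isMulCommutative_commutator [IsMulCommutative A] [IsMulCommutative B]
    (h : IsProd ⊤ A B) : IsMulCommutative (commutator G) :=
  h.commutator_eq ▸ h.isMulCommutative_commutator_pair

theorem derivedSeries_two_eq_bot [IsMulCommutative A] [IsMulCommutative B]
    (h : IsProd ⊤ A B) : derivedSeries G 2 = ⊥ := by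
  rw [derivedSeries_succ, derivedSeries_one, Subgroup.commutator_self_eq_bot_iff]
  exact h.isMulCommutative_commutator

/-- In a product `S = AB` of abelian subgroups, the factors of a central element are central. -/
theorem mem_centralizer_of_mul_mem [IsMulCommutative A] [IsMulCommutative B] (h : IsProd S A B)
    {a b : G} (ha : a ∈ A) (hb : b ∈ B) (hab : a * b ∈ Subgroup.centralizer (S : Set G)) :
    a ∈ Subgroup.centralizer (S : Set G) ∧ b ∈ Subgroup.centralizer (S : Set G) := by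
  have hb' : b ∈ Subgroup.centralizer (S : Set G) := by
    have h1 : A ≤ Subgroup.centralizer ({b} : Set G) := fun x hx => by
      rw [Subgroup.mem_centralizer_singleton_iff]
      have h2 := hab x (h.1 hx)
      rw [← mul_assoc, mul_comm_of_mem_of_isMulCommutative hx ha, mul_assoc, mul_assoc] at h2
      exact mul_left_cancel h2
    have h2 : B ≤ Subgroup.centralizer ({b} : Set G) := fun x hx => by
      rw [Subgroup.mem_centralizer_singleton_iff]
      exact mul_comm_of_mem_of_isMulCommutative hx hb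
    intro x hx
    exact Subgroup.mem_centralizer_singleton_iff.1 (h.le_of_le h1 h2 hx)
  exact ⟨(Subgroup.mul_mem_cancel_right _ hb').1 hab, hb'⟩

theorem exists_mem_centralizer [IsMulCommutative A] [IsMulCommutative B] (h : IsProd S A B)
    {z : G} (hz : z ∈ S) (hz1 : z ≠ 1) (hzc : z ∈ Subgroup.centralizer (S : Set G)) :
    ∃ x, x ≠ 1 ∧ x ∈ Subgroup.centralizer (S : Set G) ∧ (x ∈ A ∨ x ∈ B) := by
  obtain ⟨a, ha, b, hb, rfl⟩ := h.exists_mul hz
  obtain ⟨h1, h2⟩ := h.mem_centralizer_of_mul_mem ha hb hzc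
  by_cases ha1 : a = 1
  · exact ⟨b, by simpa [ha1] using hz1, h2, Or.inr hb⟩
  · exact ⟨a, ha1, h1, Or.inl ha⟩

/-- The factoriser `AN ∩ BN` of a normal subgroup `N` of `G = AB` is factorised. -/
theorem factorizer (h : IsProd ⊤ A B) (N : Subgroup G) [N.Normal] :
    IsProd ((A ⊔ N) ⊓ (B ⊔ N)) (A ⊓ (B ⊔ N)) (B ⊓ (A ⊔ N)) := by
  refine ⟨inf_le_inf_right _ le_sup_left, le_inf inf_le_right (inf_le_left.trans le_sup_left),
    fun g hg => ?_⟩
  obtain ⟨a, ha, b, hb, rfl⟩ := h.exists_mul (Subgroup.mem_top g)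
  exact ⟨a, ⟨ha, (Subgroup.mul_mem_cancel_right _ (Subgroup.mem_sup_left hb)).1 hg.2⟩, b,
    ⟨hb, (Subgroup.mul_mem_cancel_left _ (Subgroup.mem_sup_left ha)).1 hg.1⟩, rfl⟩

theorem factorizer_left (A B N : Subgroup G) [N.Normal] :
    IsProd ((A ⊔ N) ⊓ (B ⊔ N)) (A ⊓ (B ⊔ N)) N := by
  have := ((of_normal_right A N).symm.dedekind (T := B ⊔ N) le_sup_right).symm
  exact this

/-- **Itô**: a nontrivial finite product of two abelian subgroups has a nontrivial normal
subgroup inside one of the factors. -/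
theorem exists_normal_le_of_isMulCommutative [Finite G] [Nontrivial G] [IsMulCommutative A]
    [IsMulCommutative B] (h : IsProd ⊤ A B) :
    ∃ N : Subgroup G, N.Normal ∧ N ≠ ⊥ ∧ (N ≤ A ∨ N ≤ B) := by
  by_cases hZ : Subgroup.center G = ⊥
  swap
  · obtain ⟨⟨z, hz⟩, hz1⟩ := (Subgroup.ne_bot_iff_exists_ne_one.1 hZ)
    obtain ⟨x, hx1, hx2, hx3⟩ := h.exists_mem_centralizer (Subgroup.mem_top z)
      (fun h => hz1 (Subtype.ext h)) (Subgroup.center_le_centralizer _ hz)
    rw [Subgroup.coe_top, Subgroup.centralizer_univ] at hx2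
    exact ⟨Subgroup.zpowers x, normal_of_le_center (Subgroup.zpowers_le.2 hx2),
      by simpa using hx1, hx3.imp Subgroup.zpowers_le.2 Subgroup.zpowers_le.2⟩
  have hcomm := h.isMulCommutative_commutator
  have hK : commutator G ≠ ⊥ := fun h0 => by
    rw [commutator_eq_bot_iff_center_eq_top, hZ] at h0
    exact bot_ne_top h0
  have hnil : Group.IsNilpotent (commutator G) := isNilpotent_of_isMulCommutative _
  obtain ⟨p, hp, hpd⟩ := Nat.exists_prime_and_dvd (mt Subgroup.card_eq_one.1 hK)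
  have : Fact p.Prime := ⟨hp⟩
  set P := pPart p (commutator G) with hPdef
  have hPn : P.Normal := normal_of_top_le_normalizer
    (Subgroup.le_normalizer_of_normal.trans (normalizer_le_normalizer_pPart p _))
  have hPp : IsPGroup p P := isPGroup_pPart p hnil
  have hP0 : P ≠ ⊥ := pPart_ne_bot hpd
  -- the main step, symmetric in `A` and `B`
  have main : ∀ {A B : Subgroup G} [IsMulCommutative A] [IsMulCommutative B], IsProd ⊤ A B →
      ∀ a ∈ A, a ≠ 1 → a ∈ B ⊔ P → a ∈ Subgroup.centralizer (P : Set G) →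
      ∃ N : Subgroup G, N.Normal ∧ N ≠ ⊥ ∧ N ≤ A := by
    intro A B _ _ h a ha ha1 haB haP
    have h1 : ∀ g : G, ⁅a, g⁆ ∈ P := by
      intro g
      obtain ⟨x, hx, y, hy, rfl⟩ := h.exists_mul (Subgroup.mem_top g)
      obtain ⟨b, hb, u, hu, hbu⟩ := Subgroup.mem_sup_of_normal_right.1 haB
      rw [← QuotientGroup.eq_one_iff, ← QuotientGroup.mk'_apply, map_commutatorElement,
        commutatorElement_eq_one_iff_commute, map_mul]
      refine Commute.mul_right (Commute.map (mul_comm_of_mem_of_isMulCommutative ha hx) _) ?_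
      rw [← hbu, map_mul, QuotientGroup.mk'_apply P u, (QuotientGroup.eq_one_iff u).2 hu, mul_one]
      exact Commute.map (mul_comm_of_mem_of_isMulCommutative hb hy) _
    have h2 : commutator G ≤ Subgroup.centralizer ({a} : Set G) := by
      refine le_of_forall_pPart_le fun q hq => ?_
      have : Fact q.Prime := ⟨hq⟩
      by_cases hqp : q = p
      · subst hqp
        intro x hx
        rw [Subgroup.mem_centralizer_singleton_iff]
        exact haP x hx
      · intro x hx
        have hQn : (pPart q (commutator G)).Normal := normal_of_top_le_normalizer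
          (Subgroup.le_normalizer_of_normal.trans (normalizer_le_normalizer_pPart q _))
        have h3 : ⁅a, x⁆ ∈ pPart q (commutator G) :=
          Subgroup.commutator_le_right ⊤ _ (Subgroup.commutator_mem_commutator trivial hx)
        have h4 := (IsPGroup.disjoint_of_ne q p hqp _ _ (isPGroup_pPart q hnil) hPp).le_bot
          ⟨h3, h1 x⟩
        rw [Subgroup.mem_bot, commutatorElement_eq_one_iff_mul_comm] at h4
        rw [Subgroup.mem_centralizer_singleton_iff]
        exact h4.symm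
    have hn : (A ⊔ commutator G).Normal := Subgroup.Normal.of_commutator_le _ le_sup_right
    refine ⟨Subgroup.centralizer ((A ⊔ commutator G : Subgroup G) : Set G), inferInstance,
      fun h0 => ha1 ?_, fun x hx => ?_⟩
    · rw [← Subgroup.mem_bot, ← h0]
      intro y hy
      refine Subgroup.mem_centralizer_singleton_iff.1 ((sup_le (fun x hx => ?_) h2 :
        A ⊔ commutator G ≤ Subgroup.centralizer ({a} : Set G)) hy)
      rw [Subgroup.mem_centralizer_singleton_iff]
      exact mul_comm_of_mem_of_isMulCommutative hx ha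
    · obtain ⟨a', ha', b', hb', rfl⟩ := h.exists_mul (Subgroup.mem_top x)
      have h5 : b' ∈ Subgroup.center G := by
        rw [Subgroup.mem_center_iff]
        intro g
        refine Subgroup.mem_centralizer_singleton_iff.1 (h.le_of_le
          (T := Subgroup.centralizer ({b'} : Set G)) (fun y hy => ?_) (fun y hy => ?_) trivial)
        · rw [Subgroup.mem_centralizer_singleton_iff]
          have h6 := hx y (Subgroup.mem_sup_left hy)
          rw [← mul_assoc, mul_comm_of_mem_of_isMulCommutative hy ha', mul_assoc, mul_assoc] at h6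
          exact mul_left_cancel h6
        · rw [Subgroup.mem_centralizer_singleton_iff]
          exact mul_comm_of_mem_of_isMulCommutative hy hb'
      rw [hZ, Subgroup.mem_bot] at h5
      rw [h5, mul_one]
      exact ha'
  have hAB : A ⊓ B = ⊥ := by
    rw [eq_bot_iff, ← hZ]
    intro x hx
    rw [Subgroup.mem_center_iff]
    intro g
    obtain ⟨a, ha, b, hb, rfl⟩ := h.exists_mul (Subgroup.mem_top g)
    rw [mul_assoc, mul_comm_of_mem_of_isMulCommutative hb hx.2, ← mul_assoc,
      mul_comm_of_mem_of_isMulCommutative ha hx.1, mul_assoc]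
  -- the factoriser of `P` is a `p`-group
  have hX := h.factorizer P
  have hX1 := factorizer_left A B P
  have hXp : IsPGroup p ((A ⊔ P) ⊓ (B ⊔ P) : Subgroup G) := by
    have h1 : Nat.card (B ⊓ (A ⊔ P) : Subgroup G) ∣ Nat.card P := by
      have h2 := hX.symm.relIndex_eq
      rw [Subgroup.relIndex, Subgroup.subgroupOf_eq_bot.2 (disjoint_iff.2 (le_bot_iff.1
        ((inf_le_inf inf_le_left inf_le_left).trans hAB.le))), Subgroup.index_bot] at h2
      rw [h2]
      exact hX1.symm.relIndex_dvd_card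
    obtain ⟨n, hn⟩ := hPp.exists_card_eq
    have hB1 : IsPGroup p (B ⊓ (A ⊔ P) : Subgroup G) := IsPGroup.of_card_dvd_pow (hn ▸ h1)
    have h3 := (factorizer_left B A P).eq_sup
    rw [inf_comm, h3]
    exact hB1.to_sup_of_normal_right hPp
  have hPX : P ≤ (A ⊔ P) ⊓ (B ⊔ P) := le_inf le_sup_right le_sup_right
  have : Nontrivial ((A ⊔ P) ⊓ (B ⊔ P) : Subgroup G) :=
    (Subgroup.nontrivial_iff_ne_bot _).2 fun h0 => hP0 (le_bot_iff.1 (h0 ▸ hPX))
  obtain ⟨⟨⟨z, hz⟩, hzc⟩, hz1⟩ := Subgroup.ne_bot_iff_exists_ne_one.1 hXp.bot_lt_center.ne'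
  have : IsMulCommutative (A ⊓ (B ⊔ P) : Subgroup G) := isMulCommutative_subgroup_of_le inf_le_left
  have : IsMulCommutative (B ⊓ (A ⊔ P) : Subgroup G) := isMulCommutative_subgroup_of_le inf_le_left
  obtain ⟨x, hx1, hx2, hx3 | hx3⟩ := hX.exists_mem_centralizer hz
    (fun h => hz1 (Subtype.ext (Subtype.ext h))) (fun y hy =>
      congrArg Subtype.val (Subgroup.mem_center_iff.1 hzc ⟨y, hy⟩))
  · obtain ⟨N, h1, h2, h3⟩ := main h x hx3.1 hx1 hx3.2 (Subgroup.centralizer_le hPX hx2)
    exact ⟨N, h1, h2, Or.inl h3⟩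
  · obtain ⟨N, h1, h2, h3⟩ := main h.symm x hx3.1 hx1 hx3.2 (Subgroup.centralizer_le hPX hx2)
    exact ⟨N, h1, h2, Or.inr h3⟩

end IsProd

end CL
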