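import Cfsg.Agent.Base
import Cfsg.Agent.Solv.Subnormal

/-!
Kurzweil–Stellmacher 6.7.2–6.7.8: families of subnormal subgroups, the zipper-type uniqueness
lemma, Wielandt's subnormality criterion, the Baer–Suzuki theorem and Matsuyama's lemma.
-/

set_option autoImplicit false

open scoped Pointwise

namespace CL

open Cj

variable {G : Type*} [Group G]

/-- A member of a conjugation closed family of subnormal subgroups outside a proper subfamily
normalises the join of the subfamily. -/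
theorem exists_le_normalizer_sSup_of_ssubset [Finite G] {V : Subgroup G} {S S₀ : Set (Subgroup G)}
    (hS : ∀ U ∈ S, SubnIn U V) (hconj : ∀ U ∈ S, ∀ v ∈ V, MulAut.conj v • U ∈ S) (h₀ : S₀ ⊂ S) :
    ∃ X ∈ S, X ∉ S₀ ∧ X ≤ Subgroup.normalizer ((sSup S₀ : Subgroup G) : Set G) := by
  have hJ : SubnIn (sSup S₀) V := SubnIn.sSup fun U hU => hS U (h₀.1 hU)
  by_cases hc : ∀ U ∈ S, U ≤ sSup S₀ → U ∈ S₀
  swap
  · push Not at hc
    obtain ⟨X, h1, h2, h3⟩ := hc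
    exact ⟨X, h1, h3, h2.trans Subgroup.le_normalizer⟩
  refine hJ.head_induction (P := fun K => sSup S₀ ≤ K → (∀ U ∈ S, U ≤ K → U ∈ S₀) →
    ∃ X ∈ S, X ∉ S₀ ∧ X ≤ Subgroup.normalizer ((sSup S₀ : Subgroup G) : Set G)) ?_ ?_ le_rfl hc
  · intro _ h
    exact absurd (fun U hU => h U hU (hS U hU).le) h₀.2
  · intro A B h1 h2 ih hA hc
    by_cases hc' : ∀ U ∈ S, U ≤ B → U ∈ S₀
    · exact ih (hA.trans h1.1) hc'
    push Not at hc'
    obtain ⟨X, hX1, hX2, hX3⟩ := hc'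
    refine ⟨X, hX1, hX3, hX2.trans (le_normalizer_sSup fun b hb U hU => ?_)⟩
    exact hc _ (hconj U (h₀.1 hU) b (h2.le hb))
      (conj_le_of_mem_normalizer (h1.2 hb) ((le_sSup hU).trans hA))

/-- The zipper-type uniqueness lemma, relative to a subgroup `V`, for an arbitrary family `F` of
subgroups closed under conjugation by `V`. -/
theorem zipper [Finite G] {V : Subgroup G} (F : Set (Subgroup G))
    (hF : ∀ B ∈ F, ∀ v ∈ V, MulAut.conj v • B ∈ F) (U : Set (Subgroup G)) (hU : U.Nonempty)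
    (hUV : ∀ W ∈ U, W ≤ V)
    (h2 : ∀ W ∈ U, ∀ W' ∈ U, ∀ B ∈ F, SubnIn B W' → B ≤ W → SubnIn B W)
    (h3 : ∀ W ∈ U, ∀ W' ∈ U, ∃ X ∈ U, Subgroup.normalizer
      ((sSup ({B | B ∈ F ∧ SubnIn B W} ∩ {B | B ∈ F ∧ SubnIn B W'}) : Subgroup G) : Set G) ⊓ V ≤ X) :
    ∃ M ∈ U, ∀ W ∈ U, W ≤ M := by
  set S : Subgroup G → Set (Subgroup G) := fun W => {B | B ∈ F ∧ SubnIn B W} with hSdef
  have hmax : ∀ W ∈ U, ∃ M, W ≤ M ∧ Maximal (· ∈ U) M := fun W hW =>
    (Set.toFinite U).exists_le_maximal hW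
  have hconj : ∀ W ∈ U, ∀ B ∈ S W, ∀ w ∈ W, MulAut.conj w • B ∈ S W := fun W hW B hB w hw =>
    ⟨hF B hB.1 w (hUV W hW hw), hB.2.conj_of_mem hw⟩
  have key : ∀ T : Set (Subgroup G), ∀ U₁ U₂, Maximal (· ∈ U) U₁ → Maximal (· ∈ U) U₂ →
      S U₁ ∩ S U₂ = T → U₁ = U₂ := by
    intro T
    induction T using WellFoundedGT.induction with
    | ind T ih =>
    intro U₁ U₂ hU₁ hU₂ hT
    obtain ⟨X, hX, hXle⟩ := h3 U₁ hU₁.1 U₂ hU₂.1
    obtain ⟨U₃, hXU₃, hU₃⟩ := hmax X hX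
    have hN : Subgroup.normalizer ((sSup T : Subgroup G) : Set G) ⊓ V ≤ U₃ := by
      rw [← hT]; exact hXle.trans hXU₃
    have aux : ∀ W, Maximal (· ∈ U) W → T ⊆ S W → W = U₃ := by
      intro W hW hTW
      rcases hTW.eq_or_ssubset with heq | hlt
      · refine hW.eq_of_le hU₃.1 (le_trans (le_inf ?_ (hUV W hW.1)) hN)
        rw [heq]
        exact le_normalizer_sSup fun w hw B hB => hconj W hW.1 B hB w hw
      · obtain ⟨Y, hY1, hY2, hY3⟩ := exists_le_normalizer_sSup_of_ssubset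
          (fun B hB => hB.2) (hconj W hW.1) hlt
        have hin : ∀ B ∈ S W, B ≤ Subgroup.normalizer ((sSup T : Subgroup G) : Set G) →
            B ∈ S U₃ := fun B hB hBN =>
          ⟨hB.1, h2 U₃ hU₃.1 W hW.1 B hB.1 hB.2
            (le_trans (le_inf hBN (hB.2.le.trans (hUV W hW.1))) hN)⟩
        refine ih (S W ∩ S U₃) ⟨fun B hB => ⟨hTW hB, hin B (hTW hB)
          ((le_sSup hB).trans Subgroup.le_normalizer)⟩, fun h => hY2 (h ⟨hY1, hin Y hY1 hY3⟩)⟩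
          W U₃ hW hU₃ rfl
    rw [aux U₁ hU₁ (hT ▸ Set.inter_subset_left), aux U₂ hU₂ (hT ▸ Set.inter_subset_right)]
  obtain ⟨W₀, hW₀⟩ := hU
  obtain ⟨M, -, hM⟩ := hmax W₀ hW₀
  refine ⟨M, hM.1, fun W hW => ?_⟩
  obtain ⟨M', h1, hM'⟩ := hmax W hW
  rw [key _ M M' hM hM' rfl]
  exact h1

/-- **Wielandt's subnormality criterion**, relative form. -/
theorem SubnIn.of_forall_sup_conj [Finite G] {A V : Subgroup G} (hAV : A ≤ V)
    (h : ∀ v ∈ V, SubnIn A (A ⊔ MulAut.conj v • A)) : SubnIn A V := by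
  induction V using WellFoundedLT.induction generalizing A with
  | ind V ih =>
  by_contra hcon
  have hne : ∀ v ∈ V, A ⊔ MulAut.conj v • A < V := fun v hv =>
    lt_of_le_of_ne (sup_le hAV (conj_le_of_mem hv hAV)) fun he => hcon (he ▸ h v hv)
  have hconj : ∀ g ∈ V, ∀ W, W < V → MulAut.conj g • A ≤ W → SubnIn (MulAut.conj g • A) W := by
    intro g hg W hW hle
    refine ih W hW hle fun w hw => ?_
    have := (h (g⁻¹ * w * g) (V.mul_mem (V.mul_mem (V.inv_mem hg) (hW.le hw)) hg)).conj g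
    rw [conj_sup, conj_conj] at this
    rw [conj_conj]
    convert this using 4
    group
  have hA : ∀ W, W < V → A ≤ W → SubnIn A W := fun W hW hle => by
    have := hconj 1 V.one_mem W hW
    rw [conj_one] at this
    exact this hle
  obtain ⟨M, hM, hMle⟩ := zipper (V := V) {B | ∃ g ∈ V, B = MulAut.conj g • A}
    (by
      rintro _ ⟨g, hg, rfl⟩ v hv
      exact ⟨v * g, V.mul_mem hv hg, conj_conj _ _ _⟩)
    {W | A ≤ W ∧ W < V} ⟨A, le_rfl, lt_of_le_of_lt le_sup_left (hne 1 V.one_mem)⟩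
    (fun W hW => hW.2.le)
    (by
      rintro W hW W' _ _ ⟨g, hg, rfl⟩ _ hle
      exact hconj g hg W hW.2 hle)
    (by
      intro W hW W' hW'
      set J := sSup ({B | B ∈ {B | ∃ g ∈ V, B = MulAut.conj g • A} ∧ SubnIn B W} ∩
        {B | B ∈ {B | ∃ g ∈ V, B = MulAut.conj g • A} ∧ SubnIn B W'}) with hJ
      have hAJ : A ≤ J := le_sSup ⟨⟨⟨1, V.one_mem, (conj_one A).symm⟩, hA W hW.2 hW.1⟩,
        ⟨⟨1, V.one_mem, (conj_one A).symm⟩, hA W' hW'.2 hW'.1⟩⟩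
      have hJW : J ≤ W := sSup_le fun B hB => hB.1.2.le
      refine ⟨_, ⟨le_inf (hAJ.trans Subgroup.le_normalizer) hAV,
        lt_of_le_of_ne inf_le_right fun he => hcon ?_⟩, le_rfl⟩
      exact (hA J (lt_of_le_of_lt hJW hW.2) hAJ).tail
        ⟨hJW.trans hW.2.le, he.ge.trans inf_le_left⟩)
  have hJM : (⨆ v ∈ V, MulAut.conj v • A) ≤ M :=
    iSup₂_le fun v hv => le_sup_right.trans (hMle _ ⟨le_sup_left, hne v hv⟩)
  have hAJ : A ≤ ⨆ v ∈ V, MulAut.conj v • A := by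
    refine le_trans ?_ (le_iSup₂ (f := fun v (_ : v ∈ V) => MulAut.conj v • A) 1 V.one_mem)
    rw [conj_one]
  refine hcon ((hA _ (lt_of_le_of_lt hJM hM.2) hAJ).tail ⟨hJM.trans hM.2.le, ?_⟩)
  rw [le_normalizer_iff_conj_le]
  intro k hk
  simp only [conj_iSup, conj_conj]
  exact iSup₂_le fun v hv =>
    le_iSup₂ (f := fun v (_ : v ∈ V) => MulAut.conj v • A) (k * v) (V.mul_mem hk hv)

/-- **Wielandt's subnormality criterion**. -/
theorem isSubnormal_of_forall_sup_conj [Finite G] {A : Subgroup G}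
    (h : ∀ g : G, SubnIn A (A ⊔ MulAut.conj g • A)) : A.IsSubnormal :=
  SubnIn.top_iff.1 (SubnIn.of_forall_sup_conj le_top fun g _ => h g)

/-- **Baer–Suzuki theorem**. -/
theorem baer_suzuki_subgroup [Finite G] {p : ℕ} [Fact p.Prime] {X : Subgroup G}
    (h : ∀ g : G, IsPGroup p (X ⊔ MulAut.conj g • X : Subgroup G)) :
    ∃ N : Subgroup G, N.Normal ∧ IsPGroup p N ∧ X ≤ N :=
  exists_normal_pgroup_of_isSubnormal
    (isSubnormal_of_forall_sup_conj fun g => SubnIn.of_isPGroup (h g) le_sup_left)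
    ((h 1).to_le le_sup_left)

/-- The weak closure of `Z` in `Q`: the join of the conjugates of `Z` that lie in `Q`. -/
def wcl (Z Q : Subgroup G) : Subgroup G :=
  ⨆ g ∈ {g : G | MulAut.conj g • Z ≤ Q}, MulAut.conj g • Z

theorem wcl_le (Z Q : Subgroup G) : wcl Z Q ≤ Q := iSup₂_le fun _ hg => hg

theorem conj_le_wcl {Z Q : Subgroup G} {g : G} (h : MulAut.conj g • Z ≤ Q) :
    MulAut.conj g • Z ≤ wcl Z Q :=
  le_iSup₂ (f := fun g (_ : g ∈ {g : G | MulAut.conj g • Z ≤ Q}) => MulAut.conj g • Z) g h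

theorem wcl_mono (Z : Subgroup G) {Q R : Subgroup G} (h : Q ≤ R) : wcl Z Q ≤ wcl Z R :=
  iSup₂_le fun _ hg => conj_le_wcl (le_trans hg h)

theorem wcl_eq_sSup (Z Q : Subgroup G) :
    wcl Z Q = sSup {B | (∃ g : G, B = MulAut.conj g • Z) ∧ B ≤ Q} := by
  refine le_antisymm (iSup₂_le fun g hg => le_sSup ⟨⟨g, rfl⟩, hg⟩) (sSup_le ?_)
  rintro _ ⟨⟨g, rfl⟩, hg⟩
  exact conj_le_wcl hg

theorem normalizer_le_normalizer_wcl (Z Q : Subgroup G) :
    Subgroup.normalizer (Q : Set G) ≤ Subgroup.normalizer ((wcl Z Q : Subgroup G) : Set G) := by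
  rw [wcl_eq_sSup]
  refine le_normalizer_sSup ?_
  rintro k hk _ ⟨⟨g, rfl⟩, hg⟩
  exact ⟨⟨k * g, conj_conj _ _ _⟩, conj_le_of_mem_normalizer hk hg⟩

/-- **Matsuyama's lemma**. -/
theorem matsuyama [Finite G] {p : ℕ} [Fact p.Prime] (Z Y : Subgroup G)
    (h : ∀ g : G, IsPGroup p ↥(⨆ y ∈ Y, MulAut.conj (y * g) • Z)) :
    ∃ P : Sylow p G, Y ≤ Subgroup.normalizer ((wcl Z P : Subgroup G) : Set G) := by
  obtain ⟨Q, hQ⟩ := (Set.toFinite {Q : Subgroup G | IsPGroup p Q ∧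
    Y ≤ Subgroup.normalizer (Q : Set G) ∧ Q ≤ wcl Z Q}).exists_maximal
    ⟨⊥, IsPGroup.of_bot, Subgroup.le_normalizer_of_normal, bot_le⟩
  obtain ⟨hQp, hQY, hQw⟩ := hQ.1
  obtain ⟨P, hP⟩ := hQp.exists_le_sylow
  have hQeq : wcl Z Q = Q := le_antisymm (wcl_le Z Q) hQw
  refine ⟨P, ?_⟩
  have hsub : {B | (∃ g : G, B = MulAut.conj g • Z) ∧ B ≤ Q} ⊆
      {B | (∃ g : G, B = MulAut.conj g • Z) ∧ B ≤ P} := fun B hB => ⟨hB.1, hB.2.trans hP⟩
  rcases hsub.eq_or_ssubset with heq | hlt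
  · rw [wcl_eq_sSup, ← heq, ← wcl_eq_sSup, hQeq]
    exact hQY
  exfalso
  obtain ⟨_, ⟨⟨g, rfl⟩, hX1⟩, hX2, hX3⟩ := exists_le_normalizer_sSup_of_ssubset (V := P)
    (fun B hB => SubnIn.of_isPGroup P.isPGroup' hB.2)
    (by
      rintro _ ⟨⟨g, rfl⟩, hg⟩ v hv
      exact ⟨⟨v * g, conj_conj _ _ _⟩, conj_le_of_mem hv hg⟩) hlt
  rw [← wcl_eq_sSup, hQeq] at hX3
  set R : Subgroup G := ⨆ y ∈ Y, MulAut.conj (y * g) • Z with hR
  have hRN : R ≤ Subgroup.normalizer (Q : Set G) := by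
    refine iSup₂_le fun y hy => ?_
    rw [← conj_conj]
    exact conj_le_of_mem (hQY hy) hX3
  have hle : ∀ y ∈ Y, MulAut.conj (y * g) • Z ≤ R := fun y hy =>
    le_iSup₂ (f := fun y (_ : y ∈ Y) => MulAut.conj (y * g) • Z) y hy
  have hYR : Y ≤ Subgroup.normalizer (R : Set G) := by
    rw [le_normalizer_iff_conj_le]
    intro k hk
    simp only [hR, conj_iSup, conj_conj]
    refine iSup₂_le fun y hy => ?_
    rw [← mul_assoc]
    exact hle _ (Y.mul_mem hk hy)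
  have hQR : Q ⊔ R ≤ Q := by
    refine hQ.2 ⟨hQp.to_sup_of_normal_left' (h g) hRN, (le_inf hQY hYR).trans
      (Subgroup.normalizer_inf_normalizer_le_normalizer_sup Q R), ?_⟩ le_sup_left
    refine sup_le (hQw.trans (wcl_mono Z le_sup_left)) (iSup₂_le fun y hy => ?_)
    exact conj_le_wcl ((hle y hy).trans le_sup_right)
  refine hX2 ⟨⟨g, rfl⟩, ?_⟩
  have := hle 1 Y.one_mem
  rw [one_mul] at this
  exact this.trans (le_sup_right.trans hQR)

end CL
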