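import Cfsg.Agent.Base

/-!
Basic theory of supersolvable groups (`Cfsg.IsSupersolvable`): a convenient inductive
description, closure under subgroups, quotients, products and cyclic extensions, and the
induction principle for finite supersolvable groups (a normal subgroup of prime order).
-/

namespace CL.SS

open Cfsg Subgroup

section Chain

variable {G : Type*} [Group G]

/-- `Chain K`: the subgroup `K` is the top of a chain of normal subgroups of `G` which starts at
`⊥` and has cyclic steps. -/
inductive Chain {G : Type*} [Group G] : Subgroup G → Prop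
  | bot : Chain ⊥
  | step (H : Subgroup G) (g : G) : Chain H → (H ⊔ zpowers g).Normal → Chain (H ⊔ zpowers g)

theorem Chain.normal {K : Subgroup G} (h : Chain K) : K.Normal := by
  cases h with
  | bot => infer_instance
  | step H g _ hn => exact hn

theorem Chain.step' {H K : Subgroup G} (g : G) (h : Chain H) (hn : K.Normal)
    (hK : K = H ⊔ zpowers g) : Chain K := by
  subst hK
  exact Chain.step H g h hn

theorem Chain.exists_fin {K : Subgroup G} (h : Chain K) :
    ∃ (n : ℕ) (H : Fin (n + 1) → Subgroup G), H 0 = ⊥ ∧ H (Fin.last n) = K ∧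
      (∀ i, (H i).Normal) ∧ ∀ i : Fin n, ∃ g : G, H i.succ = H i.castSucc ⊔ zpowers g := by
  induction h with
  | bot => exact ⟨0, fun _ => ⊥, rfl, rfl, fun _ => inferInstance, fun i => i.elim0⟩
  | step L g _ hn ih =>
    obtain ⟨n, H, h0, hl, hN, hs⟩ := ih
    refine ⟨n + 1, Fin.snoc H (L ⊔ zpowers g), ?_, ?_, ?_, ?_⟩
    · rw [← h0, show (0 : Fin (n + 1 + 1)) = Fin.castSucc 0 from rfl, Fin.snoc_castSucc]
    · simp
    · intro i
      refine Fin.lastCases ?_ (fun j => ?_) i
      · simpa using hn
      · simpa using hN j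
    · intro i
      refine Fin.lastCases ?_ (fun j => ?_) i
      · refine ⟨g, ?_⟩
        rw [Fin.succ_last, Fin.snoc_last, Fin.snoc_castSucc, hl]
      · obtain ⟨g', hg'⟩ := hs j
        refine ⟨g', ?_⟩
        rw [Fin.succ_castSucc, Fin.snoc_castSucc, Fin.snoc_castSucc, hg']

theorem isSupersolvable_iff_chain : IsSupersolvable G ↔ Chain (⊤ : Subgroup G) := by
  constructor
  · rintro ⟨n, H, h0, hl, hN, hs⟩
    have : ∀ i, Chain (H i) := by
      intro i
      induction i using Fin.induction with
      | zero => rw [h0]; exact Chain.bot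
      | succ j ih =>
        obtain ⟨g, hg⟩ := hs j
        exact Chain.step' g ih (hN _) hg
    exact hl ▸ this _
  · intro h
    exact h.exists_fin

theorem Chain.map {G' : Type*} [Group G'] {f : G →* G'} (hf : Function.Surjective f)
    {K : Subgroup G} (h : Chain K) : Chain (K.map f) := by
  induction h with
  | bot => rw [Subgroup.map_bot]; exact Chain.bot
  | step H g _ hn ih =>
    refine Chain.step' (f g) ih (hn.map f hf) ?_
    rw [Subgroup.map_sup, MonoidHom.map_zpowers]

/-- If `K/H` is cyclic, with `H` normal, then every subgroup between is a cyclic extension of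
`H`; here in the form of a preimage. -/
theorem exists_comap_eq_sup_zpowers {G' : Type*} [Group G'] (f : G' →* G) (H : Subgroup G)
    [H.Normal] (g : G) :
    ∃ g' : G', (H ⊔ zpowers g).comap f = H.comap f ⊔ zpowers g' := by
  set φ : G' →* G ⧸ H := (QuotientGroup.mk' H).comp f with hφ
  set L : Subgroup G' := (H ⊔ zpowers g).comap f with hL
  have hle : L.map φ ≤ zpowers (g : G ⧸ H) := by
    rw [hφ, ← Subgroup.map_map]
    refine (map_mono (map_comap_le f _)).trans ?_
    rw [Subgroup.map_sup, QuotientGroup.map_mk'_self, MonoidHom.map_zpowers, bot_sup_eq]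
    rfl
  have hcyc : IsCyclic (L.map φ) := Subgroup.isCyclic_of_le hle
  obtain ⟨y, hy⟩ := (Subgroup.isCyclic_iff_exists_zpowers_eq_top _).1 hcyc
  have hyL : y ∈ L.map φ := hy ▸ mem_zpowers y
  obtain ⟨g', hg'L, rfl⟩ := hyL
  refine ⟨g', le_antisymm ?_ ?_⟩
  · intro x hx
    have hx' : φ x ∈ zpowers (φ g') := hy ▸ mem_map_of_mem φ hx
    obtain ⟨k, hk⟩ := hx'
    have h1 : x * (g' ^ k)⁻¹ ∈ H.comap f := by
      rw [mem_comap, ← QuotientGroup.eq_one_iff]
      change φ (x * (g' ^ k)⁻¹) = 1
      simp only at hk
      rw [map_mul, map_inv, map_zpow, hk, mul_inv_cancel]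
    have h2 : x = (x * (g' ^ k)⁻¹) * g' ^ k := by simp
    rw [h2]
    exact mul_mem (mem_sup_left h1) (mem_sup_right (zpow_mem_zpowers g' k))
  · refine sup_le (comap_mono le_sup_left) ?_
    rw [zpowers_le]
    exact hg'L

theorem Chain.comap_of_chain_ker {G' : Type*} [Group G'] (f : G' →* G) (hker : Chain f.ker)
    {K : Subgroup G} (h : Chain K) : Chain (K.comap f) := by
  induction h with
  | bot => exact hker
  | step H g hH hn ih =>
    have := hH.normal
    obtain ⟨g', hg'⟩ := exists_comap_eq_sup_zpowers f H g
    exact Chain.step' g' ih (hn.comap f) hg'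

theorem Chain.comap_of_injective {G' : Type*} [Group G'] {f : G' →* G}
    (hf : Function.Injective f) {K : Subgroup G} (h : Chain K) : Chain (K.comap f) := by
  refine Chain.comap_of_chain_ker f ?_ h
  rw [(MonoidHom.ker_eq_bot_iff f).2 hf]
  exact Chain.bot

theorem Chain.of_isCyclic (N : Subgroup G) [hN : N.Normal] [hc : IsCyclic N] : Chain N := by
  obtain ⟨g, hg⟩ := (Subgroup.isCyclic_iff_exists_zpowers_eq_top _).1 hc
  exact Chain.step' g Chain.bot hN (by rw [bot_sup_eq, hg])

theorem Chain.inf {K : Subgroup G} (h : Chain K) (L : Subgroup G) [hL : L.Normal] :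
    Chain (K ⊓ L) := by
  induction h with
  | bot => rw [bot_inf_eq]; exact Chain.bot
  | step H g hH hn ih =>
    have := hH.normal
    obtain ⟨g', hg'⟩ := exists_comap_eq_sup_zpowers L.subtype H g
    refine Chain.step' (g' : G) ih inferInstance ?_
    have := congrArg (Subgroup.map L.subtype) hg'
    rw [Subgroup.map_sup, MonoidHom.map_zpowers, map_comap_eq, map_comap_eq, range_subtype] at this
    rw [inf_comm, this, inf_comm]
    rfl

theorem Chain.of_le {K L : Subgroup G} (h : Chain K) [L.Normal] (hLK : L ≤ K) : Chain L := by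
  have := h.inf L
  rwa [inf_eq_right.2 hLK] at this

theorem Chain.sup {K L : Subgroup G} (hK : Chain K) (hL : Chain L) : Chain (K ⊔ L) := by
  induction hL with
  | bot => rwa [sup_bot_eq]
  | step H g hH hn ih =>
    have := hK.normal
    exact Chain.step' g ih inferInstance (by rw [sup_assoc])

end Chain

section Closure

variable {G : Type*} [Group G] {G' : Type*} [Group G']

theorem of_surjective (hG : IsSupersolvable G) (f : G →* G') (hf : Function.Surjective f) :
    IsSupersolvable G' := by
  rw [isSupersolvable_iff_chain] at hG ⊢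
  have := hG.map hf
  rwa [map_top_of_surjective f hf] at this

theorem of_injective (hG : IsSupersolvable G) (f : G' →* G) (hf : Function.Injective f) :
    IsSupersolvable G' := by
  rw [isSupersolvable_iff_chain] at hG ⊢
  have := hG.comap_of_injective hf
  rwa [comap_top] at this

theorem of_mulEquiv (hG : IsSupersolvable G) (e : G ≃* G') : IsSupersolvable G' :=
  of_surjective hG e.toMonoidHom e.surjective

theorem subgroup (hG : IsSupersolvable G) (H : Subgroup G) : IsSupersolvable H :=
  of_injective hG H.subtype H.subtype_injective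

theorem quotient (hG : IsSupersolvable G) (N : Subgroup G) [N.Normal] :
    IsSupersolvable (G ⧸ N) :=
  of_surjective hG (QuotientGroup.mk' N) (QuotientGroup.mk'_surjective N)

theorem of_le {H K : Subgroup G} (hK : IsSupersolvable K) (h : H ≤ K) : IsSupersolvable H :=
  of_injective hK (inclusion h) (inclusion_injective h)

theorem map {H : Subgroup G} (hH : IsSupersolvable H) (f : G →* G') :
    IsSupersolvable (H.map f) :=
  of_surjective hH (f.subgroupMap H) (f.subgroupMap_surjective H)

theorem of_chain_ker (f : G →* G') (hker : Chain f.ker) (hG' : IsSupersolvable G') :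
    IsSupersolvable G := by
  rw [isSupersolvable_iff_chain] at hG' ⊢
  have := Chain.comap_of_chain_ker f hker hG'
  rwa [comap_top] at this

theorem of_chain_quotient (N : Subgroup G) [N.Normal] (hN : Chain N)
    (h : IsSupersolvable (G ⧸ N)) : IsSupersolvable G :=
  of_chain_ker (QuotientGroup.mk' N) (by rwa [QuotientGroup.ker_mk']) h

theorem of_cyclic_quotient (N : Subgroup G) [N.Normal] [IsCyclic N]
    (h : IsSupersolvable (G ⧸ N)) : IsSupersolvable G :=
  of_chain_quotient N (Chain.of_isCyclic N) h

theorem chain_of_normal (hG : IsSupersolvable G) (N : Subgroup G) [N.Normal] : Chain N :=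
  (isSupersolvable_iff_chain.1 hG).of_le le_top

theorem of_subsingleton [Subsingleton G] : IsSupersolvable G := by
  rw [isSupersolvable_iff_chain, Subsingleton.elim (⊤ : Subgroup G) ⊥]
  exact Chain.bot

theorem of_isCyclic [IsCyclic G] : IsSupersolvable G := by
  rw [isSupersolvable_iff_chain]
  exact Chain.of_isCyclic ⊤

theorem prod (hG : IsSupersolvable G) (hG' : IsSupersolvable G') : IsSupersolvable (G × G') := by
  refine of_chain_ker (MonoidHom.snd G G') ?_ hG'
  rw [isSupersolvable_iff_chain] at hG
  have map_inl : ∀ K : Subgroup G, K.map (MonoidHom.inl G G') = K.prod ⊥ := by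
    intro K
    ext ⟨a, b⟩
    simp only [mem_map, MonoidHom.inl_apply, Prod.mk.injEq, mem_prod, Subgroup.mem_bot]
    constructor
    · rintro ⟨x, hx, rfl, rfl⟩
      exact ⟨hx, rfl⟩
    · rintro ⟨ha, rfl⟩
      exact ⟨a, ha, rfl, rfl⟩
  have key : ∀ K : Subgroup G, Chain K → Chain (K.prod (⊥ : Subgroup G')) := by
    intro K hK
    induction hK with
    | bot => rw [bot_prod_bot]; exact Chain.bot
    | step H g hH hn ih =>
      refine Chain.step' (g, 1) ih (Subgroup.prod_normal _ _) ?_
      rw [← map_inl, ← map_inl, Subgroup.map_sup, MonoidHom.map_zpowers]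
      rfl
  rw [MonoidHom.ker_snd]
  exact key ⊤ hG

/-- If `G/M` and `G/N` are supersolvable then so is `G/(M ⊓ N)`; here for `M ⊓ N = ⊥`. -/
theorem of_quotients (M N : Subgroup G) [M.Normal] [N.Normal] (h : M ⊓ N = ⊥)
    (hM : IsSupersolvable (G ⧸ M)) (hN : IsSupersolvable (G ⧸ N)) : IsSupersolvable G := by
  refine of_injective (prod hM hN) ((QuotientGroup.mk' M).prod (QuotientGroup.mk' N)) ?_
  rw [← MonoidHom.ker_eq_bot_iff, MonoidHom.ker_prod, QuotientGroup.ker_mk',
    QuotientGroup.ker_mk', h]

theorem Chain.isSolvable {K : Subgroup G} (h : Chain K) : Group.IsSolvable K := by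
  induction h with
  | bot => infer_instance
  | step H g hH hn ih =>
    have := hH.normal
    set φ : (H ⊔ zpowers g : Subgroup G) →* G ⧸ H :=
      (QuotientGroup.mk' H).comp (H ⊔ zpowers g).subtype with hφ
    have hr : φ.range ≤ zpowers (g : G ⧸ H) := by
      rw [hφ, MonoidHom.range_comp, range_subtype, Subgroup.map_sup, QuotientGroup.map_mk'_self,
        MonoidHom.map_zpowers, bot_sup_eq]
      rfl
    have : IsCyclic φ.range := Subgroup.isCyclic_of_le hr
    have : Group.IsSolvable φ.range :=
      Group.isSolvable_of_comm (fun a b => IsMulCommutative.is_comm.comm a b)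
    refine Group.isSolvable_of_ker_le_range (inclusion (le_sup_left : H ≤ H ⊔ zpowers g))
      φ.rangeRestrict ?_
    intro x hx
    rw [MonoidHom.ker_rangeRestrict, MonoidHom.mem_ker] at hx
    have : (x : G) ∈ H := (QuotientGroup.eq_one_iff _).1 hx
    exact ⟨⟨x, this⟩, rfl⟩

theorem isSolvable (hG : IsSupersolvable G) : Group.IsSolvable G := by
  have := (isSupersolvable_iff_chain.1 hG).isSolvable
  exact Group.isSolvable_of_surjective (f := (⊤ : Subgroup G).subtype)
    (fun x => ⟨⟨x, trivial⟩, rfl⟩)

end Closure

end CL.SS
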