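import Cfsg.Agent.Base
import Cfsg.Agent.Solv.Supersolv

/-!
Finite supersolvable groups: normal subgroups of prime order, maximal subgroups, the derived
subgroup, the converse of Lagrange's theorem.
-/

namespace CL.SS

open Cfsg Subgroup

universe u

section Util

variable {G : Type*} [Group G]

theorem card_quotient_lt [Finite G] (N : Subgroup G) (hN : N ≠ ⊥) :
    Nat.card (G ⧸ N) < Nat.card G := by
  rw [card_eq_card_quotient_mul_card_subgroup N]
  have h1 : 1 < Nat.card N := (one_lt_card_iff_ne_bot N).2 hN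
  have h2 : 0 < Nat.card (G ⧸ N) := Nat.card_pos
  nlinarith

theorem card_lt_of_ne_top [Finite G] (H : Subgroup G) (hH : H ≠ ⊤) :
    Nat.card H < Nat.card G :=
  lt_of_le_of_ne (card_le_card_group H) (fun h => hH (eq_top_of_card_eq H h))

theorem card_lt_of_lt [Finite G] {H K : Subgroup G} (h : H < K) : Nat.card H < Nat.card K :=
  lt_of_le_of_ne (card_le_of_le h.le) (fun h' => h.ne (eq_of_le_of_card_ge h.le h'.ge))

theorem card_comap_mk [Finite G] (N : Subgroup G) [N.Normal] (K : Subgroup (G ⧸ N)) :
    Nat.card (K.comap (QuotientGroup.mk' N)) = Nat.card K * Nat.card N := by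
  have h1 := (K.comap (QuotientGroup.mk' N)).card_mul_index
  rw [index_comap_of_surjective _ (QuotientGroup.mk'_surjective N),
    card_eq_card_quotient_mul_card_subgroup N, ← K.card_mul_index] at h1
  have h2 : K.index ≠ 0 := index_ne_zero_of_finite
  apply Nat.eq_of_mul_eq_mul_right (Nat.pos_of_ne_zero h2)
  rw [h1]; ring

theorem card_mul_relIndex [Finite G] {H K : Subgroup G} (h : H ≤ K) :
    Nat.card H * H.relIndex K = Nat.card K := by
  rw [← relIndex_bot_left, ← relIndex_bot_left, relIndex_mul_relIndex _ _ _ bot_le h]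

theorem isCoatom_map_of_ker_le {G' : Type*} [Group G'] {f : G →* G'} (hf : Function.Surjective f)
    {M : Subgroup G} (hM : IsCoatom M) (hker : f.ker ≤ M) : IsCoatom (M.map f) := by
  constructor
  · intro h
    apply hM.1
    have := congrArg (comap f) h
    rwa [comap_map_eq_self hker, comap_top] at this
  · intro K hK
    have h1 : M < K.comap f := by
      refine lt_of_le_of_ne (map_le_iff_le_comap.1 hK.le) (fun h => hK.ne ?_)
      rw [h, map_comap_eq_self_of_surjective hf]
    have h2 := hM.2 _ h1
    rw [← map_comap_eq_self_of_surjective hf K, h2, map_top_of_surjective f hf]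

/-- Every subgroup of a cyclic normal subgroup is normal. -/
theorem normal_of_le_cyclic (N : Subgroup G) [hN : N.Normal] [hc : IsCyclic N] (M : Subgroup G)
    (hM : M ≤ N) : M.Normal := by
  obtain ⟨g, hg⟩ := (Subgroup.isCyclic_iff_exists_zpowers_eq_top _).1 hc
  constructor
  intro m hm x
  have h1 : x * g * x⁻¹ ∈ zpowers g := hg ▸ hN.conj_mem g (hg ▸ mem_zpowers g) x
  obtain ⟨k, hk⟩ := h1
  obtain ⟨j, hj⟩ : m ∈ zpowers g := hg ▸ hM hm
  simp only at hk hj
  have : x * m * x⁻¹ = m ^ k := by
    rw [← hj, ← conj_zpow, ← hk, ← zpow_mul, ← zpow_mul, mul_comm]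
  rw [this]
  exact M.zpow_mem hm k

theorem exists_prime_card_le [Finite G] (N : Subgroup G) (hN : N ≠ ⊥) :
    ∃ M : Subgroup G, M ≤ N ∧ (Nat.card M).Prime := by
  have h1 : Nat.card N ≠ 1 := fun h => hN (eq_bot_of_card_eq N h)
  obtain ⟨p, hp, hpd⟩ := Nat.exists_prime_and_dvd h1
  have := Fact.mk hp
  obtain ⟨M, hM⟩ := Sylow.exists_subgroup_card_pow_prime (G := N) p (n := 1) (by simpa using hpd)
  refine ⟨M.map N.subtype, map_subtype_le M, ?_⟩
  rw [card_subtype, hM, pow_one]
  exact hp

/-- The commutator subgroup centralises a cyclic normal subgroup. -/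
theorem commutator_le_centralizer_of_cyclic (N : Subgroup G) [hN : N.Normal] [hc : IsCyclic N] :
    _root_.commutator G ≤ centralizer (N : Set G) := by
  obtain ⟨g, hg⟩ := (Subgroup.isCyclic_iff_exists_zpowers_eq_top _).1 hc
  have key : ∀ x : G, ∃ k : ℤ, ∀ m ∈ N, x * m * x⁻¹ = m ^ k := by
    intro x
    have h1 : x * g * x⁻¹ ∈ zpowers g := hg ▸ hN.conj_mem g (hg ▸ mem_zpowers g) x
    obtain ⟨k, hk⟩ := h1
    refine ⟨k, fun m hm => ?_⟩
    obtain ⟨j, hj⟩ : m ∈ zpowers g := hg ▸ hm
    simp only at hk hj
    rw [← hj, ← conj_zpow, ← hk, ← zpow_mul, ← zpow_mul, mul_comm]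
  rw [_root_.commutator_def, commutator_le]
  intro x _ y _
  rw [mem_centralizer_iff]
  intro m hm
  obtain ⟨a, ha⟩ := key x
  obtain ⟨b, hb⟩ := key y
  have hm' : (y * x)⁻¹ * m * (y * x) ∈ N := hN.conj_mem' m hm _
  have h2 : x * y * ((y * x)⁻¹ * m * (y * x)) * (x * y)⁻¹ = m := by
    have e1 : ∀ n ∈ N, x * y * n * (x * y)⁻¹ = y * x * n * (y * x)⁻¹ := by
      intro n hn
      have e1 : x * y * n * (x * y)⁻¹ = x * (y * n * y⁻¹) * x⁻¹ := by group
      have e2 : y * x * n * (y * x)⁻¹ = y * (x * n * x⁻¹) * y⁻¹ := by group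
      rw [e1, e2, hb n hn, ha n hn, ha _ (N.zpow_mem hn b), hb _ (N.zpow_mem hn a), ← zpow_mul,
        ← zpow_mul, mul_comm]
    rw [e1 _ hm']; group
  rw [commutatorElement_def]
  calc m * (x * y * x⁻¹ * y⁻¹)
      = x * y * ((y * x)⁻¹ * m * (y * x)) * (x * y)⁻¹ * (x * y * x⁻¹ * y⁻¹) := by rw [h2]
    _ = x * y * x⁻¹ * y⁻¹ * m := by group

end Util

section Fin

variable {G : Type*} [Group G]

theorem Chain.exists_cyclic_le {K : Subgroup G} (h : Chain K) (hK : K ≠ ⊥) :
    ∃ N : Subgroup G, N.Normal ∧ N ≤ K ∧ N ≠ ⊥ ∧ IsCyclic N := by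
  induction h with
  | bot => exact absurd rfl hK
  | step H g hH hn ih =>
    by_cases h : H = ⊥
    · refine ⟨H ⊔ zpowers g, hn, le_rfl, hK, ?_⟩
      rw [h, bot_sup_eq]
      infer_instance
    · obtain ⟨N, h1, h2, h3, h4⟩ := ih h
      exact ⟨N, h1, h2.trans le_sup_left, h3, h4⟩

theorem Chain.exists_prime_le [Finite G] {K : Subgroup G} (h : Chain K) (hK : K ≠ ⊥) :
    ∃ N : Subgroup G, N.Normal ∧ N ≤ K ∧ (Nat.card N).Prime := by
  obtain ⟨N, h1, h2, h3, h4⟩ := h.exists_cyclic_le hK
  obtain ⟨M, hM, hp⟩ := exists_prime_card_le N h3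
  exact ⟨M, normal_of_le_cyclic N M hM, hM.trans h2, hp⟩

/-- In a finite supersolvable group every nontrivial normal subgroup contains a normal subgroup
of prime order. -/
theorem exists_normal_prime_le [Finite G] (hG : IsSupersolvable G) (L : Subgroup G) [L.Normal]
    (hL : L ≠ ⊥) : ∃ N : Subgroup G, N.Normal ∧ N ≤ L ∧ (Nat.card N).Prime :=
  (chain_of_normal hG L).exists_prime_le hL

theorem exists_normal_prime [Finite G] [Nontrivial G] (hG : IsSupersolvable G) :
    ∃ N : Subgroup G, N.Normal ∧ (Nat.card N).Prime := by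
  obtain ⟨N, h1, -, h2⟩ := exists_normal_prime_le hG ⊤ top_ne_bot
  exact ⟨N, h1, h2⟩

/-- A minimal normal subgroup of a finite supersolvable group has prime order. -/
theorem prime_card_of_minimal [Finite G] (hG : IsSupersolvable G) (L : Subgroup G) [L.Normal]
    (hL : L ≠ ⊥) (hmin : ∀ K : Subgroup G, K.Normal → K ≤ L → K = ⊥ ∨ K = L) :
    (Nat.card L).Prime := by
  obtain ⟨N, h1, h2, h3⟩ := exists_normal_prime_le hG L hL
  rcases hmin N h1 h2 with h | h
  · rw [h, card_bot] at h3
    exact absurd h3 Nat.not_prime_one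
  · exact h ▸ h3

/-- Chief factors of a finite supersolvable group have prime order. -/
theorem exists_normal_prime_relIndex [Finite G] (hG : IsSupersolvable G) (A B : Subgroup G)
    [A.Normal] [B.Normal] (hAB : A < B) :
    ∃ M : Subgroup G, M.Normal ∧ A ≤ M ∧ M ≤ B ∧ (A.relIndex M).Prime := by
  have hne : B.map (QuotientGroup.mk' A) ≠ ⊥ := by
    rw [Ne, Subgroup.map_eq_bot_iff, QuotientGroup.ker_mk']
    exact hAB.not_ge
  have : (B.map (QuotientGroup.mk' A)).Normal :=
    Normal.map inferInstance _ (QuotientGroup.mk'_surjective A)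
  obtain ⟨N, h1, h2, h3⟩ := exists_normal_prime_le (quotient hG A) _ hne
  have hle : A ≤ N.comap (QuotientGroup.mk' A) := by
    intro x hx
    rw [mem_comap, QuotientGroup.mk'_apply, (QuotientGroup.eq_one_iff x).2 hx]
    exact N.one_mem
  refine ⟨N.comap (QuotientGroup.mk' A), inferInstance, hle, ?_, ?_⟩
  · refine (comap_mono h2).trans ?_
    rw [comap_map_eq, QuotientGroup.ker_mk', sup_eq_left.2 hAB.le]
  · have h4 := card_mul_relIndex hle
    rw [card_comap_mk, mul_comm (Nat.card N)] at h4
    rw [Nat.eq_of_mul_eq_mul_left Nat.card_pos h4]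
    exact h3

/-- Induction principle for finite supersolvable groups. -/
theorem induction_on {P : ∀ (G : Type u) [Group G] [Finite G], Prop}
    (base : ∀ (G : Type u) [Group G] [Finite G] [Subsingleton G], P G)
    (step : ∀ (G : Type u) [Group G] [Finite G] (N : Subgroup G) [N.Normal],
      IsSupersolvable G → (Nat.card N).Prime → P (G ⧸ N) → P G)
    (G : Type u) [Group G] [Finite G] (hG : IsSupersolvable G) : P G := by
  induction h : Nat.card G using Nat.strong_induction_on generalizing G with
  | _ n ih =>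
    rcases subsingleton_or_nontrivial G with hs | hs
    · exact base G
    · obtain ⟨N, h1, h2⟩ := exists_normal_prime hG
      have hN : N ≠ ⊥ := by
        rintro rfl
        rw [card_bot] at h2
        exact Nat.not_prime_one h2
      exact step G N hG h2 (ih _ (h ▸ card_quotient_lt N hN) (G ⧸ N) (quotient hG N) rfl)

/-- A criterion: a class of finite groups closed under passing to the quotient by some nontrivial
cyclic normal subgroup consists of supersolvable groups. -/
theorem of_class {P : ∀ (G : Type u) [Group G] [Finite G], Prop}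
    (step : ∀ (G : Type u) [Group G] [Finite G] [Nontrivial G], P G →
      ∃ (N : Subgroup G) (_ : N.Normal), N ≠ ⊥ ∧ IsCyclic N ∧ P (G ⧸ N))
    (G : Type u) [Group G] [Finite G] (hG : P G) : IsSupersolvable G := by
  induction h : Nat.card G using Nat.strong_induction_on generalizing G with
  | _ n ih =>
    rcases subsingleton_or_nontrivial G with hs | hs
    · exact of_subsingleton
    · obtain ⟨N, h1, h2, h3, h4⟩ := step G hG
      exact of_cyclic_quotient N (ih _ (h ▸ card_quotient_lt N h2) (G ⧸ N) h4 rfl)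

theorem of_isNilpotent (G : Type u) [Group G] [Finite G] [hG : Group.IsNilpotent G] :
    IsSupersolvable G := by
  refine of_class (P := fun G _ _ => Group.IsNilpotent G) ?_ G hG
  intro G _ _ _ hG
  obtain ⟨M, hM, hp⟩ := exists_prime_card_le (center G) (Group.IsNilpotent.center_ne_bot G)
  have := Fact.mk hp
  have hn : M.Normal := by
    constructor
    intro m hm x
    rw [mem_center_iff.1 (hM hm) x, mul_inv_cancel_right]
    exact hm
  refine ⟨M, hn, ?_, isCyclic_of_prime_card rfl, inferInstance⟩
  rintro rfl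
  rw [card_bot] at hp
  exact Nat.not_prime_one hp

theorem commutator_isNilpotent (G : Type u) [Group G] [Finite G] (hG : IsSupersolvable G) :
    Group.IsNilpotent (_root_.commutator G) := by
  refine induction_on (P := fun G _ _ => Group.IsNilpotent (_root_.commutator G)) ?_ ?_ G hG
  · intro G _ _ _
    infer_instance
  · intro G _ _ N _ _ hp ih
    have := Fact.mk hp
    have hc : IsCyclic N := isCyclic_of_prime_card rfl
    have hle : (_root_.commutator G).map (QuotientGroup.mk' N) ≤ _root_.commutator (G ⧸ N) := by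
      rw [_root_.commutator_def, _root_.commutator_def, map_commutator]
      exact commutator_mono le_top le_top
    let f : _root_.commutator G →* _root_.commutator (G ⧸ N) :=
      ((QuotientGroup.mk' N).comp (_root_.commutator G).subtype).codRestrict _
        (fun x => hle (mem_map_of_mem _ x.2))
    refine Subgroup.isNilpotent_of_ker_le_center f ?_
    intro x hx
    have hxN : (x : G) ∈ N := by
      rw [MonoidHom.mem_ker, Subtype.ext_iff] at hx
      exact (QuotientGroup.eq_one_iff _).1 hx
    rw [mem_center_iff]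
    intro y
    have := commutator_le_centralizer_of_cyclic N y.2
    rw [mem_centralizer_iff] at this
    exact Subtype.ext (this x hxN).symm

theorem index_prime_of_isCoatom (G : Type u) [Group G] [Finite G] (hG : IsSupersolvable G) :
    ∀ M : Subgroup G, IsCoatom M → M.index.Prime := by
  refine induction_on (P := fun G _ _ => ∀ M : Subgroup G, IsCoatom M → M.index.Prime) ?_ ?_ G hG
  · intro G _ _ _ M hM
    exact absurd (Subsingleton.elim _ _) hM.1
  · intro G _ _ N _ _ hp ih M hM
    by_cases h : N ≤ M
    · have h' : (QuotientGroup.mk' N).ker ≤ M := by rwa [QuotientGroup.ker_mk']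
      have := ih _ (isCoatom_map_of_ker_le (QuotientGroup.mk'_surjective N) hM h')
      rwa [index_map_eq _ (QuotientGroup.mk'_surjective N) h'] at this
    · have := Fact.mk hp
      have h1 : M ⊔ N = ⊤ := hM.2 _ (left_lt_sup.2 h)
      have h2 : M.subgroupOf N = ⊥ := by
        rcases (M.subgroupOf N).eq_bot_or_eq_top_of_prime_card with h2 | h2
        · exact h2
        · exact absurd (subgroupOf_eq_top.1 h2) h
      have hc : IsComplement' N M := by
        refine isComplement'_of_disjoint_and_mul_eq_univ (subgroupOf_eq_bot.1 h2).symm ?_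
        rw [← normal_mul, sup_comm, h1, coe_top]
      rw [hc.index_eq_card]
      exact hp

theorem hasSubgroupOfEveryOrder (G : Type u) [Group G] [Finite G] (hG : IsSupersolvable G) :
    HasSubgroupOfEveryOrder G := by
  refine induction_on (P := fun G _ _ => HasSubgroupOfEveryOrder G) ?_ ?_ G hG
  · intro G _ _ _ d hd
    rw [Nat.card_eq_one_iff_unique.2 ⟨inferInstance, inferInstance⟩, Nat.dvd_one] at hd
    exact ⟨⊥, by rw [card_bot, hd]⟩
  · intro G _ _ N _ _ hp ih d hd
    rw [card_eq_card_quotient_mul_card_subgroup N] at hd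
    by_cases h : Nat.card N ∣ d
    · obtain ⟨e, rfl⟩ := h
      rw [mul_comm (Nat.card N)] at hd
      obtain ⟨K, hK⟩ := ih e (Nat.dvd_of_mul_dvd_mul_right Nat.card_pos hd)
      exact ⟨K.comap (QuotientGroup.mk' N), by rw [card_comap_mk, hK, mul_comm]⟩
    · have hcop : d.Coprime (Nat.card N) := ((Nat.Prime.coprime_iff_not_dvd hp).2 h).symm
      obtain ⟨K, hK⟩ := ih d (hcop.dvd_of_dvd_mul_right hd)
      set L := K.comap (QuotientGroup.mk' N) with hL
      have hle : N ≤ L := by
        intro x hx
        rw [hL, mem_comap, QuotientGroup.mk'_apply, (QuotientGroup.eq_one_iff x).2 hx]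
        exact K.one_mem
      have hcard : Nat.card (N.subgroupOf L) = Nat.card N :=
        Nat.card_congr (subgroupOfEquivOfLe hle).toEquiv
      have hidx : (N.subgroupOf L).index = d := by
        have h4 := card_mul_relIndex hle
        rw [hL, card_comap_mk, mul_comm (Nat.card K), hK] at h4
        exact Nat.eq_of_mul_eq_mul_left Nat.card_pos h4
      obtain ⟨C, hC⟩ := exists_right_complement'_of_coprime (N := N.subgroupOf L)
        (by rw [hcard, hidx]; exact hcop.symm)
      refine ⟨C.map L.subtype, ?_⟩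
      rw [card_subtype, ← hC.symm.index_eq_card, hidx]

end Fin

end CL.SS
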