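import Cfsg.Agent.Base
import Cfsg.Agent.Solv.SupersolvFin

/-!
Finite groups in which every subgroup has subgroups of every possible prime index are
supersolvable; the Sylow subgroup for the largest prime of a supersolvable group is normal.
-/

namespace CL.SS

open Cfsg Subgroup

universe u

section Util

variable {G : Type*} [Group G]

theorem le_of_coprime_index (H K : Subgroup G) [H.Normal]
    (h : (Nat.card K).Coprime H.index) : K ≤ H := by
  rw [← relIndex_eq_one]
  exact Nat.eq_one_of_dvd_coprimes h (relIndex_dvd_card H K) (relIndex_dvd_index_of_normal H K)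

theorem exists_minimal_normal_le [Finite G] (L : Subgroup G) [hL : L.Normal] (h : L ≠ ⊥) :
    ∃ N : Subgroup G, N.Normal ∧ N ≠ ⊥ ∧ N ≤ L ∧
      ∀ K : Subgroup G, K.Normal → K ≤ N → K = ⊥ ∨ K = N := by
  obtain ⟨N, ⟨h1, h2, h3⟩, hmin⟩ := (wellFounded_lt (α := Subgroup G)).has_min
    {N : Subgroup G | N.Normal ∧ N ≠ ⊥ ∧ N ≤ L} ⟨L, hL, h, le_rfl⟩
  refine ⟨N, h1, h2, h3, fun K hK hKN => ?_⟩
  by_contra hc
  push Not at hc
  exact hmin K ⟨hK, hc.1, hKN.trans h3⟩ (lt_of_le_of_ne hKN hc.2)

/-- A subgroup of prime index in `L` is maximal in `L`. -/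
theorem eq_of_prime_relIndex {M K L : Subgroup G} (hMK : M ≤ K) (hKL : K ≤ L)
    (hp : (M.relIndex L).Prime) : K = M ∨ K = L := by
  have h := relIndex_mul_relIndex M K L hMK hKL
  rcases (Nat.dvd_prime hp).1 (Dvd.intro _ h) with h1 | h1
  · exact Or.inl (le_antisymm (relIndex_eq_one.1 h1) hMK)
  · right
    rw [h1] at h
    have : K.relIndex L = 1 := by
      have h2 : M.relIndex L * K.relIndex L = M.relIndex L * 1 := by rw [h, mul_one]
      exact Nat.eq_of_mul_eq_mul_left hp.pos h2
    exact le_antisymm hKL (relIndex_eq_one.1 this)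

theorem relIndex_map_dvd {G' : Type*} [Group G'] (f : G →* G') (M H : Subgroup G) :
    (M.map f).relIndex (H.map f) ∣ M.relIndex H := by
  rw [← relIndex_comap]
  exact relIndex_dvd_of_le_left H (le_comap_map f M)

theorem card_sup_of_disjoint [Finite G] (N M : Subgroup G) [N.Normal] (h : N ⊓ M = ⊥) :
    Nat.card (N ⊔ M : Subgroup G) = Nat.card N * Nat.card M := by
  rw [← card_mul_relIndex (le_sup_left : N ≤ N ⊔ M), relIndex_sup_left, ← inf_relIndex_right, h,
    relIndex_bot_left]

theorem exists_max_prime_dvd {n : ℕ} (hn : 1 < n) :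
    ∃ p : ℕ, p.Prime ∧ p ∣ n ∧ ∀ q : ℕ, q.Prime → q ∣ n → q ≤ p := by
  have hne : n.primeFactors.Nonempty := Nat.nonempty_primeFactors.2 hn
  refine ⟨n.primeFactors.max' hne, Nat.prime_of_mem_primeFactors (Finset.max'_mem _ _),
    Nat.dvd_of_mem_primeFactors (Finset.max'_mem _ _), fun q hq hqn => ?_⟩
  exact Finset.le_max' _ _ (Nat.mem_primeFactors.2 ⟨hq, hqn, by omega⟩)

/-- A normal Sylow subgroup of a normal subgroup is normal. -/
theorem sylow_normal_of_subtype_normal [Finite G] {p : ℕ} [Fact p.Prime] (P : Sylow p G)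
    (H : Subgroup G) [H.Normal] (hPH : (P : Subgroup G) ≤ H) (h : (P.subtype hPH).Normal) :
    (P : Subgroup G).Normal := by
  have := Sylow.characteristic_of_normal _ h
  have h2 : (((P.subtype hPH : Sylow p H) : Subgroup H).map H.subtype).Normal := inferInstance
  rwa [Sylow.coe_subtype, subgroupOf_map_subtype, inf_eq_left.2 hPH] at h2

theorem center_sylow_ne_bot [Finite G] {p : ℕ} [Fact p.Prime] {P : Subgroup G}
    (hP : IsPGroup p P) (h : P ≠ ⊥) : P ⊓ centralizer (P : Set G) ≠ ⊥ := by
  have : Nontrivial P := (nontrivial_iff_ne_bot P).2 h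
  obtain ⟨z, hz, hz1⟩ := (bot_lt_iff_ne_bot.1 hP.bot_lt_center |> (ne_bot_iff_exists_ne_one).1).imp
    (fun z hz => And.intro z.2 hz)
  intro hb
  have : ((z : P) : G) ∈ P ⊓ centralizer (P : Set G) := by
    refine mem_inf.2 ⟨(z : P).2, mem_centralizer_iff.2 ?_⟩
    intro x hx
    exact congrArg Subtype.val (mem_center_iff.1 hz ⟨x, hx⟩)
  rw [hb, Subgroup.mem_bot] at this
  exact hz1 (Subtype.ext (Subtype.ext this))

end Util

/-- Every subgroup `H` has, for every prime `p` dividing its order, a subgroup of index `p`. -/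
def HPI (G : Type*) [Group G] : Prop :=
  ∀ (H : Subgroup G) (p : ℕ), p.Prime → p ∣ Nat.card H → ∃ K : Subgroup G, K ≤ H ∧ K.relIndex H = p

section HPI

variable {G : Type*} [Group G] {G' : Type*} [Group G']

theorem HPI.of_hereditary [Finite G] (h : ∀ H : Subgroup G, HasSubgroupOfEveryOrder H) :
    HPI G := by
  intro H p hp hpH
  obtain ⟨d, hd⟩ := hpH
  obtain ⟨K, hK⟩ := h H d (Dvd.intro_left p hd.symm)
  refine ⟨K.map H.subtype, map_subtype_le K, ?_⟩
  have h1 := card_mul_relIndex (map_subtype_le K)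
  rw [card_subtype, hK, hd, mul_comm p] at h1
  exact Nat.eq_of_mul_eq_mul_left (hK ▸ Nat.card_pos) h1

theorem HPI.of_isSupersolvable [Finite G] (h : IsSupersolvable G) : HPI G :=
  HPI.of_hereditary (fun H => hasSubgroupOfEveryOrder H (subgroup h H))

theorem HPI.of_injective (h : HPI G) (f : G' →* G) (hf : Function.Injective f) : HPI G' := by
  intro H p hp hpH
  obtain ⟨K, hK, hKp⟩ := h (H.map f) p hp (by rwa [card_map_of_injective hf])
  refine ⟨K.comap f, ?_, by rwa [relIndex_comap]⟩
  exact (comap_mono hK).trans (comap_map_eq_self_of_injective hf H).le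

theorem HPI.subgroup (h : HPI G) (H : Subgroup G) : HPI H :=
  h.of_injective H.subtype H.subtype_injective

theorem HPI.map_aux [Finite G] (h : HPI G) (f : G →* G') (p : ℕ) (hp : p.Prime) (H : Subgroup G)
    (hpH : p ∣ Nat.card (H.map f)) : ∃ K : Subgroup G', K ≤ H.map f ∧ K.relIndex (H.map f) = p := by
  induction H using (wellFounded_lt (α := Subgroup G)).induction with
  | _ H ih =>
    obtain ⟨M, hMH, hM⟩ := h H p hp (hpH.trans (card_map_dvd H f))
    have h1 := relIndex_map_dvd f M H
    rw [hM] at h1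
    rcases (Nat.dvd_prime hp).1 h1 with h2 | h2
    · have h3 : M.map f = H.map f := le_antisymm (map_mono hMH) (relIndex_eq_one.1 h2)
      have hlt : M < H := by
        refine lt_of_le_of_ne hMH (fun h4 => ?_)
        rw [h4, relIndex_self] at hM
        exact hp.one_lt.ne hM
      have := ih M hlt (h3 ▸ hpH)
      rwa [h3] at this
    · exact ⟨M.map f, map_mono hMH, h2⟩

theorem HPI.of_surjective [Finite G] (h : HPI G) (f : G →* G') (hf : Function.Surjective f) :
    HPI G' := by
  intro H p hp hpH
  have := h.map_aux f p hp (H.comap f) (by rwa [map_comap_eq_self_of_surjective hf])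
  rwa [map_comap_eq_self_of_surjective hf] at this

theorem HPI.sylow_normal (p : ℕ) [hp : Fact p.Prime] (G : Type u) [Group G] [Finite G] (h : HPI G)
    (hmax : ∀ q : ℕ, q.Prime → q ∣ Nat.card G → q ≤ p) (P : Sylow p G) :
    (P : Subgroup G).Normal := by
  induction hn : Nat.card G using Nat.strong_induction_on generalizing G with
  | _ n ih =>
    by_cases hG : IsPGroup p G
    · have : (P : Subgroup G) = ⊤ := (P.is_maximal' (hG.to_subgroup ⊤) le_top).symm
      rw [this]
      infer_instance
    · have h1 : Nat.card G ≠ 1 := fun h1 => hG (IsPGroup.of_card (n := 0) (by rw [h1, pow_zero]))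
      have hq := Nat.minFac_prime h1
      have hqp : (Nat.card G).minFac ≠ p := by
        intro hqp
        apply hG
        rw [isPGroup_iff_primeFactors_card_subset hp.out.ne_zero, hp.out.primeFactors]
        intro q hq'
        have hq1 := Nat.prime_of_mem_primeFactors hq'
        have hq2 := Nat.dvd_of_mem_primeFactors hq'
        rw [Finset.mem_singleton]
        exact le_antisymm (hmax q hq1 hq2) (hqp ▸ Nat.minFac_le_of_dvd hq1.two_le hq2)
      obtain ⟨H, -, hH⟩ := h ⊤ _ hq (by rw [card_top]; exact Nat.minFac_dvd _)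
      rw [relIndex_top_right] at hH
      have hHn : H.Normal := normal_of_index_eq_minFac_card hH
      have hPH : (P : Subgroup G) ≤ H := by
        apply le_of_coprime_index
        obtain ⟨k, hk⟩ := P.isPGroup'.exists_card_eq
        rw [hk, hH]
        exact Nat.Coprime.pow_left k ((Nat.coprime_primes hp.out hq).2 hqp.symm)
      have hHt : H ≠ ⊤ := by
        rintro rfl
        rw [index_top] at hH
        exact hq.one_lt.ne hH
      refine sylow_normal_of_subtype_normal P H hPH ?_
      exact ih _ (hn ▸ card_lt_of_ne_top H hHt) H (h.subgroup H)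
        (fun q hq hqH => hmax q hq (hqH.trans (card_subgroup_dvd_card H))) _ rfl

theorem HPI.isSupersolvable (G : Type u) [Group G] [Finite G] (h : HPI G) :
    IsSupersolvable G := by
  refine of_class (P := fun G _ _ => HPI G) ?_ G h
  intro G _ _ _ h
  obtain ⟨p, hp, hpG, hmax⟩ := exists_max_prime_dvd (Finite.one_lt_card (α := G))
  have := Fact.mk hp
  obtain ⟨P⟩ : Nonempty (Sylow p G) := inferInstance
  have hPn := h.sylow_normal p G hmax P
  have hZ := center_sylow_ne_bot P.isPGroup' (P.ne_bot_of_dvd_card hpG)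
  obtain ⟨N, hNn, hN, hNZ, hmin⟩ := exists_minimal_normal_le _ hZ
  have hNP : N ≤ P := hNZ.trans inf_le_left
  obtain ⟨K, hK⟩ := exists_right_complement'_of_coprime (N := (P : Subgroup G)) P.card_coprime_index
  have hKp : ¬ p ∣ Nat.card K := by
    rw [← hK.symm.index_eq_card]
    exact P.not_dvd_index
  have hpN : p ∣ Nat.card N :=
    ((P.isPGroup'.to_le hNP).card_eq_or_dvd).resolve_left (fun h1 => hN (eq_bot_of_card_eq N h1))
  obtain ⟨M, hML, hM⟩ := h (N ⊔ K) p hp (hpN.trans (card_dvd_of_le le_sup_left))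
  have hNM : ¬ N ≤ M := by
    intro hNM
    apply hKp
    have h1 := relIndex_dvd_of_le_left (N ⊔ K) hNM
    rw [hM, relIndex_sup_left] at h1
    exact h1.trans (relIndex_dvd_card N K)
  have hsup : N ⊔ M = N ⊔ K := by
    rcases eq_of_prime_relIndex (le_sup_right : M ≤ N ⊔ M) (sup_le le_sup_left hML)
      (hM ▸ hp) with h1 | h1
    · exact absurd (sup_eq_right.1 h1) hNM
    · exact h1
  have hnorm : (N ⊓ M).Normal := by
    rw [← normalizer_eq_top_iff, eq_top_iff, ← hK.sup_eq_top]
    have hP : (P : Subgroup G) ≤ normalizer ((N ⊓ M : Subgroup G) : Set G) := by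
      refine le_trans ?_ (centralizer_le_normalizer _)
      rw [le_centralizer_iff]
      exact inf_le_left.trans (hNZ.trans inf_le_right)
    have hM' : M ≤ normalizer ((N ⊓ M : Subgroup G) : Set G) := by
      refine le_trans ?_ (inf_normalizer_le_normalizer_inf)
      exact le_inf (by rw [normalizer_eq_top]; exact le_top) le_normalizer
    refine sup_le hP (le_trans (le_sup_right.trans hsup.ge) (sup_le (hNP.trans hP) hM'))
  have hbot : N ⊓ M = ⊥ := by
    rcases hmin _ hnorm inf_le_left with h1 | h1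
    · exact h1
    · exact absurd (inf_eq_left.1 h1) hNM
  have hcard : Nat.card N = p := by
    have h1 := card_sup_of_disjoint N M hbot
    rw [hsup, ← card_mul_relIndex hML, hM, mul_comm] at h1
    exact (Nat.eq_of_mul_eq_mul_right Nat.card_pos h1).symm
  exact ⟨N, hNn, hN, isCyclic_of_prime_card hcard,
    h.of_surjective _ (QuotientGroup.mk'_surjective N)⟩

end HPI

section Largest

variable {G : Type*} [Group G]

/-- In a finite supersolvable group the Sylow subgroup for the largest prime is normal. -/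
theorem sylow_normal_of_max [Finite G] (hG : IsSupersolvable G) (p : ℕ) [Fact p.Prime]
    (hmax : ∀ q : ℕ, q.Prime → q ∣ Nat.card G → q ≤ p) (P : Sylow p G) :
    (P : Subgroup G).Normal :=
  (HPI.of_isSupersolvable hG).sylow_normal p G hmax P

theorem exists_normal_card_eq_max [Finite G] (hG : IsSupersolvable G) (p : ℕ) (hp : p.Prime)
    (hpG : p ∣ Nat.card G) (hmax : ∀ q : ℕ, q.Prime → q ∣ Nat.card G → q ≤ p) :
    ∃ N : Subgroup G, N.Normal ∧ Nat.card N = p := by
  have := Fact.mk hp
  obtain ⟨P⟩ : Nonempty (Sylow p G) := inferInstance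
  have := sylow_normal_of_max hG p hmax P
  obtain ⟨N, h1, h2, h3⟩ := exists_normal_prime_le hG P (P.ne_bot_of_dvd_card hpG)
  refine ⟨N, h1, ?_⟩
  have h4 := ((P.isPGroup'.to_le h2).card_eq_or_dvd).resolve_left h3.one_lt.ne'
  exact ((Nat.prime_dvd_prime_iff_eq hp h3).1 h4).symm

end Largest

end CL.SS
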