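import Cfsg.Agent.Solv.PCompl
import Cfsg.Agent.S0004
import Cfsg.Agent.S0005

/-!
Hall complement systems and system normalizers of finite solvable groups.
-/

set_option autoImplicit false

namespace CL.SN

open Subgroup Cfsg CL.CF
open scoped Pointwise

variable {G : Type*} [Group G]

theorem IsPCompl.card_eq [Finite G] {p : ℕ} (hp : p.Prime) {K : Subgroup G} (hK : IsPCompl p K) :
    Nat.card K = ordCompl[p] (Nat.card G) :=
  (Nat.div_eq_of_eq_mul_left (pow_pos hp.pos _)
    (by rw [← (isPCompl_iff hp K).1 hK, K.card_mul_index])).symm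

theorem isPCompl_of_card_eq [Finite G] {p : ℕ} (hp : p.Prime) {K : Subgroup G}
    (hK : Nat.card K = ordCompl[p] (Nat.card G)) : IsPCompl p K := by
  rw [isPCompl_iff hp]
  apply Nat.eq_of_mul_eq_mul_left (Nat.card_pos (α := K))
  rw [K.card_mul_index, hK, mul_comm, Nat.ordProj_mul_ordCompl_eq_self]

theorem card_eq_compl_mul_proj (p n : ℕ) : n = ordCompl[p] n * ordProj[p] n := by
  rw [mul_comm, Nat.ordProj_mul_ordCompl_eq_self]

theorem coprime_compl_proj {p n : ℕ} (hp : p.Prime) (hn : n ≠ 0) :
    (ordCompl[p] n).Coprime (ordProj[p] n) :=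
  ((Nat.coprime_ordCompl hp hn).pow_left _).symm

theorem IsPCompl.exists_conj [Finite G] [Group.IsSolvable G] {p : ℕ} (hp : p.Prime)
    {K L : Subgroup G} (hK : IsPCompl p K) (hL : IsPCompl p L) :
    ∃ g : G, MulAut.conj g • K = L :=
  Cfsg.Agent.S0004.result _ _ (card_eq_compl_mul_proj p _) (coprime_compl_proj hp Nat.card_pos.ne')
    K L (hK.card_eq hp) (hL.card_eq hp)

theorem exists_isPCompl_ge [Finite G] [Group.IsSolvable G] {p : ℕ} (hp : p.Prime)
    (L : Subgroup G) (hL : ¬ p ∣ Nat.card L) : ∃ K : Subgroup G, IsPCompl p K ∧ L ≤ K := by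
  obtain ⟨K, hK, hLK⟩ := Cfsg.Agent.S0005.result _ _ (card_eq_compl_mul_proj p (Nat.card G))
    (coprime_compl_proj hp Nat.card_pos.ne') L
    (((Nat.Prime.coprime_iff_not_dvd hp).2 hL).pow_left _).symm
  exact ⟨K, isPCompl_of_card_eq hp hK, hLK⟩

theorem exists_complementSystem (G : Type*) [Group G] [Finite G] [Group.IsSolvable G] :
    ∃ K : Nat.Primes → Subgroup G, IsComplementSystem K := by
  have h : ∀ p : Nat.Primes, ∃ K : Subgroup G, IsPCompl p K := fun p =>
    (exists_isPCompl_ge p.2 ⊥ (by rw [card_bot, Nat.dvd_one]; exact p.2.one_lt.ne')).imp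
      fun _ h => h.1
  choose K hK using h
  exact ⟨K, (isComplementSystem_iff K).2 hK⟩

/-- two `p`-complements inside a subgroup `T` are conjugate in `T` -/
theorem IsPCompl.exists_conj_mem [Finite G] {p : ℕ} (hp : p.Prime) {K L T : Subgroup G}
    [Group.IsSolvable T] (hK : IsPCompl p K) (hL : IsPCompl p L) (hKT : K ≤ T) (hLT : L ≤ T) :
    ∃ t ∈ T, MulAut.conj t • K = L := by
  obtain ⟨t, ht⟩ := (hK.subgroupOf_of_le hp hKT).exists_conj hp (hL.subgroupOf_of_le hp hLT)
  rw [conj_smul_subgroupOf hKT] at ht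
  refine ⟨t, t.2, ?_⟩
  have := congrArg (Subgroup.map T.subtype) ht
  rwa [subgroupOf_map_subtype, subgroupOf_map_subtype, inf_eq_left.2 hLT,
    inf_eq_left.2 (conj_smul_le_of_le hKT t)] at this

theorem conj_smul_eq_of_inv_mul_mem {K : Subgroup G} {x g : G} (h : x⁻¹ * g ∈ K) :
    MulAut.conj g • K = MulAut.conj x • K := by
  have : g = x * (x⁻¹ * g) := by group
  rw [this, map_mul, mul_smul, conj_smul_eq_self_of_mem h]

theorem mem_systemNormalizer {K : Nat.Primes → Subgroup G} {x : G} :
    x ∈ systemNormalizer K ↔ ∀ p, x ∈ normalizer (K p : Set G) := mem_iInf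

theorem systemNormalizer_le (K : Nat.Primes → Subgroup G) (p : Nat.Primes) :
    systemNormalizer K ≤ normalizer (K p : Set G) := iInf_le _ p

theorem systems_conj [Finite G] [Group.IsSolvable G] {K L : Nat.Primes → Subgroup G}
    (hK : IsComplementSystem K) (hL : IsComplementSystem L) :
    ∃ g : G, ∀ p : Nat.Primes, MulAut.conj g • K p = L p := by
  rw [isComplementSystem_iff] at hK hL
  choose x hx using fun p : Nat.Primes => (hK p).exists_conj p.2 (hL p)
  obtain ⟨g, hg⟩ := exists_mem_cosets_primes K (fun p => (hK p).1) x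
  exact ⟨g, fun p => (conj_smul_eq_of_inv_mul_mem (hg p)).trans (hx p)⟩

theorem systemNormalizer_conj (K : Nat.Primes → Subgroup G) (g : G) :
    systemNormalizer (fun p => MulAut.conj g • K p) = MulAut.conj g • systemNormalizer K := by
  ext x
  rw [mem_pointwise_smul_iff_inv_smul_mem, mem_systemNormalizer, mem_systemNormalizer]
  refine forall_congr' fun p => ?_
  rw [normalizer_conj_smul, mem_pointwise_smul_iff_inv_smul_mem]

theorem nilpotent_systemNormalizer [Finite G] {K : Nat.Primes → Subgroup G}
    (hK : IsComplementSystem K) : Group.IsNilpotent (systemNormalizer K) := by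
  rw [isComplementSystem_iff] at hK
  refine ((Group.isNilpotent_of_finite_tfae (G := systemNormalizer K)).out 0 3 rfl rfl).2 ?_
  intro p hp R
  set T : Subgroup G := ⨅ q : {q : Nat.Primes // (q : ℕ) ≠ p}, K q with hT
  have hTp : IsPGroup p T := by
    rw [isPGroup_iff_primeFactors_card_subset hp.out.ne_zero, hp.out.primeFactors]
    intro q hq
    rw [Finset.mem_singleton]
    by_contra hne
    have hq' := Nat.prime_of_mem_primeFactors hq
    exact (hK ⟨q, hq'⟩).2 ((Nat.dvd_of_mem_primeFactors hq).trans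
      (card_dvd_of_le (iInf_le (fun q : {q : Nat.Primes // (q : ℕ) ≠ p} => K q) ⟨⟨q, hq'⟩, hne⟩)))
  have hn : (T.subgroupOf (systemNormalizer K)).Normal := by
    apply normal_subgroupOf_of_le_normalizer
    refine le_trans ?_ (iInf_normalizer_le_normalizer_iInf _)
    exact le_iInf fun q => systemNormalizer_le K q
  have hle : (R : Subgroup (systemNormalizer K)) ≤ T.subgroupOf (systemNormalizer K) := by
    intro x hx
    refine mem_iInf.2 fun q => ?_
    obtain ⟨a, ha⟩ := (hK q).1
    refine mem_of_mem_normalizer ha (systemNormalizer_le K q x.2) ?_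
    have := R.isPGroup'.orderOf_coprime ((Nat.coprime_primes hp.out q.1.2).2 q.2.symm) ⟨x, hx⟩
    rw [← orderOf_coe, ← orderOf_coe] at this
    exact this.symm
  rw [← R.is_maximal' hTp.comap_subtype hle]
  exact hn

theorem complementSystem_map {H : Type*} [Group H] [Finite G] {K : Nat.Primes → Subgroup G}
    (hK : IsComplementSystem K) {f : G →* H} (hf : Function.Surjective f) :
    IsComplementSystem (fun p => (K p).map f) := by
  have := Finite.of_surjective f hf
  rw [isComplementSystem_iff] at hK ⊢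
  exact fun p => (hK p).map p.2 hf

theorem systemNormalizer_map {H : Type*} [Group H] [Finite G] [Group.IsSolvable G]
    {K : Nat.Primes → Subgroup G} (hK : IsComplementSystem K) {f : G →* H}
    (hf : Function.Surjective f) :
    systemNormalizer (fun p => (K p).map f) = (systemNormalizer K).map f := by
  rw [isComplementSystem_iff] at hK
  apply le_antisymm
  · intro y hy
    obtain ⟨x, rfl⟩ := hf y
    have h1 : ∀ p : Nat.Primes, ∃ n : f.ker, MulAut.conj (n : G) • K p = MulAut.conj x • K p := by
      intro p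
      have hx : x ∈ normalizer ((K p ⊔ f.ker : Subgroup G) : Set G) := by
        rw [← comap_map_eq]
        exact le_normalizer_comap f (mem_systemNormalizer.1 hy p)
      have hle : MulAut.conj x • K p ≤ K p ⊔ f.ker := by
        rw [← (conj_smul_eq_iff _ _).2 hx]
        exact pointwise_smul_le_pointwise_smul_iff.2 le_sup_left
      obtain ⟨t, ht, ht'⟩ := (hK p).exists_conj_mem p.2 ((hK p).conj p.2 x) le_sup_left hle
      rw [sup_comm] at ht
      obtain ⟨n, hn, k, hk, rfl⟩ := mem_sup_of_normal_left.1 ht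
      refine ⟨⟨n, hn⟩, ?_⟩
      rw [← ht', map_mul, mul_smul, conj_smul_eq_self_of_mem hk]
    choose n hn using h1
    obtain ⟨m, hm⟩ := exists_mem_cosets_primes (fun p => (K p).subgroupOf f.ker)
      (fun p => ((hK p).subgroupOf_of_normal p.2 f.ker).1) n
    refine ⟨(m : G)⁻¹ * x, mem_systemNormalizer.2 fun p => ?_, ?_⟩
    · rw [← conj_smul_eq_iff, map_mul, mul_smul, ← hn p,
        ← conj_smul_eq_of_inv_mul_mem (show (n p : G)⁻¹ * m ∈ K p from hm p), map_inv,
        inv_smul_smul]
    · rw [map_mul, map_inv, show f m = 1 from m.2, inv_one, one_mul]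
  · exact le_iInf fun p => (map_mono (systemNormalizer_le K p)).trans (le_normalizer_map f)

theorem systemNormalizer_eq_top_of_nilpotent [Finite G] [Group.IsNilpotent G]
    {K : Nat.Primes → Subgroup G} (hK : IsComplementSystem K) : systemNormalizer K = ⊤ := by
  rw [isComplementSystem_iff] at hK
  refine eq_top_iff.2 (le_iInf fun p => ?_)
  have := (hK p).normal_of_nilpotent p.2
  rw [normalizer_eq_top]

/-- a system normalizer covers every nilpotent quotient -/
theorem systemNormalizer_sup_eq_top [Finite G] [Group.IsSolvable G] {K : Nat.Primes → Subgroup G}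
    (hK : IsComplementSystem K) (N : Subgroup G) [N.Normal] [Group.IsNilpotent (G ⧸ N)] :
    systemNormalizer K ⊔ N = ⊤ := by
  have h := systemNormalizer_map hK (QuotientGroup.mk'_surjective N)
  rw [systemNormalizer_eq_top_of_nilpotent
    (complementSystem_map hK (QuotientGroup.mk'_surjective N))] at h
  have h2 := congrArg (comap (QuotientGroup.mk' N)) h
  rw [comap_top, comap_map_eq, QuotientGroup.ker_mk'] at h2
  exact h2.symm

/-- a `p`-complement has no fixed points on a non-central minimal normal `p`-subgroup -/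
theorem inf_centralizer_eq_bot [Finite G] [Group.IsSolvable G] {p : ℕ} (hp : p.Prime)
    (B : Subgroup G) [B.Normal] (hmin : ∀ N : Subgroup G, N.Normal → N ≤ B → N = ⊥ ∨ N = B)
    (hB : IsPGroup p B) (hc : centralizer (B : Set G) ≠ ⊤) {K : Subgroup G} (hK : IsPCompl p K) :
    B ⊓ centralizer (K : Set G) = ⊥ := by
  have := Fact.mk hp
  set C := centralizer (B : Set G) with hC
  have hBb : B ≠ ⊥ := by
    rintro rfl
    exact hc (centralizer_eq_top_iff_subset.2 (by simp))
  have hcomm := minNormal_comm B hBb hmin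
  have : Nontrivial (G ⧸ C) := QuotientGroup.nontrivial_iff.2 hc
  obtain ⟨L, hLn, hL, -, hLmin⟩ := exists_minNormal_le (⊤ : Subgroup (G ⧸ C)) top_ne_bot
  obtain ⟨q, hq, -, hLq, -⟩ := minNormal_exists_prime L hL hLmin
  have := Fact.mk hq
  set L' := L.comap (QuotientGroup.mk' C) with hL'
  have hmap : L'.map (QuotientGroup.mk' C) = L :=
    map_comap_eq_self_of_surjective (QuotientGroup.mk'_surjective C) L
  have h1 : B ⊓ centralizer (L' : Set G) = ⊥ := by
    refine (hmin _ inferInstance inf_le_left).resolve_right fun h => hL ?_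
    have h2 : L' ≤ C := le_centralizer_iff.1 (h ▸ inf_le_right)
    rw [← hmap, Subgroup.map_eq_bot_iff, QuotientGroup.ker_mk']
    exact h2
  -- an element of `B` centralizing a supplement of `C` in `L'` is trivial
  have key : ∀ X : Subgroup G, L ≤ X.map (QuotientGroup.mk' C) →
      B ⊓ centralizer (X : Set G) = ⊥ := by
    intro X hX
    rw [eq_bot_iff, ← h1]
    refine le_inf inf_le_left (le_centralizer_iff.1 ?_)
    have h2 := comap_mono (f := QuotientGroup.mk' C) hX
    rw [comap_map_eq, QuotientGroup.ker_mk'] at h2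
    exact h2.trans (sup_le (le_centralizer_iff.1 inf_le_right)
      (centralizer_le (fun x hx => hx.1)))
  by_cases hqp : q = p
  · subst hqp
    exfalso
    obtain ⟨P⟩ : Nonempty (Sylow q G) := inferInstance
    refine inf_centralizer_ne_bot B P hB hBb P.isPGroup' le_normalizer_of_normal (key P ?_)
    exact hLq.le_sylow_of_normal (P.mapSurjective (QuotientGroup.mk'_surjective C))
  · obtain ⟨a, ha⟩ := (hK.map hp (QuotientGroup.mk'_surjective C)).1
    refine key K (le_of_normal ha L ?_)
    obtain ⟨n, hn⟩ := IsPGroup.iff_card.1 hLq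
    rw [hn]
    exact ((Nat.coprime_primes hp hq).2 (Ne.symm hqp)).pow_right n

/-- a system normalizer avoids a non-central minimal normal subgroup -/
theorem inf_systemNormalizer_eq_bot [Finite G] [Group.IsSolvable G] {K : Nat.Primes → Subgroup G}
    (hK : IsComplementSystem K) (B : Subgroup G) [B.Normal] (hB : B ≠ ⊥)
    (hmin : ∀ N : Subgroup G, N.Normal → N ≤ B → N = ⊥ ∨ N = B)
    (hc : centralizer (B : Set G) ≠ ⊤) : B ⊓ systemNormalizer K = ⊥ := by
  rw [isComplementSystem_iff] at hK
  obtain ⟨p, hp, -, hBp, -⟩ := minNormal_exists_prime B hB hmin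
  have := Fact.mk hp
  have hKp := hK ⟨p, hp⟩
  rw [eq_bot_iff, ← inf_centralizer_eq_bot hp B hmin hBp hc hKp]
  refine le_inf inf_le_left (commutator_eq_bot_iff_le_centralizer.1 (eq_bot_iff.2 ?_))
  have hd : B ⊓ K ⟨p, hp⟩ = ⊥ := by
    obtain ⟨n, hn⟩ := IsPGroup.iff_card.1 hBp
    apply disjoint_iff.1
    apply disjoint_of_coprime_natCard
    rw [hn]
    exact Nat.Coprime.pow_left n ((Nat.Prime.coprime_iff_not_dvd hp).2 hKp.2)
  rw [← hd]
  exact le_inf ((commutator_mono inf_le_left le_rfl).trans (commutator_le_left _ _))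
    (le_normalizer_iff_commutator_le_right.1 (inf_le_right.trans (systemNormalizer_le K _)))

end CL.SN
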