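import Cfsg.Agent.Solv.CoreFree

/-!
Frattini subgroup: Gaschütz type lemmas.
-/

set_option autoImplicit false

namespace CL.CF

open Subgroup

variable {G : Type*} [Group G]

theorem le_frattini_iff {N : Subgroup G} : N ≤ frattini G ↔ ∀ M : Subgroup G, IsCoatom M → N ≤ M := by
  simp only [frattini, Order.radical, le_iInf_iff]
  rfl

theorem sup_eq_top_of_coatom {N M : Subgroup G} (hM : IsCoatom M) (h : ¬ N ≤ M) : N ⊔ M = ⊤ := by
  apply hM.2
  refine lt_of_le_of_ne le_sup_right fun h' => h ?_
  rw [h']; exact le_sup_left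

/-- passing an equation `X ⊔ Y = U` to the group `U` -/
theorem subgroupOf_sup_eq_top {X Y U : Subgroup G} (hX : X ≤ U) (h : U ≤ X ⊔ (Y ⊓ U)) :
    X.subgroupOf U ⊔ Y.subgroupOf U = ⊤ := by
  apply map_injective U.subtype_injective
  rw [Subgroup.map_sup, subgroupOf_map_subtype, subgroupOf_map_subtype, ← MonoidHom.range_eq_map,
    range_subtype, inf_eq_left.2 hX]
  exact le_antisymm (sup_le hX inf_le_right) h

/-- A normal subgroup of `G` inside the Frattini subgroup of a subgroup `U` lies in `Φ(G)`. -/
theorem le_frattini_of_le_map_frattini [Finite G] (N U : Subgroup G) [N.Normal]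
    (h : N ≤ (frattini U).map U.subtype) : N ≤ frattini G := by
  rw [le_frattini_iff]
  intro M hM
  by_contra hNM
  have hNU : N ≤ U := h.trans (map_subtype_le _)
  have h1 := sup_inf_of_normal_le N M U hNU
  rw [sup_eq_top_of_coatom hM hNM, top_inf_eq] at h1
  have h2 := subgroupOf_sup_eq_top hNU h1.le
  have h3 : N.subgroupOf U ≤ frattini U := by
    intro x hx
    obtain ⟨y, hy, hxy⟩ := h hx
    rwa [← Subtype.ext hxy]
  have h4 : M.subgroupOf U = ⊤ := by
    apply frattini_nongenerating
    rw [eq_top_iff, ← h2, sup_comm]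
    exact sup_le_sup_left h3 _
  exact hNM (hNU.trans (subgroupOf_eq_top.1 h4))

theorem map_frattini_le_of_normal [Finite G] (H : Subgroup G) [H.Normal] :
    (frattini H).map H.subtype ≤ frattini G :=
  le_frattini_of_le_map_frattini _ H le_rfl

/-- In a finite nilpotent group the derived subgroup lies in the Frattini subgroup. -/
theorem commutator_le_frattini [Finite G] [h : Group.IsNilpotent G] :
    commutator G ≤ frattini G := by
  rw [le_frattini_iff]
  intro M hM
  have : M.Normal := NormalizerCondition.normal_of_coatom M Group.normalizerCondition_of_isNilpotent hM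
  have : Nontrivial (G ⧸ M) := QuotientGroup.nontrivial_iff.2 hM.1
  have h1 := Group.IsSolvable.commutator_lt_top_of_nontrivial (G ⧸ M)
  by_contra hc
  have h2 := congrArg (Subgroup.map (QuotientGroup.mk' M)) (sup_eq_top_of_coatom hM hc)
  rw [Subgroup.map_sup, QuotientGroup.map_mk'_self, sup_bot_eq,
    map_top_of_surjective _ (QuotientGroup.mk'_surjective M), _root_.map_commutator_eq,
    MonoidHom.range_eq_top.2 (QuotientGroup.mk'_surjective M)] at h2
  exact h1.ne h2

/-- Gaschütz: an abelian normal subgroup meeting `Φ(G)` trivially has a complement. -/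
theorem exists_complement_of_inf_frattini [Finite G] (A : Subgroup G) [A.Normal]
    [IsMulCommutative A] (h : A ⊓ frattini G = ⊥) : ∃ H : Subgroup G, IsComplement' A H := by
  obtain ⟨H, -, hH, hmin⟩ := exists_minimal_le_of_wellFoundedLT
    (fun H : Subgroup G => A ⊔ H = ⊤) ⊤ (sup_top_eq _)
  refine ⟨H, isComplement'_of_normal ?_ hH⟩
  have hn : (A ⊓ H).Normal := normal_of_sup_eq_top hH
    (le_normalizer_of_le_centralizer (inf_le_left.trans (le_centralizer A)))
    (le_normalizer_inf_of_normal A H)
  rw [eq_bot_iff, ← h]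
  refine le_inf inf_le_left (le_frattini_iff.2 fun M hM => ?_)
  by_contra hc
  have h1 := sup_inf_of_normal_le (A ⊓ H) M H inf_le_right
  rw [sup_eq_top_of_coatom hM hc, top_inf_eq] at h1
  have h2 : A ⊔ (M ⊓ H) = ⊤ := by
    rw [eq_top_iff, ← hH]
    refine sup_le le_sup_left (h1.le.trans (sup_le_sup_right inf_le_left _))
  have h3 : H ≤ M ⊓ H := hmin h2 inf_le_right
  exact hc (inf_le_right.trans (h3.trans inf_le_left))

/-- a nilpotent normal subgroup centralizes every minimal normal subgroup -/
theorem le_centralizer_minNormal (N M : Subgroup G) [N.Normal] [M.Normal]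
    (hN : Group.IsNilpotent N) (hM : M ≠ ⊥)
    (hmin : ∀ K : Subgroup G, K.Normal → K ≤ M → K = ⊥ ∨ K = M) :
    N ≤ centralizer (M : Set G) := by
  rw [le_centralizer_iff, ← commutator_eq_bot_iff_le_centralizer]
  refine (hmin _ inferInstance (commutator_le_left M N)).resolve_right fun h => hM ?_
  obtain ⟨n, hn⟩ := (isNilpotent_iff_lowerCentralSeries N).1 hN
  have key : ∀ k, M ≤ N.lowerCentralSeries k := by
    intro k
    induction k with
    | zero => rw [← h]; exact commutator_le_right M N
    | succ k ih => rw [← h]; exact commutator_mono ih le_rfl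
  exact le_bot_iff.1 (hn ▸ key n)

/-- If the image of a Sylow subgroup `P` of the normal subgroup `A` is normal in `A / (A ∩ B)` for a
normal `B ≤ Φ(G)`, then `P` is normal in `G`. -/
theorem sylow_normal_of_sup_frattini [Finite G] {p : ℕ} [Fact p.Prime] (A B : Subgroup G)
    [A.Normal] [B.Normal] (hB : B ≤ frattini G) (P : Sylow p A)
    (h : ((P : Subgroup A).map (QuotientGroup.mk' (B.subgroupOf A))).Normal) :
    ((P : Subgroup A).map A.subtype).Normal := by
  set N := ((P : Subgroup A).map (QuotientGroup.mk' (B.subgroupOf A))).comap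
    (QuotientGroup.mk' (B.subgroupOf A)) with hN
  have hNe : N = (P : Subgroup A) ⊔ B.subgroupOf A := by
    rw [hN, comap_map_eq, QuotientGroup.ker_mk']
  have h1 := Sylow.normalizer_sup_eq_top' (N := N) P (hNe ▸ le_sup_left)
  have h2 : A ≤ normalizer ((P : Subgroup A).map A.subtype : Set G) ⊔ frattini G := by
    have h3 := congrArg (Subgroup.map A.subtype) h1
    rw [← MonoidHom.range_eq_map, range_subtype, hNe, Subgroup.map_sup, Subgroup.map_sup,
      subgroupOf_map_subtype] at h3
    refine h3.ge.trans (sup_le ((le_normalizer_map _).trans le_sup_left)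
      (sup_le (le_normalizer.trans le_sup_left) ((inf_le_left.trans hB).trans le_sup_right)))
  rw [← normalizer_eq_top_iff]
  apply frattini_nongenerating
  rw [eq_top_iff, ← Sylow.normalizer_sup_eq_top P]
  exact sup_le le_sup_left h2

end CL.CF
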