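import Cfsg.Agent.Base
import Cfsg.Agent.Solv.FactorKegel
import Cfsg.Agent.Solv.Zipper

/-!
The Kegel–Wielandt theorem, part A: a minimal counterexample `G = AB` in the coprime case;
central elements of `A` and `B` generate `G`.
-/

set_option autoImplicit false

open scoped Pointwise commutatorElement

namespace CL.KW

open Cj Cfsg

variable {G : Type*} [Group G]

/-- `a` is a central element of prime order `p` of the subgroup `A`. -/
structure Zel (A : Subgroup G) (p : ℕ) (a : G) : Prop where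
  prime : p.Prime
  ord : orderOf a = p
  mem : a ∈ A
  cent : A ≤ Subgroup.centralizer ({a} : Set G)

namespace Zel

variable {A : Subgroup G} {p : ℕ} {a : G}

theorem ne_one (h : Zel A p a) : a ≠ 1 := fun h1 => h.prime.ne_one (by rw [← h.ord, h1, orderOf_one])

theorem pow_eq_one (h : Zel A p a) : a ^ p = 1 := by rw [← h.ord, pow_orderOf_eq_one]

theorem comm (h : Zel A p a) {x : G} (hx : x ∈ A) : x * a = a * x :=
  Subgroup.mem_centralizer_singleton_iff.1 (h.cent hx)

theorem conj_eq (h : Zel A p a) {x : G} (hx : x ∈ A) : x * a * x⁻¹ = a := by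
  rw [h.comm hx, mul_inv_cancel_right]

theorem mem_centralizer (h : Zel A p a) {X : Subgroup G} (hX : X ≤ A) :
    a ∈ Subgroup.centralizer (X : Set G) := fun _ hx => h.comm (hX hx)

theorem mem_centralizer_singleton (h : Zel A p a) {x : G} (hx : x ∈ A) :
    a ∈ Subgroup.centralizer ({x} : Set G) :=
  Subgroup.mem_centralizer_singleton_iff.2 (h.comm hx).symm

theorem dvd_card (h : Zel A p a) : p ∣ Nat.card A := h.ord ▸ Subgroup.orderOf_dvd_natCard A h.mem

theorem isPGroup (h : Zel A p a) : IsPGroup p (Subgroup.zpowers a) :=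
  isPGroup_zpowers_of_pow_eq_one (k := 1) (by rw [pow_one, h.pow_eq_one])

theorem mem_pPart (h : Zel A p a) : a ∈ pPart p A := mem_pPart_of_orderOf_eq h.mem h.ord

theorem le_normalizer_zpowers (h : Zel A p a) :
    A ≤ Subgroup.normalizer (Subgroup.zpowers a : Set G) := fun x hx => by
  rw [mem_normalizer_iff_conj_eq, conj_zpowers, h.conj_eq hx]

theorem conj (h : Zel A p a) (g : G) : Zel (MulAut.conj g • A) p (g * a * g⁻¹) where
  prime := h.prime
  ord := by rw [← h.ord]; exact MulEquiv.orderOf_eq (MulAut.conj g) a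
  mem := conj_mem_conj g h.mem
  cent := fun x hx => by
    obtain ⟨y, hy, rfl⟩ := exists_of_mem_conj hx
    rw [Subgroup.mem_centralizer_singleton_iff]
    calc g * y * g⁻¹ * (g * a * g⁻¹) = g * (y * a) * g⁻¹ := by group
      _ = _ := by rw [h.comm hy]; group

end Zel

theorem exists_zel [Finite G] {A : Subgroup G} (hA : Group.IsNilpotent A) {p : ℕ} (hp : p.Prime)
    (h : p ∣ Nat.card A) : ∃ a, Zel A p a := by
  have : Fact p.Prime := ⟨hp⟩
  have hP := isPGroup_pPart p hA
  have : Nontrivial (pPart p A) := (Subgroup.nontrivial_iff_ne_bot _).2 (pPart_ne_bot h)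
  have hZ : p ∣ Nat.card (Subgroup.center (pPart p A)) := by
    rcases (hP.to_subgroup (Subgroup.center _)).card_eq_or_dvd with h1 | h1
    · exact absurd (Subgroup.card_eq_one.1 h1) hP.bot_lt_center.ne'
    · exact h1
  obtain ⟨⟨⟨a, ha⟩, hz⟩, ho⟩ := exists_prime_orderOf_dvd_card' p hZ
  rw [← Subgroup.orderOf_coe, ← Subgroup.orderOf_coe] at ho
  refine ⟨a, hp, ho, pPart_le p A ha, le_of_forall_pPart_le fun q hq => ?_⟩
  have : Fact q.Prime := ⟨hq⟩
  by_cases hqp : q = p
  · subst hqp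
    intro x hx
    rw [Subgroup.mem_centralizer_singleton_iff]
    exact congrArg Subtype.val (Subgroup.mem_center_iff.1 hz ⟨x, hx⟩)
  · exact (pPart_le_centralizer_of_isPGroup hA hqp (pPart_le p A) hP).trans
      (Subgroup.centralizer_le (Set.singleton_subset_iff.2 ha))

theorem exists_pow_mul_eq {V : Subgroup G} {x v : G} (hx : x ∈ Subgroup.normalizer (V : Set G))
    (hv : v ∈ V) (n : ℕ) : ∃ w ∈ V, (x * v) ^ n = x ^ n * w := by
  induction n with
  | zero => exact ⟨1, V.one_mem, by simp⟩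
  | succ n ih =>
    obtain ⟨w, hw, he⟩ := ih
    refine ⟨x⁻¹ * w * x * v, V.mul_mem ((Subgroup.mem_normalizer_iff''.1 hx w).1 hw) hv, ?_⟩
    rw [pow_succ, he, pow_succ]; group

/-- A subgroup normalising `A` whose order is coprime to the index of `A` lies in `A`. -/
theorem le_of_le_normalizer_of_coprime [Finite G] {A T : Subgroup G}
    (hT : T ≤ Subgroup.normalizer (A : Set G)) (hc : (Nat.card T).Coprime A.index) : T ≤ A := by
  rw [← Subgroup.relIndex_eq_one]
  refine Nat.eq_one_of_dvd_coprimes hc (Subgroup.relIndex_dvd_card A T) ?_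
  rw [(IsProd.of_le_normalizer hT).relIndex_eq]
  exact Subgroup.relIndex_dvd_index_of_le le_sup_right

/-- The situation of a minimal counterexample to Wielandt's theorem. -/
structure Setup (A B : Subgroup G) : Prop where
  simple : IsSimpleGroup G
  prod : IsProd ⊤ A B
  nilA : Group.IsNilpotent A
  nilB : Group.IsNilpotent B
  cop : (Nat.card A).Coprime (Nat.card B)
  twoA : ∀ r : ℕ, r.Prime → ∃ p : ℕ, p.Prime ∧ p ≠ r ∧ p ∣ Nat.card A
  twoB : ∀ r : ℕ, r.Prime → ∃ p : ℕ, p.Prime ∧ p ≠ r ∧ p ∣ Nat.card B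
  ih : ∀ H X Y : Subgroup G, H ≠ ⊤ → IsProd H X Y → Group.IsNilpotent X → Group.IsNilpotent Y →
    Group.IsSolvable H

namespace Setup

variable [Finite G] {A B : Subgroup G} {p q : ℕ} {a b : G}

omit [Finite G] in
protected theorem symm (h : Setup A B) : Setup B A :=
  ⟨h.simple, h.prod.symm, h.nilB, h.nilA, h.cop.symm, h.twoB, h.twoA, h.ih⟩

omit [Finite G] in
theorem conj_right (h : Setup A B) (g : G) : Setup A (MulAut.conj g • B) :=
  ⟨h.simple, h.prod.conj_right trivial, h.nilA, isNilpotent_conj g h.nilB,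
    by rw [card_conj]; exact h.cop, h.twoA, by rw [card_conj]; exact h.twoB, h.ih⟩

omit [Finite G] in
theorem conj_left (h : Setup A B) (g : G) : Setup (MulAut.conj g • A) B :=
  (h.symm.conj_right g).symm

omit [Finite G] in
theorem eq_top_of_normal (h : Setup A B) {N : Subgroup G} (hN : N.Normal) (h0 : N ≠ ⊥) : N = ⊤ :=
  have := h.simple
  hN.eq_bot_or_eq_top.resolve_left h0

omit [Finite G] in
theorem normalizer_ne_top (h : Setup A B) {X : Subgroup G} (h0 : X ≠ ⊥) (h1 : X ≠ ⊤) :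
    Subgroup.normalizer (X : Set G) ≠ ⊤ := fun h2 =>
  h1 (h.eq_top_of_normal (Subgroup.normalizer_eq_top_iff.1 h2) h0)

omit [Finite G] in
theorem inf_eq_bot (h : Setup A B) : A ⊓ B = ⊥ := (Subgroup.disjoint_of_coprime_natCard h.cop).eq_bot

omit [Finite G] in
theorem eq_one_of_mem (h : Setup A B) {x : G} (h1 : x ∈ A) (h2 : x ∈ B) : x = 1 := by
  rw [← Subgroup.mem_bot, ← h.inf_eq_bot]; exact ⟨h1, h2⟩

omit [Finite G] in
theorem not_dvd (h : Setup A B) {t : ℕ} (ht : t.Prime) (h1 : t ∣ Nat.card A) :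
    ¬ t ∣ Nat.card B := fun h2 => ht.ne_one (Nat.eq_one_of_dvd_coprimes h.cop h1 h2)

omit [Finite G] in
theorem not_dvd_index (h : Setup A B) {t : ℕ} (h1 : ¬ t ∣ Nat.card B) : ¬ t ∣ A.index :=
  fun h2 => h1 (h2.trans h.prod.symm.index_dvd_card)

omit [Finite G] in
theorem ne_top (h : Setup A B) : A ≠ ⊤ := by
  rintro rfl
  obtain ⟨p, hp, -, hd⟩ := h.twoB 2 Nat.prime_two
  exact h.not_dvd hp (hd.trans (Subgroup.card_dvd_of_le le_top)) hd

theorem ne_top_of_isPGroup (h : Setup A B) {X : Subgroup G} {t : ℕ} (ht : t.Prime)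
    (hX : IsPGroup t X) : X ≠ ⊤ := by
  rintro rfl
  have : Fact t.Prime := ⟨ht⟩
  obtain ⟨p, hp, hne, hd⟩ := h.twoA t ht
  obtain ⟨n, hn⟩ := hX.exists_card_eq
  have h1 := hd.trans (Subgroup.card_dvd_of_le (le_top : A ≤ ⊤))
  rw [hn] at h1
  exact hne ((Nat.prime_dvd_prime_iff_eq hp ht).1 (hp.dvd_of_dvd_pow h1))

omit [Finite G] in
theorem centralizer_ne_top (h : Setup A B) {y : G} (hy : y ∈ A) (hy1 : y ≠ 1) :
    Subgroup.centralizer ({y} : Set G) ≠ ⊤ := by
  intro h0
  rw [Subgroup.centralizer_eq_top_iff_subset, Set.singleton_subset_iff] at h0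
  have := h.eq_top_of_normal (normal_of_le_center (Subgroup.zpowers_le.2 h0)) (by simpa using hy1)
  exact h.ne_top (top_le_iff.1 (this.ge.trans (Subgroup.zpowers_le.2 hy)))

omit [Finite G] in
/-- Step 0: `B` and a central element of `A` generate `G`. -/
theorem eq_top_of_le_of_mem (h : Setup A B) (ha : Zel A p a) {T : Subgroup G} (hB : B ≤ T)
    (haT : a ∈ T) : T = ⊤ := by
  have h1 : a ∈ T.normalCore := by
    intro g
    obtain ⟨y, hy, x, hx, rfl⟩ := h.prod.symm.exists_mul (Subgroup.mem_top g)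
    have : y * x * a * (y * x)⁻¹ = y * (x * a * x⁻¹) * y⁻¹ := by group
    rw [this, ha.conj_eq hx]
    exact T.mul_mem (T.mul_mem (hB hy) haT) (T.inv_mem (hB hy))
  have h2 := h.eq_top_of_normal (N := T.normalCore) inferInstance fun h0 => ha.ne_one (by
    rwa [h0, Subgroup.mem_bot] at h1)
  exact top_le_iff.1 (h2.ge.trans T.normalCore_le)

/-- Step 1 (Matsuyama). -/
theorem not_isPGroup (h : Setup A B) (ha : Zel A p a) (hb : Zel B q b) :
    ¬ IsPGroup q ↥(⨆ y ∈ Subgroup.zpowers a, MulAut.conj y • Subgroup.zpowers b) := by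
  intro hq
  have : Fact q.Prime := ⟨hb.prime⟩
  obtain ⟨P, hP⟩ := matsuyama (p := q) (Subgroup.zpowers b) (Subgroup.zpowers a) fun g => by
    obtain ⟨x, hx, y, hy, rfl⟩ := h.prod.exists_mul (Subgroup.mem_top g)
    refine (isPGroup_conj x hq).to_le (iSup₂_le fun z hz => ?_)
    have h1 : z * x = x * z := by
      obtain ⟨n, rfl⟩ := hz
      exact ((Commute.zpow_right (ha.comm hx) n).eq).symm
    rw [← mul_assoc, h1, mul_assoc, ← conj_conj, ← conj_conj,
      conj_eq_of_mem_normalizer (hb.le_normalizer_zpowers hy)]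
    exact conj_mono x (le_iSup₂ (f := fun y (_ : y ∈ Subgroup.zpowers a) =>
      MulAut.conj y • Subgroup.zpowers b) z hz)
  obtain ⟨Q, hQ⟩ := exists_sylow_eq_pPart h.nilB
    (h.symm.not_dvd_index (h.symm.not_dvd hb.prime hb.dvd_card))
  obtain ⟨g, rfl⟩ := MulAction.exists_smul_eq G Q P
  rw [coe_sylow_smul, hQ] at hP
  refine h.normalizer_ne_top ?_ ?_ ((h.conj_right g).eq_top_of_le_of_mem ha ?_
    (hP (Subgroup.mem_zpowers a)))
  · intro h0
    have := conj_le_wcl (conj_mono g (Subgroup.zpowers_le.2 hb.mem_pPart))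
    rw [h0, le_bot_iff, conj_eq_bot_iff, Subgroup.zpowers_eq_bot] at this
    exact hb.ne_one this
  · exact h.ne_top_of_isPGroup hb.prime
      ((isPGroup_conj g (isPGroup_pPart q h.nilB)).to_le (wcl_le _ _))
  · refine le_trans ?_ (normalizer_le_normalizer_wcl _ _)
    rw [← conj_normalizer]
    exact conj_mono g (le_normalizer_pPart q B)

omit [Finite G] in
theorem isSolvable_of_isProd (h : Setup A B) {H : Subgroup G} (hH : H ≠ ⊤)
    (hp : IsProd H (H ⊓ A) (H ⊓ B)) : Group.IsSolvable H :=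
  have := h.nilA
  have := h.nilB
  h.ih H _ _ hH hp (isNilpotent_of_le inf_le_right) (isNilpotent_of_le inf_le_right)

/-- Subgroups of `F(H)` of order prime to `|B|` lie in `A`. -/
theorem le_of_le_fittingOf (_h : Setup A B) {H X : Subgroup G} (hp : IsProd H (H ⊓ A) (H ⊓ B))
    (hX : X ≤ fittingOf H) (hc : (Nat.card X).Coprime (Nat.card B)) : X ≤ A := by
  have h1 : SubnIn X H := (SubnIn.of_isNilpotent (fittingOf_isNilpotent H) hX).tail
    ⟨fittingOf_le H, le_normalizer_fittingOf H⟩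
  refine h1.le_of_coprime (hc.coprime_dvd_right ?_)
  rw [← Subgroup.inf_relIndex_left]
  exact hp.symm.relIndex_dvd_card.trans (Subgroup.card_dvd_of_le inf_le_right)

theorem pPart_fittingOf_le (h : Setup A B) {H : Subgroup G} (hp : IsProd H (H ⊓ A) (H ⊓ B))
    {t : ℕ} (ht : t.Prime) (hd : ¬ t ∣ Nat.card B) : pPart t (fittingOf H) ≤ A := by
  have : Fact t.Prime := ⟨ht⟩
  refine h.le_of_le_fittingOf hp (pPart_le _ _) ?_
  obtain ⟨n, hn⟩ := (isPGroup_pPart t (fittingOf_isNilpotent H)).exists_card_eq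
  rw [hn]
  exact ((Nat.Prime.coprime_iff_not_dvd ht).2 hd).pow_left n

theorem le_normalizer_fittingOf_inf (h : Setup A B) {H : Subgroup G}
    (hp : IsProd H (H ⊓ A) (H ⊓ B)) :
    H ≤ Subgroup.normalizer ((fittingOf H ⊓ A : Subgroup G) : Set G) := by
  rw [le_normalizer_iff_conj_le]
  intro k hk
  have h1 : MulAut.conj k • (fittingOf H ⊓ A) ≤ fittingOf H :=
    conj_le_of_mem_normalizer (le_normalizer_fittingOf H hk) inf_le_left
  refine le_inf h1 (h.le_of_le_fittingOf hp h1 ?_)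
  rw [card_conj]
  exact h.cop.coprime_dvd_left (Subgroup.card_dvd_of_le inf_le_right)

/-- Step 2. -/
theorem exists_pgroup (h : Setup A B) (ha : Zel A p a) (hb : Zel B q b) {H : Subgroup G}
    (hH : H ≠ ⊤) (hp : IsProd H (H ⊓ A) (H ⊓ B)) (haH : a ∈ H) (hbH : b ∈ H) :
    ∃ U : Subgroup G, U ≠ ⊥ ∧ U ≤ A ∧ IsPGroup p U ∧ H ≤ Subgroup.normalizer (U : Set G) := by
  have := h.isSolvable_of_isProd hH hp
  refine ⟨pPart p (fittingOf H), fun h0 => ?_,
    h.pPart_fittingOf_le hp ha.prime (h.not_dvd ha.prime ha.dvd_card),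
    isPGroup_pPart p (fittingOf_isNilpotent H),
    (le_normalizer_fittingOf H).trans (normalizer_le_normalizer_pPart _ _)⟩
  have hU := h.le_normalizer_fittingOf_inf hp
  have hV := h.symm.le_normalizer_fittingOf_inf hp.symm
  have hF : fittingOf H ≤ (fittingOf H ⊓ A) ⊔ (fittingOf H ⊓ B) := by
    refine le_of_forall_pPart_le fun t ht => ?_
    by_cases hd : t ∣ Nat.card B
    · exact (le_inf (pPart_le _ _) (h.symm.pPart_fittingOf_le hp.symm ht
        (h.symm.not_dvd ht hd))).trans le_sup_right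
    · exact (le_inf (pPart_le _ _) (h.pPart_fittingOf_le hp ht hd)).trans le_sup_left
  have hnc : ∀ {X : Subgroup G} {x y : G}, x ∈ Subgroup.normalizer (X : Set G) →
      y ∈ Subgroup.centralizer (X : Set G) → x * y * x⁻¹ ∈ Subgroup.centralizer (X : Set G) := by
    intro X x y hx hy
    have := conj_mem_conj x hy
    rwa [conj_centralizer, conj_eq_of_mem_normalizer hx] at this
  have key : ∀ y ∈ Subgroup.zpowers a, y * b * y⁻¹ ∈ B := by
    intro y hy
    have hyA : y ∈ A := Subgroup.zpowers_le.2 ha.mem hy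
    have hyH : y ∈ H := Subgroup.zpowers_le.2 haH hy
    have hyp : y ^ p = 1 := by
      obtain ⟨n, rfl⟩ := hy
      simp only []
      rw [← zpow_natCast, ← zpow_mul, mul_comm, zpow_mul, zpow_natCast, ha.pow_eq_one, one_zpow]
    have hyc : y ∈ Subgroup.centralizer ((fittingOf H ⊓ A : Subgroup G) : Set G) :=
      Subgroup.zpowers_le.2 (ha.mem_centralizer inf_le_right) hy
    have hbc : b ∈ Subgroup.centralizer ((fittingOf H ⊓ B : Subgroup G) : Set G) :=
      hb.mem_centralizer inf_le_right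
    have hc1 : y * b * y⁻¹ * b⁻¹ ∈ Subgroup.centralizer ((fittingOf H ⊓ A : Subgroup G) : Set G) := by
      have := Subgroup.mul_mem _ hyc (hnc (hU hbH) (Subgroup.inv_mem _ hyc))
      simpa [mul_assoc] using this
    have hc2 : y * b * y⁻¹ * b⁻¹ ∈ Subgroup.centralizer ((fittingOf H ⊓ B : Subgroup G) : Set G) :=
      Subgroup.mul_mem _ (hnc (hV hyH) hbc) (Subgroup.inv_mem _ hbc)
    have hc : y * b * y⁻¹ * b⁻¹ ∈ fittingOf H := by
      refine inf_centralizer_fittingOf_le H ⟨H.mul_mem (H.mul_mem (H.mul_mem hyH hbH)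
        (H.inv_mem hyH)) (H.inv_mem hbH), ?_⟩
      have h1 : fittingOf H ≤ Subgroup.centralizer ({y * b * y⁻¹ * b⁻¹} : Set G) :=
        hF.trans (sup_le (fun x hx => Subgroup.mem_centralizer_singleton_iff.2 (hc1 x hx))
          (fun x hx => Subgroup.mem_centralizer_singleton_iff.2 (hc2 x hx)))
      exact fun x hx => Subgroup.mem_centralizer_singleton_iff.1 (h1 hx)
    obtain ⟨u, hu, v, hv, huv⟩ := (IsProd.of_le_normalizer
      ((inf_le_left.trans (fittingOf_le H)).trans hV)).exists_mul (hF hc)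
    obtain ⟨w, hw, hpow⟩ := exists_pow_mul_eq (hV (H.mul_mem (H.inv_mem hyH)
      (fittingOf_le H hu.1))) hv p
    have h1 : y⁻¹ * u * v = b * y⁻¹ * b⁻¹ := by rw [mul_assoc, ← huv]; group
    have h2 : Commute y⁻¹ u := (Commute.inv_right (hyc u hu)).symm
    rw [h1, conj_pow, inv_pow, hyp, h2.mul_pow, inv_pow, hyp] at hpow
    have h3 : u ^ p = 1 := by
      refine h.eq_one_of_mem (A.pow_mem hu.2 p) ?_
      have : u ^ p = w⁻¹ := by
        rw [eq_inv_iff_mul_eq_one]; simpa using hpow.symm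
      rw [this]
      exact B.inv_mem hw.2
    have h4 : u ∈ pPart p (fittingOf H) := mem_pPart_of_pow_eq_one hu.1 (k := 1) (by simpa using h3)
    rw [h0, Subgroup.mem_bot] at h4
    rw [h4, one_mul] at huv
    have : y * b * y⁻¹ = v * b := by rw [← huv]; group
    rw [this]
    exact B.mul_mem hv.2 hb.mem
  refine h.not_isPGroup ha hb ((isPGroup_pPart q h.nilB).to_le (iSup₂_le fun y hy => ?_))
  rw [conj_zpowers, Subgroup.zpowers_le]
  exact mem_pPart_of_orderOf_eq (key y hy) (hb.conj y).ord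

theorem exists_pgroup_of_normIn (h : Setup A B) {A₀ : Subgroup G} (hA₀ : NormIn A₀ A)
    (ha : Zel A p a) (haA : a ∈ A₀) (hb : Zel B q b) (hne : A₀ ⊔ Subgroup.zpowers b ≠ ⊤) :
    ∃ U : Subgroup G, U ≠ ⊥ ∧ U ≤ A ∧ IsPGroup p U ∧ A₀ ≤ Subgroup.normalizer (U : Set G) ∧
      b ∈ Subgroup.normalizer (U : Set G) := by
  have h1 := h.prod.normalizer_sup hA₀.2 hb.le_normalizer_zpowers
  rw [inf_top_eq] at h1
  have h2 : A₀ ⊔ Subgroup.zpowers b ≠ ⊥ := fun h0 => ha.ne_one (by
    rw [← Subgroup.mem_bot, ← h0]; exact Subgroup.mem_sup_left haA)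
  obtain ⟨U, hU1, hU2, hU3, hU4⟩ := h.exists_pgroup ha hb (h.normalizer_ne_top h2 hne) h1
    (Subgroup.le_normalizer (Subgroup.mem_sup_left haA))
    (Subgroup.le_normalizer (Subgroup.mem_sup_right (Subgroup.mem_zpowers b)))
  exact ⟨U, hU1, hU2, hU3, (le_sup_left.trans Subgroup.le_normalizer).trans hU4,
    hU4 (Subgroup.le_normalizer (Subgroup.mem_sup_right (Subgroup.mem_zpowers b)))⟩

/-- Step 3: a central element of `A` and a central element of `B` generate `G`. -/
theorem eq_top_of_mem_of_mem (h : Setup A B) (ha : Zel A p a) (hb : Zel B q b) {T : Subgroup G}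
    (haT : a ∈ T) (hbT : b ∈ T) : T = ⊤ := by
  by_contra hT
  have : Fact p.Prime := ⟨ha.prime⟩
  obtain ⟨U, hU1, hU2, hU3, -, hU5⟩ := h.exists_pgroup_of_normIn
    ⟨Subgroup.zpowers_le.2 ha.mem, ha.le_normalizer_zpowers⟩ ha (Subgroup.mem_zpowers a) hb
    fun h0 => hT (top_le_iff.1 (h0.ge.trans
      (sup_le (Subgroup.zpowers_le.2 haT) (Subgroup.zpowers_le.2 hbT))))
  obtain ⟨r, hr, hrp, hrd⟩ := h.twoA p ha.prime
  have : Fact r.Prime := ⟨hr⟩
  obtain ⟨a', ha'⟩ := exists_zel h.nilA hr hrd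
  have hC : NormIn (A ⊓ Subgroup.centralizer (pPart p A : Set G)) A := by
    refine ⟨inf_le_left, le_trans (le_inf Subgroup.le_normalizer ?_)
      Subgroup.inf_normalizer_le_normalizer_inf⟩
    intro x hx
    rw [mem_normalizer_iff_conj_eq, conj_centralizer,
      conj_eq_of_mem_normalizer (le_normalizer_pPart p A hx)]
  obtain ⟨W, hW1, hW2, hW3, hW4, hW5⟩ := h.exists_pgroup_of_normIn hC ha'
    ⟨ha'.mem, ha'.mem_centralizer (pPart_le p A)⟩ hb fun h0 =>
      h.normalizer_ne_top hU1 (h.ne_top_of_isPGroup ha.prime hU3) (top_le_iff.1 (h0.ge.trans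
        (sup_le (inf_le_right.trans ((Subgroup.centralizer_le (le_pPart hU2 hU3)).trans
          (Subgroup.centralizer_le_normalizer _))) (Subgroup.zpowers_le.2 hU5))))
  refine h.normalizer_ne_top hW1 (h.ne_top_of_isPGroup hr hW3)
    (h.symm.eq_top_of_le_of_mem hb (le_of_forall_pPart_le fun t ht => ?_) hW5)
  have : Fact t.Prime := ⟨ht⟩
  by_cases htr : t = r
  · subst htr
    exact (le_inf (pPart_le t A) (pPart_le_centralizer_of_isPGroup h.nilA hrp (pPart_le p A)
      (isPGroup_pPart p h.nilA))).trans hW4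
  · exact (pPart_le_centralizer_of_isPGroup h.nilA htr hW2 hW3).trans
      (Subgroup.centralizer_le_normalizer _)

end Setup

end CL.KW
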