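import Cfsg.Agent.Base
import Cfsg.Agent.Solv.WielandtA
import Cfsg.Agent.Solv.Coprime
import Cfsg.Agent.Transfer.Fusion
import Cfsg.Agent.Char.Burnside

/-!
The Kegel–Wielandt theorem, part B: the factors of a minimal counterexample are TI-subgroups;
the theorem.
-/

set_option autoImplicit false

open scoped Pointwise commutatorElement

namespace CL.KW

open Cj Cfsg

universe u

variable {G : Type*} [Group G]

/-- Two `r`-subgroups of `D` can be conjugated inside `D` into a common `r`-subgroup. -/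
theorem exists_conj_common_pgroup [Finite G] {r : ℕ} [Fact r.Prime] {D X Y : Subgroup G}
    (hX : IsPGroup r X) (hY : IsPGroup r Y) (hXD : X ≤ D) (hYD : Y ≤ D) :
    ∃ e ∈ D, ∃ R : Subgroup G, IsPGroup r R ∧ X ≤ R ∧ MulAut.conj e • Y ≤ R := by
  obtain ⟨P, hP⟩ := (hX.comap_subtype (K := D)).exists_le_sylow
  obtain ⟨Q, hQ⟩ := (hY.comap_subtype (K := D)).exists_le_sylow
  obtain ⟨e, rfl⟩ := MulAction.exists_smul_eq D Q P
  refine ⟨e, e.2, ((e • Q : Sylow r D) : Subgroup D).map D.subtype, (e • Q).isPGroup'.map _,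
    fun x hx => ⟨⟨x, hXD hx⟩, hP hx, rfl⟩, fun x hx => ?_⟩
  obtain ⟨y, hy, rfl⟩ := exists_of_mem_conj hx
  refine ⟨e * ⟨y, hYD hy⟩ * e⁻¹, ?_, rfl⟩
  rw [coe_sylow_smul]
  exact conj_mem_conj e (hQ hy)

theorem exists_orderOf_eq_of_isPGroup [Finite G] {t : ℕ} [Fact t.Prime] {T : Subgroup G}
    (hT : IsPGroup t T) (h0 : T ≠ ⊥) : ∃ y ∈ T, orderOf y = t := by
  rcases hT.card_eq_or_dvd with h1 | h1
  · exact absurd (Subgroup.card_eq_one.1 h1) h0
  · obtain ⟨y, hy⟩ := exists_prime_orderOf_dvd_card' t h1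
    exact ⟨y, y.2, by rw [Subgroup.orderOf_coe, hy]⟩

namespace Setup

variable [Finite G] {A B : Subgroup G} {p q : ℕ} {a b : G}

/-- Step 4a. -/
theorem centralizer_le (h : Setup A B) (ha : Zel A p a) :
    Subgroup.centralizer ({a} : Set G) ≤ A := by
  intro x hx
  obtain ⟨a', ha', b', hb', rfl⟩ := h.prod.exists_mul (Subgroup.mem_top x)
  have h1 : b' ∈ Subgroup.centralizer ({a} : Set G) :=
    (Subgroup.mul_mem_cancel_left _ (ha.cent ha')).1 hx
  by_cases hb1 : b' = 1
  · rw [hb1, mul_one]; exact ha'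
  obtain ⟨q, hq, -, hqd⟩ := h.twoB 2 Nat.prime_two
  obtain ⟨b, hb⟩ := exists_zel h.nilB hq hqd
  refine absurd (h.eq_top_of_mem_of_mem ha hb ?_ (hb.mem_centralizer_singleton hb'))
    (h.symm.centralizer_ne_top hb' hb1)
  rw [Subgroup.mem_centralizer_singleton_iff] at h1 ⊢
  exact h1.symm

/-- Step 4b. -/
theorem eq_bot_of_mem_normalizer (h : Setup A B) (ha : Zel A p a) {X : Subgroup G} {t : ℕ}
    (ht : t.Prime) (hX : IsPGroup t X) (htA : ¬ t ∣ Nat.card A)
    (haX : a ∈ Subgroup.normalizer (X : Set G)) : X = ⊥ := by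
  have : Fact t.Prime := ⟨ht⟩
  by_contra h0
  obtain ⟨g, hg⟩ := exists_le_conj_of_isPGroup hX (h.symm.not_dvd_index htA)
  obtain ⟨q, hq, -, hqd⟩ := h.twoB 2 Nat.prime_two
  obtain ⟨b, hb⟩ := exists_zel h.nilB hq hqd
  exact h.normalizer_ne_top h0 (h.ne_top_of_isPGroup ht hX)
    ((h.conj_right g).eq_top_of_mem_of_mem ha (hb.conj g) haX
      (Subgroup.centralizer_le_normalizer _ ((hb.conj g).mem_centralizer hg)))

/-- Step 5: central elements lie in a unique conjugate of `A`. -/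
theorem conj_eq_of_mem_conj (h : Setup A B) (ha : Zel A p a) {g : G}
    (hg : a ∈ MulAut.conj g • A) : MulAut.conj g • A = A := by
  have : Fact p.Prime := ⟨ha.prime⟩
  have h' := h.conj_left g
  obtain ⟨r, hr, hrp, hrd⟩ := h'.twoA p ha.prime
  have : Fact r.Prime := ⟨hr⟩
  obtain ⟨a', ha'⟩ := exists_zel h'.nilA hr hrd
  have h1 : a' ∈ A := h.centralizer_le ha (ha'.mem_centralizer_singleton hg)
  refine (Subgroup.eq_of_le_of_card_ge (le_of_forall_pPart_le fun t ht => ?_)
    (card_conj g A).le).symm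
  have : Fact t.Prime := ⟨ht⟩
  by_cases htr : t = r
  · subst htr
    have h2 : pPart t (MulAut.conj g • A) ≤ A :=
      ((pPart_le_centralizer_of_isPGroup h'.nilA hrp (Subgroup.zpowers_le.2 hg) ha.isPGroup).trans
        (Subgroup.centralizer_le (Set.singleton_subset_iff.2 (Subgroup.mem_zpowers a)))).trans
        (h.centralizer_le ha)
    have h3 := le_pPart h2 (isPGroup_pPart t h'.nilA)
    rw [← conj_pPart] at h3
    rw [← conj_eq_of_mem_normalizer (mem_normalizer_of_conj_le h3)]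
    exact conj_mono g (pPart_le t A)
  · exact ((pPart_le_centralizer_of_isPGroup h.nilA htr (Subgroup.zpowers_le.2 h1)
      ha'.isPGroup).trans (Subgroup.centralizer_le
        (Set.singleton_subset_iff.2 (Subgroup.mem_zpowers a')))).trans (h'.centralizer_le ha')

theorem mem_normalizer_of_conj_mem (h : Setup A B) (ha : Zel A p a) {g : G}
    (hg : g * a * g⁻¹ ∈ A) : g ∈ Subgroup.normalizer (A : Set G) := by
  have h1 := h.conj_eq_of_mem_conj ha (g := g⁻¹) (by rwa [mem_conj_iff, inv_inv])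
  simpa using Subgroup.inv_mem _ (mem_normalizer_iff_conj_eq.2 h1)

/-- A `p`-subgroup containing a central element of `A` lies in `A`. -/
theorem le_of_isPGroup_of_mem (h : Setup A B) (ha : Zel A p a) {R : Subgroup G}
    (hR : IsPGroup p R) (haR : a ∈ R) : R ≤ A := by
  have : Fact p.Prime := ⟨ha.prime⟩
  obtain ⟨g, hg⟩ := exists_le_conj_of_isPGroup hR
    (h.not_dvd_index (h.not_dvd ha.prime ha.dvd_card))
  rwa [h.conj_eq_of_mem_conj ha (hg haR)] at hg

/-- Step 6. -/
theorem le_normalizer_of_isProd (h : Setup A B) (ha : Zel A p a) {E : Subgroup G} (hE : E ≠ ⊤)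
    (hp : IsProd E (E ⊓ A) (E ⊓ B)) (haE : a ∈ E) : E ≤ Subgroup.normalizer (A : Set G) := by
  have := h.isSolvable_of_isProd hE hp
  have hF : fittingOf E ≤ A := by
    refine le_of_forall_pPart_le fun t ht => ?_
    by_cases hd : t ∣ Nat.card A
    · exact h.pPart_fittingOf_le hp ht (h.not_dvd ht hd)
    · rw [h.eq_bot_of_mem_normalizer ha ht (isPGroup_pPart t (fittingOf_isNilpotent E)) hd
        (normalizer_le_normalizer_pPart _ _ (le_normalizer_fittingOf E haE))]
      exact bot_le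
  have h1 : a ∈ fittingOf E := inf_centralizer_fittingOf_le E ⟨haE, ha.mem_centralizer hF⟩
  intro e he
  exact h.mem_normalizer_of_conj_mem ha
    (hF (Subgroup.le_normalizer_iff.1 (le_normalizer_fittingOf E) e he a h1))

/-- Step 7. -/
theorem centralizer_le_normalizer_of_mem (h : Setup A B) {x : G} (hx : x ∈ A) (hx1 : x ≠ 1)
    (hxB : x ∈ Subgroup.normalizer (B : Set G)) :
    Subgroup.centralizer ({x} : Set G) ≤ Subgroup.normalizer (A : Set G) := by
  obtain ⟨p, hp, -, hpd⟩ := h.twoA 2 Nat.prime_two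
  obtain ⟨a, ha⟩ := exists_zel h.nilA hp hpd
  refine h.le_normalizer_of_isProd ha (h.centralizer_ne_top hx hx1)
    ⟨inf_le_left, inf_le_left, fun g hg => ?_⟩ (ha.mem_centralizer_singleton hx)
  obtain ⟨u, hu, v, hv, rfl⟩ := h.prod.exists_mul (Subgroup.mem_top g)
  have h1 := Subgroup.mem_centralizer_singleton_iff.1 hg
  have h2 : v * x * v⁻¹ * x⁻¹ = 1 := by
    refine h.eq_one_of_mem ?_ ?_
    · have : v * x * v⁻¹ * x⁻¹ = u⁻¹ * (u * v * x) * v⁻¹ * x⁻¹ := by group
      rw [this, h1]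
      have : u⁻¹ * (x * (u * v)) * v⁻¹ * x⁻¹ = u⁻¹ * x * u * x⁻¹ := by group
      rw [this]
      exact A.mul_mem (A.mul_mem (A.mul_mem (A.inv_mem hu) hx) hu) (A.inv_mem hx)
    · have : v * x * v⁻¹ * x⁻¹ = v * (x * v⁻¹ * x⁻¹) := by group
      rw [this]
      exact B.mul_mem hv ((Subgroup.mem_normalizer_iff.1 hxB _).1 (B.inv_mem hv))
  have h3 : v ∈ Subgroup.centralizer ({x} : Set G) := by
    rw [Subgroup.mem_centralizer_singleton_iff]
    calc v * x = (v * x * v⁻¹ * x⁻¹) * (x * v) := by group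
      _ = x * v := by rw [h2, one_mul]
  exact ⟨u, ⟨(Subgroup.mul_mem_cancel_right _ h3).1 hg, hu⟩, v, ⟨h3, hv⟩, rfl⟩

theorem centralizer_le_of_inf_le (h : Setup A B) {x : G} {r : ℕ} (hr : r.Prime) (hx : x ∈ A)
    (hxr : orderOf x = r)
    (hN : Subgroup.normalizer (A : Set G) ⊓ Subgroup.centralizer ({x} : Set G) ≤ A) :
    Subgroup.centralizer ({x} : Set G) ≤ A := by
  set C := Subgroup.centralizer ({x} : Set G) with hC
  have : Fact r.Prime := ⟨hr⟩
  obtain ⟨p, hp, hpr, hpd⟩ := h.twoA r hr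
  have : Fact p.Prime := ⟨hp⟩
  obtain ⟨a, ha⟩ := exists_zel h.nilA hp hpd
  obtain ⟨a', ha'⟩ := exists_zel h.nilA hr (hxr ▸ Subgroup.orderOf_dvd_natCard A hx)
  obtain ⟨P₀, hP₀⟩ := exists_sylow_eq_pPart h.nilA (h.not_dvd_index (h.not_dvd hp hpd))
  have hxp : IsPGroup r (Subgroup.zpowers x) :=
    isPGroup_zpowers_of_pow_eq_one (k := 1) (by rw [pow_one, ← hxr, pow_orderOf_eq_one])
  have hPC : (P₀ : Subgroup G) ≤ C := by
    rw [hP₀]
    exact (pPart_le_centralizer_of_isPGroup h.nilA hpr (Subgroup.zpowers_le.2 hx) hxp).trans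
      (Subgroup.centralizer_le (Set.singleton_subset_iff.2 (Subgroup.mem_zpowers x)))
  have hPA : (P₀ : Subgroup G) ≤ A := hP₀ ▸ pPart_le p A
  have hcompl : HasNormalPComplement p C := by
    have := h.nilA
    have := isNilpotent_subgroupOf A C
    refine Transfer.hasNormalPComplement_of_control_fusion (P₀.subtype hPC)
      (V := A.subgroupOf C) (Subgroup.comap_mono hPA) ?_
      Transfer.hasNormalPComplement_of_isNilpotent
    rintro ⟨z, hzC⟩ hz ⟨c, hc⟩ hcz
    have hzA : z ∈ A := hPA hz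
    have hczA : c * z * c⁻¹ ∈ A := hPA hcz
    have h1 : a' ∈ C ⊓ Subgroup.centralizer ({z} : Set G) :=
      ⟨ha'.mem_centralizer_singleton hx, ha'.mem_centralizer_singleton hzA⟩
    have h2 : c⁻¹ * a' * c⁻¹⁻¹ ∈ C ⊓ Subgroup.centralizer ({z} : Set G) := by
      refine ⟨C.mul_mem (C.mul_mem (C.inv_mem hc) h1.1) (C.inv_mem (C.inv_mem hc)),
        Subgroup.mem_centralizer_singleton_iff.2 ?_⟩
      calc c⁻¹ * a' * c⁻¹⁻¹ * z = c⁻¹ * (a' * (c * z * c⁻¹)) * c := by group
        _ = _ := by rw [← ha'.comm hczA]; group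
    obtain ⟨e, he, R, hR, hR1, hR2⟩ := exists_conj_common_pgroup ha'.isPGroup
      (ha'.conj c⁻¹).isPGroup (Subgroup.zpowers_le.2 h1) (Subgroup.zpowers_le.2 h2)
    have h3 : R ≤ A := h.le_of_isPGroup_of_mem ha' hR (hR1 (Subgroup.mem_zpowers a'))
    have h4 : e * c⁻¹ ∈ A := by
      refine hN ⟨h.mem_normalizer_of_conj_mem ha' (h3 ?_), C.mul_mem he.1 (C.inv_mem hc)⟩
      have := hR2 (conj_mem_conj e (Subgroup.mem_zpowers _))
      convert this using 1
      group
    refine ⟨⟨(e * c⁻¹)⁻¹, C.inv_mem (C.mul_mem he.1 (C.inv_mem hc))⟩, A.inv_mem h4,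
      Subtype.ext ?_⟩
    have h5 := Subgroup.mem_centralizer_singleton_iff.1 he.2
    change (e * c⁻¹)⁻¹ * z * (e * c⁻¹)⁻¹⁻¹ = c * z * c⁻¹
    calc (e * c⁻¹)⁻¹ * z * (e * c⁻¹)⁻¹⁻¹ = c * e⁻¹ * (z * e) * c⁻¹ := by group
      _ = _ := by rw [← h5]; group
  obtain ⟨K, hKn, hK1, k, hK2⟩ := Transfer.hasNormalPComplement_iff_exists_normal.1 hcompl
  have hall : ∀ t : ℕ, t.Prime → t ∣ Nat.card C → t ∣ Nat.card A := by
    intro t ht htC
    by_contra htA
    have : Fact t.Prime := ⟨ht⟩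
    have htK : t ∣ Nat.card (K.map C.subtype) := by
      rw [card_map_subtype_eq]
      rw [← K.card_mul_index, hK2] at htC
      refine (ht.dvd_mul.1 htC).resolve_right fun h1 => htA ?_
      rwa [(Nat.prime_dvd_prime_iff_eq ht hp).1 (ht.dvd_of_dvd_pow h1)]
    have haK : Subgroup.zpowers a ≤ Subgroup.normalizer ((K.map C.subtype : Subgroup G) : Set G) :=
      (Subgroup.zpowers_le.2 (ha.mem_centralizer_singleton hx)).trans
        (le_normalizer_map_subtype C K)
    obtain ⟨Q, -, hQ2, hQ3⟩ := coprime_exists_invariant_sylow haK (by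
      rw [Nat.card_zpowers, ha.ord, card_map_subtype_eq]
      exact (Nat.Prime.coprime_iff_not_dvd hp).2 hK1) (Or.inl inferInstance) t
    have h1 := h.eq_bot_of_mem_normalizer ha ht (IsPGroup.of_card hQ2) htA
      (hQ3 (Subgroup.mem_zpowers a))
    rw [h1, Subgroup.card_bot, eq_comm, Nat.pow_eq_one] at hQ2
    rcases hQ2 with h2 | h2
    · exact ht.ne_one h2
    · exact (ht.factorization_pos_of_dvd Nat.card_pos.ne' htK).ne' h2
  rw [← Subgroup.subgroupOf_eq_top]
  refine eq_top_of_forall_sylow_le fun t ht htC => ?_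
  obtain ⟨c, hc⟩ := exists_zel h.nilA ht.out (hall t ht.out htC)
  obtain ⟨R, hR⟩ := (hc.isPGroup.comap_subtype (K := C)).exists_le_sylow
  refine ⟨R, Subgroup.map_le_iff_le_comap.1 (h.le_of_isPGroup_of_mem hc (R.isPGroup'.map _)
    ⟨⟨c, hc.mem_centralizer_singleton hx⟩, hR (Subgroup.mem_zpowers c), rfl⟩)⟩

/-- Step 8. -/
theorem centralizer_le_normalizer (h : Setup A B) {x : G} {r : ℕ} (hr : r.Prime) (hx : x ∈ A)
    (hxr : orderOf x = r) :
    Subgroup.centralizer ({x} : Set G) ≤ Subgroup.normalizer (A : Set G) := by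
  have hx1 : x ≠ 1 := fun h1 => hr.ne_one (by rw [← hxr, h1, orderOf_one])
  by_cases hc : ∃ y ∈ Subgroup.normalizer (A : Set G) ⊓ Subgroup.centralizer ({x} : Set G),
      (orderOf y).Prime ∧ ¬ orderOf y ∣ Nat.card A
  · obtain ⟨y, hy, hy1, hy2⟩ := hc
    have : Fact (orderOf y).Prime := ⟨hy1⟩
    obtain ⟨g, hg⟩ := exists_le_conj_of_isPGroup (isPGroup_zpowers_of_pow_eq_one (x := y)
      (p := orderOf y) (k := 1) (by rw [pow_one, pow_orderOf_eq_one])) (h.symm.not_dvd_index hy2)
    have h' := h.conj_right g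
    refine h'.centralizer_le_normalizer_of_mem hx hx1
      (h'.symm.centralizer_le_normalizer_of_mem (hg (Subgroup.mem_zpowers y))
        (fun h1 => hy1.ne_one (by rw [h1, orderOf_one])) hy.1 ?_)
    rw [Subgroup.mem_centralizer_singleton_iff]
    exact (Subgroup.mem_centralizer_singleton_iff.1 hy.2).symm
  · push Not at hc
    refine (h.centralizer_le_of_inf_le hr hx hxr
      (le_of_forall_isPGroup_le fun t ht T hT hTle => ?_)).trans Subgroup.le_normalizer
    by_cases h0 : T = ⊥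
    · rw [h0]; exact bot_le
    obtain ⟨y, hy, hyt⟩ := exists_orderOf_eq_of_isPGroup hT h0
    have h1 := hc y (hTle hy) (hyt ▸ ht.out)
    rw [hyt] at h1
    refine le_of_le_normalizer_of_coprime (hTle.trans inf_le_left) ?_
    obtain ⟨n, hn⟩ := hT.exists_card_eq
    rw [hn]
    exact ((Nat.Prime.coprime_iff_not_dvd ht.out).2
      (h.not_dvd_index (h.not_dvd ht.out h1))).pow_left n

/-- Step 9: `A` is a TI-subgroup. -/
theorem mem_normalizer_of_inf_ne_bot (h : Setup A B) {g : G}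
    (hg : A ⊓ MulAut.conj g • A ≠ ⊥) : g ∈ Subgroup.normalizer (A : Set G) := by
  obtain ⟨r, hr, hrd⟩ := Nat.exists_prime_and_dvd (mt Subgroup.card_eq_one.1 hg)
  have : Fact r.Prime := ⟨hr⟩
  obtain ⟨⟨x, hx⟩, hxr⟩ := exists_prime_orderOf_dvd_card' r hrd
  rw [← Subgroup.orderOf_coe] at hxr
  obtain ⟨a, ha⟩ := exists_zel h.nilA hr
    (hrd.trans (Subgroup.card_dvd_of_le (inf_le_left : A ⊓ MulAut.conj g • A ≤ A)))
  have h1 := h.centralizer_le_normalizer hr hx.1 hxr ((ha.conj g).mem_centralizer_singleton hx.2)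
  refine h.mem_normalizer_of_conj_mem ha (Subgroup.zpowers_le.1
    (le_of_le_normalizer_of_coprime (Subgroup.zpowers_le.2 h1) ?_))
  rw [Nat.card_zpowers, (ha.conj g).ord]
  exact (Nat.Prime.coprime_iff_not_dvd hr).2 (h.not_dvd_index (h.not_dvd hr ha.dvd_card))

theorem card_le (h : Setup A B) : Nat.card A ≤ Nat.card B := by
  obtain ⟨p, hp, -, hpd⟩ := h.twoA 2 Nat.prime_two
  have hA0 : A ≠ ⊥ := by
    rintro rfl
    rw [Subgroup.card_bot, Nat.dvd_one] at hpd
    exact hp.ne_one hpd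
  obtain ⟨g, -, hg⟩ := SetLike.exists_of_lt (h.normalizer_ne_top hA0 h.ne_top).lt_top
  have h1 : A ⊓ MulAut.conj g • A = ⊥ := by
    by_contra h1
    exact hg (h.mem_normalizer_of_inf_ne_bot h1)
  have h2 := card_mul_card_le_card_mul_card_inf (le_top : A ≤ ⊤) (le_top : MulAut.conj g • A ≤ ⊤)
  have h3 := h.prod.card_mul_card_inf
  rw [h.inf_eq_bot] at h3
  rw [h1, h3, card_conj] at h2
  exact Nat.le_of_mul_le_mul_left h2 Nat.card_pos

theorem false (h : Setup A B) : False := by
  have h1 := h.cop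
  rw [le_antisymm h.card_le h.symm.card_le, Nat.coprime_self] at h1
  obtain ⟨p, hp, -, hpd⟩ := h.twoB 2 Nat.prime_two
  rw [h1, Nat.dvd_one] at hpd
  exact hp.ne_one hpd

end Setup

theorem aux (n : ℕ) : ∀ (G : Type u) [Group G] [Finite G] (A B : Subgroup G), Nat.card G = n →
    IsProd ⊤ A B → Group.IsNilpotent A → Group.IsNilpotent B → Group.IsSolvable G := by
  induction n using Nat.strong_induction_on with
  | _ n ih =>
  intro G _ _ A B hn h hA hB
  subst hn
  have ih1 : ∀ H X Y : Subgroup G, H ≠ ⊤ → IsProd H X Y → Group.IsNilpotent X →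
      Group.IsNilpotent Y → Group.IsSolvable H := fun H X Y hH hp hX hY =>
    ih _ (card_lt_of_ne_top H hH) H _ _ rfl hp.subgroupOf (isNilpotent_subgroupOf X H)
      (isNilpotent_subgroupOf Y H)
  have ih2 : ∀ (N : Subgroup G) [N.Normal], N ≠ ⊥ → Group.IsSolvable (G ⧸ N) := fun N _ hN =>
    ih _ (card_quotient_lt N hN) (G ⧸ N) _ _ rfl
      (h.map_top (QuotientGroup.mk' N) (QuotientGroup.mk'_surjective N)) (isNilpotent_map _)
      (isNilpotent_map _)
  by_contra hG
  have hsol : ∀ (N : Subgroup G) [N.Normal], Group.IsSolvable N → N = ⊥ := by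
    intro N _ hN
    by_contra h0
    exact hG ((Group.isSolvable_iff_subgroup_quotient N).2 ⟨hN, ih2 N h0⟩)
  have : Nontrivial G := by
    by_contra h0
    rw [not_nontrivial_iff_subsingleton] at h0
    exact hG inferInstance
  obtain ⟨N, hN⟩ := exists_isMinNormal G
  have := hN.normal
  have hNs : ¬ Group.IsSolvable N := fun h0 => hN.ne_bot (hsol N h0)
  have hmin : ∀ (M : Subgroup G) [M.Normal], M ≠ ⊥ → N ≤ M := by
    intro M _ hM
    refine (hN.le_or_inf_eq_bot M).resolve_right fun h0 => hNs ?_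
    have := ih2 M hM
    refine Group.isSolvable_of_isSolvable_injective
      (f := (QuotientGroup.mk' M).comp N.subtype) ?_
    rw [← MonoidHom.ker_eq_bot_iff, ← MonoidHom.comap_ker, QuotientGroup.ker_mk']
    exact Subgroup.subgroupOf_eq_bot.2 (disjoint_iff.2 (by rw [inf_comm, h0]))
  have hsup : ∀ {A B : Subgroup G}, IsProd ⊤ A B → Group.IsNilpotent A → Group.IsNilpotent B →
      A ⊔ N = ⊤ := by
    intro A B h hA hB
    by_contra h0
    have := ih1 _ _ _ h0 (h.dedekind_of_le le_sup_left le_top) hA (isNilpotent_of_le inf_le_left)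
    exact hNs (isSolvable_subgroup_of_le (L := A ⊔ N) le_sup_right)
  have hcop : (Nat.card A).Coprime (Nat.card B) := by
    refine Nat.coprime_of_dvd fun p hp hpA hpB => ?_
    have : Fact p.Prime := ⟨hp⟩
    obtain ⟨R, hR⟩ := h.exists_sylow_pPart hA hB p
    have h1 := PermConj.of_isProd h (le_normalizer_pPart p A) (le_normalizer_pPart p B) hR
    have h2 : ⁅pPart p A, pPart p B⁆ = ⊥ := by
      have h3 := le_pCore_of_isSubnormal (SubnIn.top_iff.1 (h1.subnIn_commutator le_top le_top))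
        (R.isPGroup'.to_le ((Subgroup.commutator_le_sup _ _).trans hR.eq_sup.ge))
      have := (pCore_isPGroup p G).isNilpotent
      rwa [hsol (pCore p G) inferInstance, le_bot_iff] at h3
    have h4 : N ≤ Subgroup.centralizer (pPart p A : Set G) := by
      refine (hmin (Subgroup.normalClosure (pPart p B : Set G)) fun h0 => pPart_ne_bot hpB
        (le_bot_iff.1 (Subgroup.le_normalClosure.trans h0.le))).trans ?_
      rw [normalClosure_eq_iSup_conj]
      refine iSup_le fun y => ?_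
      obtain ⟨z, -, h5, h6⟩ := h.exists_conj_eq (le_normalizer_pPart p A) (le_normalizer_pPart p B)
        (Subgroup.mem_top 1) (Subgroup.mem_top y)
      rw [conj_one] at h5
      rw [Subgroup.le_centralizer_iff, ← Subgroup.commutator_eq_bot_iff_le_centralizer, h5, h6,
        ← conj_commutator, h2, conj_bot]
    have h7 : N ≤ Subgroup.centralizer (N : Set G) := hmin _ fun h0 => pPart_ne_bot hpA
      (le_bot_iff.1 ((Subgroup.le_centralizer_iff.1 h4).trans h0.le))
    have := Subgroup.le_centralizer_iff_isMulCommutative.1 h7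
    have := isNilpotent_of_isMulCommutative N
    exact hNs inferInstance
  have hNtop : N = ⊤ := by
    rw [← Subgroup.index_eq_one]
    refine Nat.eq_one_of_dvd_coprimes hcop ?_ ?_
    · exact (hsup h hA hB ▸ IsProd.of_normal_right A N).index_dvd_card
    · exact (hsup h.symm hB hA ▸ IsProd.of_normal_right B N).index_dvd_card
  have hsimple : IsSimpleGroup G := ⟨fun M hM => by
    by_cases h0 : M = ⊥
    · exact Or.inl h0
    · exact Or.inr (top_le_iff.1 (hNtop ▸ hmin M h0))⟩
  have htwo : ∀ {A B : Subgroup G}, IsProd ⊤ A B → Group.IsNilpotent A → Group.IsNilpotent B →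
      ∀ r : ℕ, r.Prime → ∃ p : ℕ, p.Prime ∧ p ≠ r ∧ p ∣ Nat.card B := by
    intro A B h hA hB r hr
    by_contra! hcon
    have h1 : Nat.card B = r ^ (Nat.card B).primeFactorsList.length :=
      Nat.eq_prime_pow_of_unique_prime_dvd Nat.card_pos.ne' fun hd hd' => by
        by_contra hne
        exact hcon _ hd hne hd'
    have hA0 : A ≠ ⊥ := by
      rintro rfl
      have h2 := h.eq_sup
      rw [bot_sup_eq] at h2
      subst h2
      have := Group.isNilpotent_top.1 hB
      exact hG inferInstance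
    obtain ⟨p, hp, hpd⟩ := Nat.exists_prime_and_dvd (mt Subgroup.card_eq_one.1 hA0)
    obtain ⟨a, ha⟩ := exists_zel hA hp hpd
    have h3 := (Subgroup.index_dvd_of_le ha.cent).trans h.symm.index_dvd_card
    rw [h1, Nat.dvd_prime_pow hr] at h3
    obtain ⟨k, -, hk⟩ := h3
    have : Fact (Nat.card G).Prime :=
      ⟨Char.card_prime_of_simple_of_class_prime_pow hr ha.ne_one hk⟩
    have : IsCyclic G := isCyclic_of_prime_card rfl
    have := isNilpotent_of_isMulCommutative G
    exact hG inferInstance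
  exact Setup.false ⟨hsimple, h, hA, hB, hcop, htwo h.symm hB hA, htwo h hA hB, ih1⟩

end CL.KW

namespace CL

variable {G : Type*} [Group G] [Finite G]

/-- **The Kegel–Wielandt theorem.** -/
theorem IsProd.isSolvable_of_isNilpotent_top {A B : Subgroup G} (h : IsProd ⊤ A B)
    (hA : Group.IsNilpotent A) (hB : Group.IsNilpotent B) : Group.IsSolvable G :=
  KW.aux _ G A B rfl h hA hB

/-- **The Kegel–Wielandt theorem**, relative form. -/
theorem IsProd.isSolvable_of_isNilpotent {S A B : Subgroup G} (h : IsProd S A B)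
    (hA : Group.IsNilpotent A) (hB : Group.IsNilpotent B) : Group.IsSolvable S :=
  h.subgroupOf.isSolvable_of_isNilpotent_top (isNilpotent_subgroupOf A S)
    (isNilpotent_subgroupOf B S)

end CL
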