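import Cfsg.Agent.Base
import Cfsg.Agent.Solv.WielandtB
import Cfsg.Agent.Solv.FactorIto
import Cfsg.Agent.Solv.Hall

/-!
Consequences of the Kegel–Wielandt theorem: permutability of Hall subgroups of the factors,
a proper normal subgroup containing a factor, derived length bounds.
-/

set_option autoImplicit false

open scoped Pointwise commutatorElement

namespace CL

open Cj Cfsg

universe u

variable {G : Type*} [Group G]

/-- Hall subgroups of a solvable product `G = HK` that are normal in the factors permute. -/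
theorem IsProd.permConj_of_hall [Finite G] [Group.IsSolvable G] {H K A B : Subgroup G}
    (h : IsProd ⊤ H K) (hA : H ≤ Subgroup.normalizer (A : Set G))
    (hB : K ≤ Subgroup.normalizer (B : Set G)) (hAh : (Nat.card A).Coprime A.index)
    (hBh : (Nat.card B).Coprime B.index) : PermConj ⊤ A B := by
  obtain ⟨W, hW, hAW⟩ := Hall.exists_isPiHall_ge (π := {p | p ∣ Nat.card A ∨ p ∣ Nat.card B})
    (K := A) fun _ _ hd => Or.inl hd
  obtain ⟨g, hg⟩ := Hall.exists_conj_le hW (K := B) fun _ _ hd => Or.inr hd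
  have h1 : IsProd W A (MulAut.conj g • B) := by
    refine IsProd.of_coprime_relIndex hAW hg (Nat.coprime_of_dvd fun p hp h1 h2 => ?_)
    rcases hW.1 p hp (h1.trans (Subgroup.relIndex_dvd_card A W)) with h3 | h3
    · exact hp.ne_one (Nat.eq_one_of_dvd_coprimes hAh h3
        (h1.trans (Subgroup.relIndex_dvd_index_of_le hAW)))
    · have h4 := h2.trans (Subgroup.relIndex_dvd_index_of_le hg)
      rw [index_conj] at h4
      exact hp.ne_one (Nat.eq_one_of_dvd_coprimes hBh h3 h4)
  have h2 := PermConj.of_isProd (h.conj_right (Subgroup.mem_top g)) hA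
    (by rw [← conj_normalizer]; exact conj_mono g hB) h1
  intro v _
  have := h2 (v * g⁻¹) trivial
  rwa [Cj.conj_conj, inv_mul_cancel_right] at this

theorem coprime_card_pPart_index [Finite G] {A : Subgroup G} (hA : Group.IsNilpotent A)
    (h : (Nat.card A).Coprime A.index) (p : ℕ) [Fact p.Prime] :
    (Nat.card (pPart p A)).Coprime (pPart p A).index := by
  by_cases hp : p ∣ Nat.card A
  · obtain ⟨P, hP⟩ := exists_sylow_eq_pPart hA (p := p) fun h1 =>
      (Fact.out : p.Prime).ne_one (Nat.eq_one_of_dvd_coprimes h hp h1)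
    rw [← hP]
    exact P.card_coprime_index
  · rw [pPart_eq_bot hp, Subgroup.card_bot]
    exact Nat.coprime_one_left _

/-- If a nilpotent subgroup `A` supplements a minimal normal `p`-subgroup, its `p`-part is
normal. -/
theorem IsMinNormal.normal_pPart [Finite G] {M A : Subgroup G} (hM : IsMinNormal M) {p : ℕ}
    [Fact p.Prime] (hMp : IsPGroup p M) (hA : Group.IsNilpotent A) (h : A ⊔ M = ⊤) :
    (pPart p A).Normal := by
  have := hM.normal
  have h1 : (pPart p A ⊔ M).Normal := normal_of_top_le_normalizer (h.ge.trans (sup_le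
    ((le_normalizer_pPart p A).trans Subgroup.normalizer_le_normalizer_sup_normal)
    (le_sup_right.trans Subgroup.le_normalizer)))
  have h2 : pPart p A ≤ Subgroup.centralizer (M : Set G) :=
    le_sup_left.trans ((le_fitting
      ((isPGroup_pPart p hA).to_sup_of_normal_right hMp).isNilpotent).trans
      hM.fitting_le_centralizer)
  exact normal_of_top_le_normalizer (h.ge.trans (sup_le (le_normalizer_pPart p A)
    ((Subgroup.le_centralizer_iff.1 h2).trans (Subgroup.centralizer_le_normalizer _))))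

theorem kegel_normal_aux (n : ℕ) : ∀ (G : Type u) [Group G] [Finite G] (A B : Subgroup G),
    Nat.card G = n → IsProd ⊤ A B → Group.IsNilpotent A → Group.IsNilpotent B →
    (A ≠ ⊤ ∨ B ≠ ⊤) → ∃ N : Subgroup G, N.Normal ∧ N ≠ ⊤ ∧ (A ≤ N ∨ B ≤ N) := by
  induction n using Nat.strong_induction_on with
  | _ n ih =>
  intro G _ _ A B hn h hA hB hne
  subst hn
  have := h.isSolvable_of_isNilpotent_top hA hB
  by_cases hA1 : A = ⊤
  · subst hA1
    have := Group.isNilpotent_top.1 hA
    obtain ⟨N, h1, h2, h3⟩ := (isSubnormal_of_isNilpotent B).exists_normal_and_le_and_lt_top_of_ne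
      (hne.resolve_left (not_not.2 rfl))
    exact ⟨N, h1, h3.ne, Or.inr h2⟩
  by_cases hB1 : B = ⊤
  · subst hB1
    have := Group.isNilpotent_top.1 hB
    obtain ⟨N, h1, h2, h3⟩ :=
      (isSubnormal_of_isNilpotent A).exists_normal_and_le_and_lt_top_of_ne hA1
    exact ⟨N, h1, h3.ne, Or.inl h2⟩
  by_cases hc : ∃ N : Subgroup G, IsMinNormal N ∧ (A ⊔ N ≠ ⊤ ∨ B ⊔ N ≠ ⊤)
  · obtain ⟨N, hN, hc⟩ := hc
    have := hN.normal
    have aux : ∀ X : Subgroup G, X.map (QuotientGroup.mk' N) = ⊤ → X ⊔ N = ⊤ := by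
      intro X hX
      have := congrArg (Subgroup.comap (QuotientGroup.mk' N)) hX
      rwa [Subgroup.comap_map_eq, QuotientGroup.ker_mk', Subgroup.comap_top] at this
    obtain ⟨M, h1, h2, h3⟩ := ih _ (card_quotient_lt N hN.ne_bot) (G ⧸ N) _ _ rfl
      (h.map_top (QuotientGroup.mk' N) (QuotientGroup.mk'_surjective N)) (isNilpotent_map _)
      (isNilpotent_map _) (hc.imp (mt (aux A)) (mt (aux B)))
    refine ⟨M.comap (QuotientGroup.mk' N), inferInstance, fun h0 => h2 ?_,
      h3.imp Subgroup.map_le_iff_le_comap.1 Subgroup.map_le_iff_le_comap.1⟩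
    rw [← Subgroup.map_comap_eq_self_of_surjective (QuotientGroup.mk'_surjective N) M, h0,
      Subgroup.map_top_of_surjective _ (QuotientGroup.mk'_surjective N)]
  exfalso
  push Not at hc
  have : Nontrivial G := by
    by_contra h0
    rw [not_nontrivial_iff_subsingleton] at h0
    exact hA1 (Subsingleton.elim _ _)
  obtain ⟨N, hN⟩ := exists_isMinNormal G
  obtain ⟨p, hp, hNp, -⟩ := hN.exists_prime_isPGroup
  have : Fact p.Prime := ⟨hp⟩
  have aux : ∀ X : Subgroup G, Group.IsNilpotent X → X ≠ ⊤ →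
      (∀ M, IsMinNormal M → X ⊔ M = ⊤) → ¬ p ∣ Nat.card X := by
    intro X hX hX1 hX2 hd
    have := hN.normal_pPart hNp hX (hX2 N hN)
    obtain ⟨M, hM, hle⟩ := exists_isMinNormal_le (pPart p X) (pPart_ne_bot hd)
    exact hX1 ((sup_eq_left.2 (hle.trans (pPart_le p X))).symm.trans (hX2 M hM))
  have h1 : p ∣ Nat.card N := hNp.card_eq_or_dvd.resolve_left
    (mt Subgroup.card_eq_one.1 hN.ne_bot)
  exact (hp.dvd_mul.1 ((h1.trans (Subgroup.card_dvd_of_le le_top)).trans h.card_dvd)).elim
    (aux A hA hA1 fun M hM => (hc M hM).1) (aux B hB hB1 fun M hM => (hc M hM).2)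

/-- **Kegel**: a proper normal subgroup contains one of two nilpotent factors. -/
theorem IsProd.exists_normal_ge_of_isNilpotent [Finite G] {A B : Subgroup G} (h : IsProd ⊤ A B)
    (hA : Group.IsNilpotent A) (hB : Group.IsNilpotent B) (hne : A ≠ ⊤ ∨ B ≠ ⊤) :
    ∃ N : Subgroup G, N.Normal ∧ N ≠ ⊤ ∧ (A ≤ N ∨ B ≤ N) :=
  kegel_normal_aux _ G A B rfl h hA hB hne

theorem commutator_eq_bot_of_sup_aux (n : ℕ) : ∀ (G : Type u) [Group G] [Finite G]
    (A B : Subgroup G) [IsMulCommutative A], Nat.card G = n → IsProd ⊤ A B →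
    Group.IsNilpotent B → A ⊔ ⁅B, B⁆ = ⊤ → ⁅B, B⁆ = ⊥ := by
  induction n using Nat.strong_induction_on with
  | _ n ih =>
  intro G _ _ A B _ hn h hB hsup
  subst hn
  have hA : Group.IsNilpotent A := isNilpotent_of_isMulCommutative A
  have := h.isSolvable_of_isNilpotent_top hA hB
  by_contra h0
  have hle : ∀ (N : Subgroup G) [N.Normal], N ≠ ⊥ → ⁅B, B⁆ ≤ N := by
    intro N _ hN
    have := ih _ (card_quotient_lt N hN) (G ⧸ N) _ _ rfl
      (h.map_top (QuotientGroup.mk' N) (QuotientGroup.mk'_surjective N)) (isNilpotent_map _) (by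
        rw [← Subgroup.map_commutator, ← Subgroup.map_sup, hsup,
          Subgroup.map_top_of_surjective _ (QuotientGroup.mk'_surjective N)])
    rwa [← Subgroup.map_commutator, Subgroup.map_eq_bot_iff, QuotientGroup.ker_mk'] at this
  have hA1 : ∀ (N : Subgroup G) [N.Normal], N ≤ A → N = ⊥ := by
    intro N _ hN
    by_contra hN0
    have h1 : A = ⊤ := (sup_eq_left.2 ((hle N hN0).trans hN)).symm.trans hsup
    have : IsMulCommutative B := isMulCommutative_subgroup_of_le (A := A) (h1 ▸ le_top)
    exact h0 (Subgroup.commutator_self_eq_bot_iff.2 this)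
  have : Nontrivial G := by
    by_contra h1
    rw [not_nontrivial_iff_subsingleton] at h1
    exact h0 (Subsingleton.elim _ _)
  obtain ⟨M, hM⟩ := exists_isMinNormal G
  have := hM.normal
  have := hM.isMulCommutative
  obtain ⟨p, hp, hMp, -⟩ := hM.exists_prime_isPGroup
  have : Fact p.Prime := ⟨hp⟩
  have hAM : A ⊔ M = ⊤ := top_le_iff.1 (hsup.ge.trans (sup_le_sup_left (hle M hM.ne_bot) A))
  have hprod : IsProd ⊤ A M := hAM ▸ IsProd.of_normal_right A M
  have hpA : ¬ p ∣ Nat.card A := fun hd =>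
    have := hM.normal_pPart hMp hA hAM
    pPart_ne_bot hd (hA1 _ (pPart_le p A))
  have hC : Subgroup.centralizer (M : Set G) ≤ M := by
    have h1 : A ⊓ Subgroup.centralizer (M : Set G) ≤ Subgroup.center G := by
      intro x hx
      rw [Subgroup.mem_center_iff]
      intro g
      obtain ⟨a, ha, m, hm, rfl⟩ := hprod.exists_mul (Subgroup.mem_top g)
      rw [mul_assoc, hx.2 m hm, ← mul_assoc, mul_comm_of_mem_of_isMulCommutative ha hx.1,
        mul_assoc]
    have := normal_of_le_center h1
    have h2 := (hprod.symm.dedekind_of_le (Subgroup.le_centralizer M) le_top).eq_sup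
    rw [hA1 _ inf_le_left, sup_bot_eq] at h2
    exact h2.le
  have hcop : ∀ {X : Subgroup G}, IsPGroup p X → (Nat.card X).Coprime (Nat.card A) := by
    intro X hX
    obtain ⟨k, hk⟩ := hX.exists_card_eq
    rw [hk]
    exact ((Nat.Prime.coprime_iff_not_dvd hp).2 hpA).pow_left k
  have hMB : M ≤ B := le_of_normal_of_coprime_index ((hcop hMp).coprime_dvd_right h.index_dvd_card)
  have hBM : B ≤ M := by
    refine le_of_forall_pPart_le fun t ht => ?_
    have : Fact t.Prime := ⟨ht⟩
    by_cases htp : t = p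
    · subst htp
      exact Pi.le_of_coprime_index
        ((hcop (isPGroup_pPart t hB)).coprime_dvd_right hprod.index_dvd_card)
    · exact (pPart_le_centralizer_of_isPGroup hB htp hMB hMp).trans hC
  exact h0 (Subgroup.commutator_self_eq_bot_iff.2 (isMulCommutative_subgroup_of_le hBM))

theorem map_subtype_commutator_subgroupOf {B S : Subgroup G} (h : B ≤ S) :
    (⁅B.subgroupOf S, B.subgroupOf S⁆ : Subgroup S).map S.subtype = ⁅B, B⁆ := by
  rw [Subgroup.map_commutator, Subgroup.map_subgroupOf_eq_of_le h]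

/-- If `S = AB` with `A` abelian, `B` nilpotent and `S = ⟨A, B'⟩`, then `B` is abelian. -/
theorem IsProd.commutator_eq_bot_of_sup [Finite G] {S A B : Subgroup G} [IsMulCommutative A]
    (h : IsProd S A B) (hB : Group.IsNilpotent B) (hsup : A ⊔ ⁅B, B⁆ = S) : ⁅B, B⁆ = ⊥ := by
  rw [← map_subtype_commutator_subgroupOf h.2.1, commutator_eq_bot_of_sup_aux _ S _ _ rfl
    h.subgroupOf (isNilpotent_subgroupOf B S) ?_, Subgroup.map_bot]
  apply Subgroup.map_injective S.subtype_injective
  rw [Subgroup.map_sup, map_subtype_commutator_subgroupOf h.2.1,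
    Subgroup.map_subgroupOf_eq_of_le h.1, hsup, ← MonoidHom.range_eq_map, Subgroup.range_subtype]

theorem length_primeFactorsList_card_lt [Finite G] {X Y : Subgroup G} (h : X < Y) :
    (Nat.card X).primeFactorsList.length < (Nat.card Y).primeFactorsList.length := by
  have h1 : X.relIndex Y ≠ 0 := Subgroup.index_ne_zero_of_finite
  rw [← card_mul_relIndex_eq h.le, (Nat.perm_primeFactorsList_mul Nat.card_pos.ne' h1).length_eq,
    List.length_append, lt_add_iff_pos_right, List.length_pos_iff, Nat.primeFactorsList_ne_nil]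
  exact Nat.one_lt_iff_ne_zero_and_ne_one.2
    ⟨h1, fun h2 => not_le_of_gt h (Subgroup.relIndex_eq_one.1 h2)⟩

theorem derivedSeries_add_le_map {H : Subgroup G} {m : ℕ} (h : derivedSeries G m ≤ H) (k : ℕ) :
    derivedSeries G (m + k) ≤ (derivedSeries H k).map H.subtype := by
  induction k with
  | zero => rwa [derivedSeries_zero, ← MonoidHom.range_eq_map, Subgroup.range_subtype]
  | succ k ih =>
    rw [← add_assoc, derivedSeries_succ, derivedSeries_succ, Subgroup.map_commutator]
    exact Subgroup.commutator_mono ih ih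

theorem derivedSeries_eq_bot_aux (n : ℕ) : ∀ (G : Type u) [Group G] [Finite G]
    (A B : Subgroup G) [IsMulCommutative A], IsProd ⊤ A B → Group.IsNilpotent B →
    (Nat.card (⁅B, B⁆ : Subgroup G)).primeFactorsList.length ≤ n →
    derivedSeries G (2 * (1 + n)) = ⊥ := by
  induction n using Nat.strong_induction_on with
  | _ n ih =>
  intro G _ _ A B _ h hB hn
  by_cases h0 : ⁅B, B⁆ = ⊥
  · have := Subgroup.commutator_self_eq_bot_iff.1 h0
    exact le_bot_iff.1 ((derivedSeries_antitone G (by omega)).trans h.derivedSeries_two_eq_bot.le)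
  have h1 := h.dedekind_of_le (T := A ⊔ ⁅B, B⁆) le_sup_left le_top
  have hB1 : Group.IsNilpotent (B ⊓ (A ⊔ ⁅B, B⁆) : Subgroup G) := isNilpotent_of_le inf_le_left
  have h2 : ⁅B ⊓ (A ⊔ ⁅B, B⁆), B ⊓ (A ⊔ ⁅B, B⁆)⁆ < ⁅B, B⁆ := by
    refine lt_of_le_of_ne (Subgroup.commutator_mono inf_le_left inf_le_left) fun he => h0 ?_
    rw [← he]
    exact h1.commutator_eq_bot_of_sup hB1 (by rw [he])
  have h3 := length_primeFactorsList_card_lt h2
  obtain ⟨m, rfl⟩ : ∃ m, n = m + 1 := ⟨n - 1, by omega⟩
  have h4 := ih m (by omega) _ _ _ h1.subgroupOf (isNilpotent_subgroupOf _ _) (by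
    rw [← card_map_subtype_eq, map_subtype_commutator_subgroupOf inf_le_right]
    omega)
  have h5 : Subgroup.normalClosure ((⁅B, B⁆ : Subgroup G) : Set G) ≤ A ⊔ ⁅B, B⁆ := by
    rw [normalClosure_eq_iSup_conj]
    refine iSup_le fun g => ?_
    obtain ⟨a, ha, b, hb, rfl⟩ := h.exists_mul (Subgroup.mem_top g)
    rw [← conj_conj, conj_eq_of_mem_normalizer (Subgroup.normalizer_commutator_ge_left B B hb)]
    exact conj_le_of_mem (Subgroup.mem_sup_left ha) le_sup_right
  have h6 : derivedSeries G 2 ≤ Subgroup.normalClosure ((⁅B, B⁆ : Subgroup G) : Set G) := by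
    set N := Subgroup.normalClosure ((⁅B, B⁆ : Subgroup G) : Set G)
    have : IsMulCommutative (B.map (QuotientGroup.mk' N)) := by
      rw [← Subgroup.commutator_self_eq_bot_iff, ← Subgroup.map_commutator,
        Subgroup.map_eq_bot_iff, QuotientGroup.ker_mk']
      exact Subgroup.le_normalClosure
    have h7 := (h.map_top (QuotientGroup.mk' N)
      (QuotientGroup.mk'_surjective N)).derivedSeries_two_eq_bot
    rwa [← map_derivedSeries_eq (QuotientGroup.mk'_surjective N), Subgroup.map_eq_bot_iff,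
      QuotientGroup.ker_mk'] at h7
  have h8 := derivedSeries_add_le_map (h6.trans h5) (2 * (1 + m))
  rw [h4, Subgroup.map_bot, le_bot_iff] at h8
  rw [← h8]
  congr 1
  ring

/-- Derived length of a product of an abelian and a nilpotent subgroup. -/
theorem IsProd.derivedSeries_eq_bot_of_isNilpotent [Finite G] {A B : Subgroup G}
    [IsMulCommutative A] (h : IsProd ⊤ A B) (hB : Group.IsNilpotent B) :
    derivedSeries G (2 * (1 + (Nat.card (⁅B, B⁆ : Subgroup G)).primeFactorsList.length)) = ⊥ :=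
  derivedSeries_eq_bot_aux _ G A B h hB le_rfl

end CL
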