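import Cfsg.Agent.Solv.SysNorm
import Cfsg.Agent.Solv.Carter
import Cfsg.Agent.S0587

/-!
System normalizers and Carter subgroups.
-/

set_option autoImplicit false

namespace CL.SN

open Subgroup Cfsg CL.CF
open scoped Pointwise

universe u

variable {G : Type*} [Group G]

theorem normalizer_le_of_corefree [Finite G] [Group.IsSolvable G] {U : Subgroup G}
    (hU : IsCoatom U) (hUc : U.normalCore = ⊥) (hUb : U ≠ ⊥) :
    ∃ p : ℕ, p.Prime ∧ (∃ a : ℕ, U.index = p ^ a) ∧
      ∀ K : Subgroup G, IsPCompl p K → K ≤ U → normalizer (K : Set G) ≤ U := by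
  have hnt : (⊤ : Subgroup G) ≠ ⊥ := fun h => hU.1 (eq_top_iff.2 (h.le.trans bot_le))
  obtain ⟨N, hNn, hN, -, hmin⟩ := exists_minNormal_le (⊤ : Subgroup G) hnt
  obtain ⟨p, hp, hd, hP, -⟩ := minNormal_exists_prime N hN hmin
  have := Fact.mk hp
  have hL : pCore p G ≠ ⊥ := fun h => hN (le_bot_iff.1 (h ▸ le_pCore N hP))
  obtain ⟨-, hcU, -, -, hq⟩ := Cfsg.Agent.S0587.result p hL U hU hUc
  set L := pCore p G with hLdef
  have hLp : IsPGroup p L := isPGroup_pCore p G
  have : Nontrivial U := (nontrivial_iff_ne_bot U).2 hUb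
  obtain ⟨Q1, hKn, hK, -, hKmin⟩ := exists_minNormal_le (⊤ : Subgroup U) top_ne_bot
  obtain ⟨q, hqp, -, hKq, -⟩ := minNormal_exists_prime Q1 hK hKmin
  have := Fact.mk hqp
  have hQ0 : pCore q U ≠ ⊥ := fun h => hK (le_bot_iff.1 (h ▸ le_pCore Q1 hKq))
  have hne : q ≠ p := (hq q hQ0).2
  set Q := (pCore q U).map U.subtype with hQ
  have hQU : Q ≤ U := map_subtype_le _
  have hQb : Q ≠ ⊥ := fun h => hQ0 ((map_eq_bot_iff_of_injective _ U.subtype_injective).1 h)
  have hUN : U ≤ normalizer (Q : Set G) := le_normalizer_map_subtype _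
  have hNt : normalizer (Q : Set G) ≠ ⊤ := fun h => by
    have := normalizer_eq_top_iff.1 h
    exact hQb (eq_bot_of_le hUc Q hQU)
  have hLQ : (L ⊔ Q).Normal :=
    normal_of_sup_eq_top hcU.sup_eq_top (le_sup_left.trans le_normalizer)
      (le_trans (le_inf (le_normalizer_of_normal (H := L)) hUN)
        (normalizer_inf_normalizer_le_normalizer_sup _ _))
  have e1 : normalizer (Q : Set G) = U := (hU.le_iff.1 hUN).resolve_left hNt
  refine ⟨p, hp, ?_, fun K hK hKU => ?_⟩
  · rw [hcU.index_eq_card]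
    exact IsPGroup.iff_card.1 hLp
  · have hQK : Q ≤ K := by
      obtain ⟨a, ha⟩ := (hK.subgroupOf_of_le hp hKU).1
      rw [hQ, map_le_iff_le_comap]
      refine le_of_normal ha _ ?_
      obtain ⟨n, hn⟩ := IsPGroup.iff_card.1 (isPGroup_pCore q U)
      rw [hn]
      exact ((Nat.coprime_primes hp hqp).2 hne.symm).pow_right n
    have hLK : L ⊓ K = ⊥ :=
      eq_bot_iff.2 ((inf_le_inf_left L hKU).trans (disjoint_iff.1 hcU.disjoint).le)
    have h1 : (L ⊔ Q) ⊓ K = Q := by rw [sup_inf_of_le L Q K hQK, hLK, bot_sup_eq]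
    rw [← e1, ← h1]
    exact le_trans (le_inf (le_normalizer_of_normal (H := L ⊔ Q)) le_rfl)
      inf_normalizer_le_normalizer_inf

/-- A non-normal maximal subgroup `M` has `p`-power index and contains the normalizer of each
`p`-complement it contains. -/
theorem normalizer_le_of_not_normal [Finite G] [Group.IsSolvable G] {M : Subgroup G}
    (hM : IsCoatom M) (hn : ¬ M.Normal) :
    ∃ p : ℕ, p.Prime ∧ (∃ a : ℕ, M.index = p ^ a) ∧
      ∀ K : Subgroup G, IsPCompl p K → K ≤ M → normalizer (K : Set G) ≤ M := by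
  set f := QuotientGroup.mk' M.normalCore with hf
  have hs : Function.Surjective f := QuotientGroup.mk'_surjective _
  have hker : f.ker ≤ M := by rw [hf, QuotientGroup.ker_mk']; exact M.normalCore_le
  have hcm : (M.map f).comap f = M := by rw [comap_map_eq, sup_eq_left.2 hker]
  have hU : IsCoatom (M.map f) := by
    constructor
    · intro h
      apply hM.1
      rw [← hcm, h, comap_top]
    · intro X hX
      have h1 : M < X.comap f := hcm.ge.trans_lt
        (lt_of_le_of_ne (comap_mono hX.le) fun h => hX.ne (comap_injective hs h))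
      rw [← map_comap_eq_self_of_surjective hs X, hM.2 _ h1, map_top_of_surjective f hs]
  have hUc : (M.map f).normalCore = ⊥ := by
    have h1 : (M.map f).normalCore.comap f ≤ M.normalCore :=
      normal_le_normalCore.2 ((comap_mono (normalCore_le _)).trans hcm.le)
    rw [← map_comap_eq_self_of_surjective hs (M.map f).normalCore, Subgroup.map_eq_bot_iff, hf,
      QuotientGroup.ker_mk']
    exact h1
  have hUb : M.map f ≠ ⊥ := by
    intro h
    rw [Subgroup.map_eq_bot_iff] at h
    exact hn (le_antisymm h hker ▸ inferInstance)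
  obtain ⟨p, hp, hi, h⟩ := normalizer_le_of_corefree hU hUc hUb
  refine ⟨p, hp, by rwa [index_map_eq _ hs hker] at hi, fun K hK hKM x hx => ?_⟩
  rw [← hcm]
  exact h _ (hK.map hp hs) (map_mono hKM) (le_normalizer_map f (mem_map_of_mem f hx))

theorem exists_system_le_carter_aux (n : ℕ) : ∀ (G : Type u) [Group G] [Finite G]
    [Group.IsSolvable G], Nat.card G = n → ∀ C : Subgroup G, IsCarterSubgroup C →
      ∃ K : Nat.Primes → Subgroup G, IsComplementSystem K ∧ systemNormalizer K ≤ C := by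
  induction n using Nat.strong_induction_on with
  | _ n ih =>
  intro G _ _ _ hn C hC
  rcases eq_top_or_exists_le_coatom C with rfl | ⟨M, hM, hCM⟩
  · obtain ⟨K, hK⟩ := exists_complementSystem G
    exact ⟨K, hK, le_top⟩
  obtain ⟨L, hL, hLC⟩ := ih _ (hn ▸ CL.Hall.card_lt_of_ne_top hM.1) M rfl _
    (CL.Carter.subgroupOf hC hCM)
  rw [isComplementSystem_iff] at hL
  have hMn : ¬ M.Normal := fun h =>
    hM.1 ((CL.Carter.normalizer_eq_of_le hC hCM).symm.trans (normalizer_eq_top M))
  obtain ⟨p, hp, ⟨a, ha⟩, hNM⟩ := normalizer_le_of_not_normal hM hMn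
  have h1 : ∀ q : Nat.Primes, ∃ K : Subgroup G, IsPCompl q K ∧ (L q).map M.subtype ≤ K :=
    fun q => exists_isPCompl_ge q.2 _
      (by rw [card_map_of_injective M.subtype_injective]; exact (hL q).2)
  choose K hK hLK using h1
  refine ⟨K, (isComplementSystem_iff K).2 hK, fun x hx => ?_⟩
  have hKp : (L ⟨p, hp⟩).map M.subtype = K ⟨p, hp⟩ :=
    ((hL ⟨p, hp⟩).map_subtype ha).eq_of_le hp (hLK _) (hK _).2
  have hxM : x ∈ M := hNM _ (hK ⟨p, hp⟩) (hKp ▸ map_subtype_le _) (systemNormalizer_le K _ hx)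
  refine hLC (x := ⟨x, hxM⟩) (mem_systemNormalizer.2 fun q => ?_)
  have h2 : L q = (K q).subgroupOf M :=
    (hL q).eq_of_le q.2 (map_le_iff_le_comap.1 (hLK q))
      fun h => (hK q).2 (h.trans (card_subgroupOf_dvd _ _))
  rw [h2]
  exact le_normalizer_comap M.subtype (systemNormalizer_le K q hx)

theorem exists_system_le_carter [Finite G] [Group.IsSolvable G] {C : Subgroup G}
    (hC : IsCarterSubgroup C) :
    ∃ K : Nat.Primes → Subgroup G, IsComplementSystem K ∧ systemNormalizer K ≤ C :=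
  exists_system_le_carter_aux _ G rfl C hC

theorem exists_carter_ge [Finite G] [Group.IsSolvable G] {K : Nat.Primes → Subgroup G}
    (hK : IsComplementSystem K) :
    ∃ C : Subgroup G, IsCarterSubgroup C ∧ systemNormalizer K ≤ C := by
  obtain ⟨C, hC⟩ := CL.Carter.exists_isCarterSubgroup G
  obtain ⟨L, hL, hLC⟩ := exists_system_le_carter hC
  obtain ⟨g, hg⟩ := systems_conj hL hK
  refine ⟨_, CL.Carter.smul (MulAut.conj g) hC, ?_⟩
  rw [← funext hg, systemNormalizer_conj]
  exact pointwise_smul_le_pointwise_smul_iff.2 hLC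

/-- in a nilpotent-by-nilpotent group the system normalizers are self-normalizing -/
theorem normalizer_systemNormalizer [Finite G] (F : Subgroup G) [hFn : F.Normal]
    [Group.IsNilpotent F] [Group.IsNilpotent (G ⧸ F)] {K : Nat.Primes → Subgroup G}
    (hK : IsComplementSystem K) :
    normalizer ((systemNormalizer K : Subgroup G) : Set G) = systemNormalizer K := by
  have : Group.IsSolvable G := (Group.isSolvable_iff_subgroup_quotient F).2 ⟨inferInstance, inferInstance⟩
  have hDF := systemNormalizer_sup_eq_top hK F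
  rw [isComplementSystem_iff] at hK
  set D := systemNormalizer K with hD
  refine le_antisymm (le_iInf fun p => ?_) le_normalizer
  rw [le_normalizer_iff]
  intro x hx k hk
  have hord : ∀ y : G, orderOf (x * y * x⁻¹) = orderOf y := fun y =>
    MulEquiv.orderOf_eq (MulAut.conj x) y
  obtain ⟨a, ha⟩ := (hK p).1
  -- decompose `k`
  set f := (QuotientGroup.mk' F).comp D.subtype with hf
  have hs : Function.Surjective f := by
    rw [← MonoidHom.range_eq_top, hf, MonoidHom.range_comp, range_subtype]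
    have := congrArg (Subgroup.map (QuotientGroup.mk' F)) hDF
    rwa [Subgroup.map_sup, QuotientGroup.map_mk'_self, sup_bot_eq,
      map_top_of_surjective _ (QuotientGroup.mk'_surjective F)] at this
  obtain ⟨b, hb⟩ := (((hK p).subgroupOf_of_le_normalizer p.2 (systemNormalizer_le K p)).map p.2 hs).1
  have h1 : (k : G ⧸ F) ∈ ((K p).subgroupOf D).map f :=
    mem_of_nilpotent p.2 _ hb (Nat.Coprime.coprime_dvd_right
      (orderOf_map_dvd (QuotientGroup.mk' F) k) ((hK p).coprime_orderOf p.2 hk))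
  obtain ⟨d, hd, hdk⟩ := h1
  have hdK : (d : G) ∈ K p := hd
  have hfF : (d : G)⁻¹ * k ∈ F := QuotientGroup.eq.1 hdk
  have hfK : (d : G)⁻¹ * k ∈ K p := (K p).mul_mem ((K p).inv_mem hdK) hk
  have h2 : x * d * x⁻¹ ∈ K p := by
    refine mem_of_mem_normalizer ha (systemNormalizer_le K p ((hx d).1 d.2)) ?_
    rw [hord]
    exact (hK p).coprime_orderOf p.2 hdK
  have h3 : x * ((d : G)⁻¹ * k) * x⁻¹ ∈ K p := by
    obtain ⟨c, hc⟩ := ((hK p).subgroupOf_of_normal p.2 F).1
    refine mem_of_nilpotent p.2 _ hc (x := ⟨_, hFn.conj_mem _ hfF x⟩) ?_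
    rw [← orderOf_coe, hord]
    exact (hK p).coprime_orderOf p.2 hfK
  have h4 := (K p).mul_mem h2 h3
  have h5 : x * d * x⁻¹ * (x * ((d : G)⁻¹ * k) * x⁻¹) = x * k * x⁻¹ := by group
  rwa [h5] at h4

end CL.SN
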