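import Cfsg.Agent.Base
import Cfsg.Agent.Solv.SupersolvHPI
import Cfsg.Agent.Solv.Frattini
import Cfsg.Agent.Solv.Coprime

/-!
Huppert's theorem: a finite group all of whose maximal subgroups have prime index is
supersolvable. Supersolvability is therefore inherited from the Frattini quotient.
-/

namespace CL.SS

open Cfsg Subgroup
open scoped commutatorElement

universe u

theorem exists_eigen_of_pow_eq_aux {p : ℕ} [hp : Fact p.Prime] {V : Type*} [AddCommGroup V]
    [Module (ZMod p) V] [Finite V] [Nontrivial V] (F : Module.End (ZMod p) V) (hF : F ^ p = F) :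
    ∃ (x : V) (a : ℕ), x ≠ 0 ∧ F x = a • x := by
  have hint : IsIntegral (ZMod p) F := Algebra.IsIntegral.isIntegral F
  have h0 : Polynomial.aeval F (Polynomial.X ^ p - Polynomial.X : Polynomial (ZMod p)) = 0 := by
    simp [hF]
  have hsplit : (Polynomial.X ^ p - Polynomial.X : Polynomial (ZMod p)).Splits := by
    have := Polynomial.splits_X_pow_nat_card_sub_X (K := ZMod p)
    rwa [Nat.card_zmod] at this
  have h1 := hsplit.of_dvd (FiniteField.X_pow_card_sub_X_ne_zero _ hp.out.one_lt)
    (minpoly.dvd _ _ h0)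
  obtain ⟨μ, hμ⟩ := h1.exists_eval_eq_zero (minpoly.degree_pos hint).ne'
  obtain ⟨v, hv⟩ := (Module.End.hasEigenvalue_of_isRoot (f := F) hμ).exists_hasEigenvector
  refine ⟨v, μ.val, hv.2, ?_⟩
  have h2 := hv.apply_eq_smul
  rwa [← ZMod.natCast_zmod_val μ, Nat.cast_smul_eq_nsmul] at h2

/-- An endomorphism `f` with `f ^ p = f` of a nontrivial finite abelian group of exponent `p`
has an eigenvector. -/
theorem exists_eigen_of_pow_eq {V : Type*} [CommGroup V] [Finite V] [Nontrivial V] {p : ℕ}
    [hp : Fact p.Prime] (hV : ∀ x : V, x ^ p = 1) (f : V →* V) (hf : ∀ x, f^[p] x = f x) :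
    ∃ (x : V) (a : ℕ), x ≠ 1 ∧ f x = x ^ a := by
  let _ : Module (ZMod p) (Additive V) := AddCommGroup.zmodModule (fun x => by
    apply Additive.toMul.injective
    rw [toMul_nsmul, hV, toMul_zero])
  obtain ⟨v, a, hv, h⟩ := exists_eigen_of_pow_eq_aux (p := p) (V := Additive V)
    ((MonoidHom.toAdditive f).toZModLinearMap p) (by
      ext x
      rw [Module.End.pow_apply]
      exact hf x)
  exact ⟨v.toMul, a, hv, congrArg Additive.toMul h⟩

variable {G : Type*} [Group G]

/-- A minimal normal `p`-subgroup on which `G` induces an abelian group of exponent dividing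
`p - 1` is cyclic. -/
theorem isCyclic_of_isMinNormal [Finite G] {N : Subgroup G} (hN : IsMinNormal N) {p : ℕ}
    [hp : Fact p.Prime] (hNp : IsPGroup p N)
    (hcomm : _root_.commutator G ≤ centralizer (N : Set G))
    (hpow : ∀ g : G, g ^ (p - 1) ∈ centralizer (N : Set G)) : IsCyclic N := by
  have hn := hN.normal
  obtain ⟨hc, he⟩ := hN.isElementaryAbelian_of_isPGroup hNp
  have hnt : Nontrivial N := (nontrivial_iff_ne_bot N).2 hN.ne_bot
  have hcN : ∀ x ∈ N, ∀ y ∈ N, x * y = y * x := fun x hx y hy =>
    congrArg Subtype.val (hc.is_comm.comm ⟨x, hx⟩ ⟨y, hy⟩)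
  have key : ∀ g : G, ∃ a : ℕ, ∀ x ∈ N, g * x * g⁻¹ = x ^ a := by
    intro g
    open scoped IsMulCommutative in
    obtain ⟨x, a, hx, hxa⟩ := exists_eigen_of_pow_eq (V := N) (p := p)
      (fun x => Subtype.ext (he x x.2))
      (MulAut.conjNormal g : MulAut N).toMonoidHom (by
        intro x
        have h1 : ∀ n : ℕ, (((MulAut.conjNormal g : MulAut N).toMonoidHom^[n] x : N) : G) =
            g ^ n * x * (g ^ n)⁻¹ := by
          intro n
          induction n with
          | zero => simp
          | succ n ih =>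
            rw [Function.iterate_succ_apply']
            change g * _ * g⁻¹ = _
            rw [ih]
            group
        apply Subtype.ext
        rw [h1]
        have h2 := mem_centralizer_iff.1 (hpow g) x x.2
        have h3 : g ^ p = g * g ^ (p - 1) := by
          rw [← pow_succ', Nat.sub_add_cancel hp.out.one_le]
        rw [h3]
        change _ = g * x * g⁻¹
        rw [mul_assoc g, ← h2]
        group)
    let E : Subgroup G :=
      { carrier := {y | y ∈ N ∧ g * y * g⁻¹ = y ^ a}
        one_mem' := ⟨N.one_mem, by simp⟩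
        mul_mem' := by
          rintro y z ⟨hy, hy'⟩ ⟨hz, hz'⟩
          refine ⟨N.mul_mem hy hz, ?_⟩
          rw [Commute.mul_pow (hcN y hy z hz), ← hy', ← hz']
          group
        inv_mem' := by
          rintro y ⟨hy, hy'⟩
          refine ⟨N.inv_mem hy, ?_⟩
          rw [inv_pow, ← hy']
          group }
    have hE : E.Normal := by
      constructor
      rintro y ⟨hy, hy'⟩ h
      refine ⟨hn.conj_mem y hy h, ?_⟩
      have h1 : ⁅h⁻¹, g⁆ ∈ centralizer (N : Set G) :=
        hcomm (commutator_mem_commutator (mem_top _) (mem_top _))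
      have h2 := mem_centralizer_iff.1 h1 _ (hn.conj_mem y hy g)
      rw [conj_pow, ← hy']
      rw [commutatorElement_def] at h2
      calc g * (h * y * h⁻¹) * g⁻¹
          = h * ((h⁻¹ * g * h⁻¹⁻¹ * g⁻¹) * (g * y * g⁻¹)) * (h⁻¹ * g * h⁻¹⁻¹ * g⁻¹)⁻¹ * h⁻¹ := by
            group
        _ = h * (g * y * g⁻¹) * h⁻¹ := by rw [← h2]; group
    have hEN : E = N := hN.eq_of_le hE (fun y hy => hy.1) (by
      intro hb
      have : (x : G) ∈ E := ⟨x.2, congrArg Subtype.val hxa⟩
      rw [hb, Subgroup.mem_bot] at this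
      exact hx (Subtype.ext this))
    exact ⟨a, fun y hy => (show y ∈ E from hEN ▸ hy).2⟩
  obtain ⟨⟨x, hx⟩, hx1⟩ := ne_bot_iff_exists_ne_one.1 hN.ne_bot
  have hz : (zpowers x).Normal := by
    constructor
    rintro _ ⟨k, rfl⟩ g
    obtain ⟨a, ha⟩ := key g
    simp only
    rw [ha _ (N.zpow_mem hx k)]
    exact pow_mem (zpow_mem_zpowers x k) a
  have := hN.eq_of_le hz (zpowers_le.2 hx) (by
    rw [Ne, zpowers_eq_bot]
    exact fun h => hx1 (Subtype.ext h))
  rw [← this]
  infer_instance

theorem pow_mem_centralizer_of_card_prime [Finite G] (B : Subgroup G) [B.Normal] {p : ℕ}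
    [hp : Fact p.Prime] (hB : Nat.card B = p) (g : G) :
    g ^ (p - 1) ∈ centralizer (B : Set G) := by
  have : IsCyclic B := isCyclic_of_prime_card hB
  have h1 : Nat.card (MulAut B) = p - 1 := by
    rw [IsCyclic.card_mulAut, hB, Nat.totient_prime hp.out]
  have h2 : (MulAut.conjNormal (g ^ (p - 1)) : MulAut B) = 1 := by
    rw [map_pow, ← h1, pow_card_eq_one']
  rw [mem_centralizer_iff]
  intro b hb
  have h3 : g ^ (p - 1) * b * (g ^ (p - 1))⁻¹ = b := by
    have := congrArg Subtype.val (DFunLike.congr_fun h2 (⟨b, hb⟩ : B))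
    exact this
  rw [mul_inv_eq_iff_eq_mul] at h3
  exact h3.symm

theorem exists_normal_prime_relIndex' [Finite G] (A B : Subgroup G) [A.Normal] [B.Normal]
    (hG : IsSupersolvable (G ⧸ A)) (hAB : A < B) :
    ∃ M : Subgroup (G ⧸ A), M.Normal ∧ M.comap (QuotientGroup.mk' A) ≤ B ∧
      (Nat.card M).Prime := by
  have hne : B.map (QuotientGroup.mk' A) ≠ ⊥ := by
    rw [Ne, Subgroup.map_eq_bot_iff, QuotientGroup.ker_mk']
    exact hAB.not_ge
  have : (B.map (QuotientGroup.mk' A)).Normal :=
    Normal.map inferInstance _ (QuotientGroup.mk'_surjective A)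
  obtain ⟨N, h1, h2, h3⟩ := exists_normal_prime_le hG _ hne
  refine ⟨N, h1, (comap_mono h2).trans ?_, h3⟩
  rw [comap_map_eq, QuotientGroup.ker_mk', sup_eq_left.2 hAB.le]

theorem quotient_of_le {N A : Subgroup G} [N.Normal] [A.Normal] (h : N ≤ A)
    (hN : IsSupersolvable (G ⧸ N)) : IsSupersolvable (G ⧸ A) := by
  refine of_surjective hN (QuotientGroup.map N A (MonoidHom.id G) h) ?_
  intro x
  obtain ⟨y, rfl⟩ := QuotientGroup.mk_surjective x
  exact ⟨y, rfl⟩

/-- Key step of Huppert's theorem. -/
theorem isCyclic_of_le_frattini [Finite G] {p : ℕ} [hp : Fact p.Prime] (P : Sylow p G)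
    [hPn : (P : Subgroup G).Normal] {N : Subgroup G} [N.Normal] (hN : IsMinNormal N)
    (hNP : N ≤ P) (hNΦ : N ≤ frattini G) (hG : IsSupersolvable (G ⧸ N)) : IsCyclic N := by
  obtain ⟨K, hK⟩ := exists_right_complement'_of_coprime (N := (P : Subgroup G)) P.card_coprime_index
  have hcop : (Nat.card K).Coprime (Nat.card (P : Subgroup G)) := by
    rw [← hK.symm.index_eq_card]
    exact P.card_coprime_index.symm
  have hPnil : Group.IsNilpotent (P : Subgroup G) := P.isPGroup'.isNilpotent
  set E : Subgroup G := ⁅K, K⁆ ⊔ closure {y | ∃ k ∈ K, y = k ^ (p - 1)} with hE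
  have hEK : E ≤ K := by
    refine sup_le (commutator_le_self K) ((closure_le K).2 ?_)
    rintro _ ⟨k, hk, rfl⟩
    exact K.pow_mem hk _
  have hKE : K ≤ normalizer (E : Set G) := by
    rw [le_normalizer_iff]
    intro k hk e he
    have h1 : ⁅k, e⁆ ∈ E := mem_sup_left (commutator_mem_commutator hk (hEK he))
    have h2 : k * e * k⁻¹ = ⁅k, e⁆ * e := by rw [commutatorElement_def]; group
    rw [h2]
    exact E.mul_mem h1 he
  have step : ∀ A : Subgroup G, A.Normal → N ≤ A → A ≤ P →
      A ≤ N ⊔ (P ⊓ centralizer (E : Set G)) → (P : Subgroup G) ≤ N ⊔ (P ⊓ centralizer (E : Set G)) := by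
    intro A
    induction A using (wellFounded_gt (α := Subgroup G)).induction with
    | _ A ih =>
      intro hA hNA hAP hAT
      rcases hAP.eq_or_lt with h | h
      · exact h ▸ hAT
      obtain ⟨M, hMn, hMP, hMp⟩ := exists_normal_prime_relIndex' A P (quotient_of_le hNA hG) h
      set B := M.comap (QuotientGroup.mk' A) with hB
      have hAB : A ≤ B := by
        intro x hx
        rw [hB, mem_comap, QuotientGroup.mk'_apply, (QuotientGroup.eq_one_iff x).2 hx]
        exact M.one_mem
      have hMB : M = B.map (QuotientGroup.mk' A) :=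
        (map_comap_eq_self_of_surjective (QuotientGroup.mk'_surjective A) M).symm
      have hMcard : Nat.card M = p := by
        have h1 : IsPGroup p M := hMB ▸ (P.isPGroup'.to_le hMP).map _
        have h4 := (h1.card_eq_or_dvd).resolve_left hMp.one_lt.ne'
        exact ((Nat.prime_dvd_prime_iff_eq hp.out hMp).1 h4).symm
      have hlt : A < B := by
        refine lt_of_le_of_ne hAB (fun h1 => ?_)
        rw [← h1, QuotientGroup.map_mk'_self] at hMB
        rw [hMB, card_bot] at hMp
        exact Nat.not_prime_one hMp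
      have : IsCyclic M := isCyclic_of_prime_card hMcard
      have hEM : E.map (QuotientGroup.mk' A) ≤ centralizer (M : Set (G ⧸ A)) := by
        rw [hE, Subgroup.map_sup, map_commutator, MonoidHom.map_closure]
        refine sup_le ((commutator_mono le_top le_top).trans
          (commutator_le_centralizer_of_cyclic M)) ((closure_le _).2 ?_)
        rintro _ ⟨_, ⟨k, -, rfl⟩, rfl⟩
        rw [map_pow]
        exact pow_mem_centralizer_of_card_prime M hMcard _
      have hBE : ⁅B, E⁆ ≤ A := by
        rw [← QuotientGroup.ker_mk' A, ← Subgroup.map_eq_bot_iff, map_commutator, ← hMB,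
          commutator_comm, commutator_eq_bot_iff_le_centralizer]
        exact hEM
      have h2 := coprime_sup_centralizer_of_commutator_le (A := E) (K := B) (N := A)
        le_normalizer_of_normal (coprime_card_of_le hEK hAP hcop)
        (Or.inr (isSolvable_of_le hAP inferInstance)) hAB hBE
      refine ih B hlt inferInstance (hNA.trans hAB) hMP ?_
      rw [← h2]
      exact sup_le hAT (le_sup_of_le_right (inf_le_inf_right _ hMP))
  have h1 := step N inferInstance le_rfl hNP le_sup_left
  have hEn : E.Normal := by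
    rw [← normalizer_eq_top_iff]
    refine eq_top_of_sup_eq_top_of_le_frattini hNΦ ?_
    rw [eq_top_iff, ← hK.sup_eq_top]
    refine sup_le (h1.trans (sup_le le_sup_right (le_sup_of_le_left ?_))) (le_sup_of_le_left hKE)
    exact inf_le_right.trans (centralizer_le_normalizer _)
  have hEP : E ≤ centralizer ((P : Subgroup G) : Set G) :=
    le_centralizer_of_normal_of_inf_eq_bot
      (inf_eq_bot_of_coprime_card (coprime_card_of_le hEK le_rfl hcop))
  have hEN : E ≤ centralizer (N : Set G) := hEP.trans (centralizer_le hNP)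
  have hPN : (P : Subgroup G) ≤ centralizer (N : Set G) := hN.le_centralizer_of_isNilpotent
  have hrep : ∀ g : G, ∃ k ∈ K, (g : G ⧸ centralizer (N : Set G)) = k := by
    intro g
    obtain ⟨⟨x, k⟩, rfl⟩ := hK.2 g
    refine ⟨k, k.2, ?_⟩
    simp only [QuotientGroup.mk_mul]
    rw [(QuotientGroup.eq_one_iff _).2 (hPN x.2), one_mul]
  refine isCyclic_of_isMinNormal hN (P.isPGroup'.to_le hNP) ?_ ?_
  · rw [_root_.commutator_def, commutator_le]
    intro g _ h _
    obtain ⟨k, hk, hgk⟩ := hrep g
    obtain ⟨l, hl, hhl⟩ := hrep h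
    have h2 : ⁅k, l⁆ ∈ centralizer (N : Set G) :=
      hEN (mem_sup_left (commutator_mem_commutator hk hl))
    rw [← QuotientGroup.eq_one_iff, ← QuotientGroup.mk'_apply, map_commutatorElement] at h2 ⊢
    simp only [QuotientGroup.mk'_apply] at h2 ⊢
    rwa [hgk, hhl]
  · intro g
    obtain ⟨k, hk, hgk⟩ := hrep g
    have h2 : k ^ (p - 1) ∈ centralizer (N : Set G) :=
      hEN (mem_sup_right (subset_closure ⟨k, hk, rfl⟩))
    rw [← QuotientGroup.eq_one_iff, QuotientGroup.mk_pow] at h2 ⊢
    rwa [hgk]

theorem sylow_normal_of_coatom_prime [Finite G] (h : ∀ M : Subgroup G, IsCoatom M → M.index.Prime)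
    (p : ℕ) [hp : Fact p.Prime] (hmax : ∀ q : ℕ, q.Prime → q ∣ Nat.card G → q ≤ p)
    (P : Sylow p G) : (P : Subgroup G).Normal := by
  rw [← normalizer_eq_top_iff]
  rcases eq_top_or_exists_le_coatom (normalizer ((P : Subgroup G) : Set G)) with h1 | ⟨M, hM, hle⟩
  · exact h1
  exfalso
  have hq := h M hM
  have hPM : (P : Subgroup G) ≤ M := le_normalizer.trans hle
  have h1 := card_sylow_modEq_one p G
  have h2 := card_sylow_modEq_one p M
  rw [P.card_eq_index_normalizer] at h1
  rw [(P.subtype hPM).card_eq_index_normalizer, ← (P.subtype hPM).coe_coe, Sylow.coe_subtype,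
    ← subgroupOf_normalizer_eq hPM] at h2
  rw [← P.coe_coe, ← relIndex_mul_index hle] at h1
  have h3 : M.index ≡ 1 [MOD p] := by
    have := (h2.mul_right M.index).symm.trans h1
    rwa [one_mul] at this
  have h4 : M.index ≤ p := hmax _ hq M.index_dvd_card
  have h5 := (Nat.modEq_iff_dvd' hq.one_le).1 h3.symm
  have h6 := Nat.le_of_dvd (by have := hq.two_le; omega) h5
  have := hq.two_le
  omega

/-- **Huppert's theorem**. -/
theorem of_coatom_prime (G : Type u) [Group G] [Finite G]
    (h : ∀ M : Subgroup G, IsCoatom M → M.index.Prime) : IsSupersolvable G := by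
  induction hn : Nat.card G using Nat.strong_induction_on generalizing G with
  | _ n ih =>
    rcases subsingleton_or_nontrivial G with hs | hs
    · exact of_subsingleton
    obtain ⟨p, hp, hpG, hmax⟩ := exists_max_prime_dvd (Finite.one_lt_card (α := G))
    have := Fact.mk hp
    obtain ⟨P⟩ : Nonempty (Sylow p G) := inferInstance
    have hPn := sylow_normal_of_coatom_prime h p hmax P
    obtain ⟨N, hN, hNP⟩ := exists_isMinNormal_le (P : Subgroup G) (P.ne_bot_of_dvd_card hpG)
    have := hN.normal
    have hq : IsSupersolvable (G ⧸ N) := by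
      refine ih _ (hn ▸ card_quotient_lt N hN.ne_bot) (G ⧸ N) (fun M hM => ?_) rfl
      have := h _ (isCoatom_comap_of_surjective (QuotientGroup.mk'_surjective N) hM)
      rwa [index_comap_of_surjective _ (QuotientGroup.mk'_surjective N)] at this
    have hc : IsCyclic N := by
      by_cases hΦ : N ≤ frattini G
      · exact isCyclic_of_le_frattini P hN hNP hΦ hq
      · rw [le_frattini_iff] at hΦ
        push Not at hΦ
        obtain ⟨M, hM, hNM⟩ := hΦ
        have := (hN.isElementaryAbelian_of_isPGroup (P.isPGroup'.to_le hNP)).1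
        have h1 := (hN.isComplement'_of_isCoatom hM hNM).index_eq_card
        have := Fact.mk (h1 ▸ h M hM)
        exact isCyclic_of_prime_card rfl
    exact of_cyclic_quotient N hq

/-- Supersolvability is inherited from a quotient by a subgroup of the Frattini subgroup. -/
theorem of_quotient_le_frattini [Finite G] (D : Subgroup G) [D.Normal] (hD : D ≤ frattini G)
    (h : IsSupersolvable (G ⧸ D)) : IsSupersolvable G := by
  refine of_coatom_prime G (fun M hM => ?_)
  have h' : (QuotientGroup.mk' D).ker ≤ M := by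
    rw [QuotientGroup.ker_mk']
    exact hD.trans (frattini_le_coatom hM)
  have := index_prime_of_isCoatom _ h _
    (isCoatom_map_of_ker_le (QuotientGroup.mk'_surjective D) hM h')
  rwa [index_map_eq _ (QuotientGroup.mk'_surjective D) h'] at this

end CL.SS
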