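import Cfsg.Agent.Solv.CoreFree

/-!
Hall `p`-complements (subgroups of `p`-power index and order prime to `p`): elementary facts that
need no Hall theorem; a Chinese remainder theorem for cosets.
-/

set_option autoImplicit false

namespace CL.SN

open Subgroup
open scoped Pointwise

variable {G : Type*} [Group G]

/-- `K` is a (Hall) `p`-complement: `p`-power index and order prime to `p`. -/
def IsPCompl (p : ℕ) (K : Subgroup G) : Prop := (∃ a : ℕ, K.index = p ^ a) ∧ ¬ p ∣ Nat.card K

theorem isPCompl_iff [Finite G] {p : ℕ} (hp : p.Prime) (K : Subgroup G) :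
    IsPCompl p K ↔ K.index = p ^ (Nat.card G).factorization p := by
  constructor
  · rintro ⟨⟨a, ha⟩, h⟩
    have h0 : Nat.card K ≠ 0 := Nat.card_pos.ne'
    rw [← K.card_mul_index, ha, Nat.factorization_mul h0 (pow_ne_zero _ hp.ne_zero),
      hp.factorization_pow]
    simp [Nat.factorization_eq_zero_of_not_dvd h]
  · intro h
    refine ⟨⟨_, h⟩, ?_⟩
    have h1 := Nat.not_dvd_ordCompl hp (Nat.card_pos (α := G)).ne'
    have h2 : ordCompl[p] (Nat.card G) = Nat.card K :=
      Nat.div_eq_of_eq_mul_left (pow_pos hp.pos _) (by rw [← h, K.card_mul_index])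
    rwa [h2] at h1

theorem isComplementSystem_iff [Finite G] (K : Nat.Primes → Subgroup G) :
    Cfsg.IsComplementSystem K ↔ ∀ p : Nat.Primes, IsPCompl p (K p) :=
  forall_congr' fun p => (isPCompl_iff p.2 _).symm

theorem exists_eq_pow_of_dvd {p a n : ℕ} (hp : p.Prime) (h : n ∣ p ^ a) : ∃ b, n = p ^ b := by
  obtain ⟨b, -, hb⟩ := (Nat.dvd_prime_pow hp).1 h
  exact ⟨b, hb⟩

theorem IsPCompl.map {H : Type*} [Group H] {p : ℕ} (hp : p.Prime) {K : Subgroup G}
    (hK : IsPCompl p K) {f : G →* H} (hf : Function.Surjective f) : IsPCompl p (K.map f) := by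
  obtain ⟨⟨a, ha⟩, h⟩ := hK
  exact ⟨exists_eq_pow_of_dvd hp (ha ▸ K.index_map_dvd hf), fun h' => h (h'.trans (K.card_map_dvd f))⟩

theorem IsPCompl.conj {p : ℕ} (hp : p.Prime) {K : Subgroup G} (hK : IsPCompl p K) (g : G) :
    IsPCompl p (MulAut.conj g • K) :=
  hK.map hp (f := MulDistribMulAction.toMonoidEnd _ _ (MulAut.conj g)) (MulAut.conj g).surjective

theorem conj_smul_eq_iff (K : Subgroup G) (g : G) :
    MulAut.conj g • K = K ↔ g ∈ normalizer (K : Set G) :=
  mem_normalizer_iff_map_conj_eq.symm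

theorem normalizer_conj_smul (K : Subgroup G) (g : G) :
    normalizer ((MulAut.conj g • K : Subgroup G) : Set G) =
      MulAut.conj g • normalizer (K : Set G) :=
  (map_equiv_normalizer_eq K (MulAut.conj g)).symm

theorem relIndex_dvd_index_of_le_normalizer {K D : Subgroup G} (h : D ≤ normalizer (K : Set G)) :
    K.relIndex D ∣ K.index := by
  rw [← relIndex_subgroupOf h]
  exact (relIndex_dvd_index_of_normal _ _).trans (relIndex_dvd_index_of_le le_normalizer)

theorem relIndex_mul_index_sup [Finite G] (K D : Subgroup G) [D.Normal] :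
    K.relIndex D * (K ⊔ D).index = K.index := by
  have h1 : K.relIndex D * D.index = D.relIndex K * K.index := by
    rw [← inf_relIndex_right K D, relIndex_mul_index inf_le_right, ← inf_relIndex_left K D,
      relIndex_mul_index inf_le_left]
  have h2 : D.relIndex K * (K ⊔ D).index = D.index := by
    rw [← relIndex_sup_right K D, relIndex_mul_index le_sup_right]
  have h3 : 0 < D.relIndex K := Nat.pos_of_ne_zero index_ne_zero_of_finite
  apply Nat.eq_of_mul_eq_mul_left h3
  rw [← h1, ← h2]; ring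

theorem relIndex_dvd_index_of_normal_right [Finite G] (K D : Subgroup G) [D.Normal] :
    K.relIndex D ∣ K.index :=
  Dvd.intro _ (relIndex_mul_index_sup K D)

theorem card_subgroupOf_dvd (K D : Subgroup G) : Nat.card (K.subgroupOf D) ∣ Nat.card K := by
  rw [← card_map_of_injective D.subtype_injective, subgroupOf_map_subtype]
  exact card_dvd_of_le inf_le_left

theorem IsPCompl.subgroupOf {p : ℕ} (hp : p.Prime) {K : Subgroup G} (hK : IsPCompl p K)
    (D : Subgroup G) (h : K.relIndex D ∣ K.index) : IsPCompl p (K.subgroupOf D) := by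
  obtain ⟨⟨a, ha⟩, h'⟩ := hK
  exact ⟨exists_eq_pow_of_dvd hp (ha ▸ h), fun h'' => h' (h''.trans (card_subgroupOf_dvd K D))⟩

theorem IsPCompl.subgroupOf_of_le {p : ℕ} (hp : p.Prime) {K : Subgroup G} (hK : IsPCompl p K)
    {D : Subgroup G} (h : K ≤ D) : IsPCompl p (K.subgroupOf D) :=
  hK.subgroupOf hp D (relIndex_dvd_index_of_le h)

theorem IsPCompl.subgroupOf_of_normal [Finite G] {p : ℕ} (hp : p.Prime) {K : Subgroup G}
    (hK : IsPCompl p K) (D : Subgroup G) [D.Normal] : IsPCompl p (K.subgroupOf D) :=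
  hK.subgroupOf hp D (relIndex_dvd_index_of_normal_right K D)

theorem IsPCompl.subgroupOf_of_le_normalizer {p : ℕ} (hp : p.Prime) {K : Subgroup G}
    (hK : IsPCompl p K) {D : Subgroup G} (h : D ≤ normalizer (K : Set G)) :
    IsPCompl p (K.subgroupOf D) :=
  hK.subgroupOf hp D (relIndex_dvd_index_of_le_normalizer h)

/-- a `p`-complement of a subgroup of `p`-power index is a `p`-complement -/
theorem IsPCompl.map_subtype {p : ℕ} {M : Subgroup G} {K : Subgroup M} (hK : IsPCompl p K)
    {b : ℕ} (hM : M.index = p ^ b) : IsPCompl p (K.map M.subtype) := by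
  obtain ⟨⟨a, ha⟩, h'⟩ := hK
  refine ⟨⟨a + b, by rw [index_map_subtype, ha, hM, pow_add]⟩, ?_⟩
  rwa [card_map_of_injective M.subtype_injective]

/-- a subgroup of order prime to `p` containing a `p`-complement equals it -/
theorem IsPCompl.eq_of_le [Finite G] {p : ℕ} (hp : p.Prime) {K L : Subgroup G} (hK : IsPCompl p K)
    (hKL : K ≤ L) (hL : ¬ p ∣ Nat.card L) : K = L := by
  refine le_antisymm hKL (relIndex_eq_one.1 ?_)
  obtain ⟨⟨a, ha⟩, -⟩ := hK
  refine Nat.eq_one_of_dvd_coprimes (a := p ^ a) (b := Nat.card L) ?_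
    (ha ▸ relIndex_dvd_index_of_le hKL) (relIndex_dvd_card _ _)
  exact Nat.Coprime.pow_left a ((Nat.Prime.coprime_iff_not_dvd hp).2 hL)

theorem IsPCompl.coprime_orderOf {p : ℕ} (hp : p.Prime) {K : Subgroup G}
    (hK : IsPCompl p K) {x : G} (hx : x ∈ K) : p.Coprime (orderOf x) :=
  (Nat.Prime.coprime_iff_not_dvd hp).2 fun h => hK.2 (h.trans (K.orderOf_dvd_natCard hx))

/-- a `p'`-element normalizing a subgroup of `p`-power index lies in it -/
theorem mem_of_mem_normalizer {p a : ℕ} {K : Subgroup G} (hK : K.index = p ^ a) {x : G}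
    (hx : x ∈ normalizer (K : Set G)) (hc : p.Coprime (orderOf x)) : x ∈ K := by
  have h1 : x ^ K.relIndex (normalizer (K : Set G)) ∈ K :=
    (K.subgroupOf (normalizer (K : Set G))).pow_index_mem ⟨x, hx⟩
  have h2 : (K.relIndex (normalizer (K : Set G))).Coprime (orderOf x) :=
    Nat.Coprime.coprime_dvd_left (hK ▸ relIndex_dvd_index_of_le le_normalizer) (hc.pow_left a)
  obtain ⟨m, hm⟩ := exists_pow_eq_self_of_coprime h2
  rw [← hm]
  exact K.pow_mem h1 m

/-- a normal subgroup of order prime to `p` lies in every subgroup of `p`-power index -/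
theorem le_of_normal [Finite G] {p a : ℕ} {K : Subgroup G} (hK : K.index = p ^ a) (N : Subgroup G)
    [N.Normal] (hN : p.Coprime (Nat.card N)) : N ≤ K :=
  relIndex_eq_one.1 (Nat.eq_one_of_dvd_coprimes (hN.pow_left a)
    (hK ▸ relIndex_dvd_index_of_normal_right K N) (relIndex_dvd_card _ _))

/-- In a finite nilpotent group a subgroup of `p`-power index contains all `p'`-elements. -/
theorem mem_of_nilpotent [Finite G] [Group.IsNilpotent G] {p : ℕ} (hp : p.Prime) (K : Subgroup G)
    {a : ℕ} (hK : K.index = p ^ a) {x : G} (hc : p.Coprime (orderOf x)) : x ∈ K := by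
  induction K using WellFoundedGT.induction generalizing a with
  | ind K ih =>
    by_cases ht : K = ⊤
    · rw [ht]; exact mem_top x
    have hlt : K < normalizer (K : Set G) :=
      Group.normalizerCondition_of_isNilpotent K (lt_top_iff_ne_top.2 ht)
    obtain ⟨b, hb⟩ := exists_eq_pow_of_dvd hp (hK ▸ index_dvd_of_le hlt.le)
    exact mem_of_mem_normalizer hK (ih _ hlt hb) hc

theorem IsPCompl.normal_of_nilpotent [Finite G] [Group.IsNilpotent G] {p : ℕ} (hp : p.Prime)
    {K : Subgroup G} (hK : IsPCompl p K) : K.Normal := ⟨fun x hx g => by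
  obtain ⟨a, ha⟩ := hK.1
  refine mem_of_nilpotent hp K ha ?_
  have : orderOf (g * x * g⁻¹) = orderOf x := MulEquiv.orderOf_eq (MulAut.conj g) x
  rw [this]
  exact hK.coprime_orderOf hp hx⟩

theorem index_inf_of_coprime [Finite G] (H K : Subgroup G) (h : H.index.Coprime K.index) :
    (H ⊓ K).index = H.index * K.index :=
  le_antisymm index_inf_le (Nat.le_of_dvd (Nat.pos_of_ne_zero index_ne_zero_of_finite)
    (h.mul_dvd_of_dvd_of_dvd (index_dvd_of_le inf_le_left) (index_dvd_of_le inf_le_right)))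

theorem exists_mul_of_coprime [Finite G] (H K : Subgroup G) (h : H.index.Coprime K.index) (g : G) :
    ∃ x ∈ H, x⁻¹ * g ∈ K := by
  have h1 : K.relIndex H = K.index := by
    have h2 := relIndex_mul_index (inf_le_left : H ⊓ K ≤ H)
    rw [index_inf_of_coprime H K h, inf_relIndex_left, mul_comm] at h2
    exact Nat.eq_of_mul_eq_mul_left (Nat.pos_of_ne_zero index_ne_zero_of_finite) h2
  let f : H ⧸ K.subgroupOf H → G ⧸ K := Quotient.map' Subtype.val fun a b hab => by
    rw [QuotientGroup.leftRel_apply] at hab ⊢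
    exact hab
  have hinj : Function.Injective f := by
    intro a b hab
    obtain ⟨a, rfl⟩ := QuotientGroup.mk_surjective a
    obtain ⟨b, rfl⟩ := QuotientGroup.mk_surjective b
    have h3 : ((a : G) : G ⧸ K) = (b : G) := hab
    have h4 : (a : G)⁻¹ * b ∈ K := QuotientGroup.eq.1 h3
    exact QuotientGroup.eq.2 h4
  obtain ⟨y, hy⟩ := ((Nat.bijective_iff_injective_and_card f).2 ⟨hinj, h1⟩).2 (g : G ⧸ K)
  obtain ⟨x, rfl⟩ := QuotientGroup.mk_surjective y
  have h3 : ((x : G) : G ⧸ K) = g := hy
  exact ⟨x, x.2, QuotientGroup.eq.1 h3⟩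

/-- Chinese remainder theorem for left cosets of subgroups of pairwise coprime indices. -/
theorem exists_mem_cosets [Finite G] {ι : Type*} (s : Finset ι) (H : ι → Subgroup G)
    (h : ∀ i ∈ s, ∀ j ∈ s, i ≠ j → (H i).index.Coprime (H j).index) (x : ι → G) :
    ∃ g : G, ∀ i ∈ s, (x i)⁻¹ * g ∈ H i := by
  classical
  suffices key : ∃ D : Subgroup G, (∀ i ∈ s, D ≤ H i) ∧ D.index = ∏ i ∈ s, (H i).index ∧
      ∃ g : G, ∀ i ∈ s, (x i)⁻¹ * g ∈ H i by
    obtain ⟨-, -, -, h⟩ := key
    exact h
  induction s using Finset.induction_on with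
  | empty => exact ⟨⊤, by simp, by simp, 1, by simp⟩
  | insert j s hj ih =>
    obtain ⟨D, hD, hi, g, hg⟩ := ih fun i hi k hk =>
      h i (Finset.mem_insert_of_mem hi) k (Finset.mem_insert_of_mem hk)
    have hc : D.index.Coprime (H j).index := by
      rw [hi]
      exact Nat.Coprime.prod_left fun i hi => h i (Finset.mem_insert_of_mem hi) j
        (Finset.mem_insert_self _ _) (by rintro rfl; exact hj hi)
    obtain ⟨d, hd, hd'⟩ := exists_mul_of_coprime D (H j) hc (g⁻¹ * x j)
    refine ⟨D ⊓ H j, ?_, ?_, g * d, ?_⟩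
    · intro i hi
      rcases Finset.mem_insert.1 hi with rfl | hi
      · exact inf_le_right
      · exact inf_le_left.trans (hD i hi)
    · rw [index_inf_of_coprime D (H j) hc, Finset.prod_insert hj, hi, mul_comm]
    · intro i hi
      rcases Finset.mem_insert.1 hi with rfl | hi
      · have := (H i).inv_mem hd'
        simpa [mul_assoc] using this
      · rw [← mul_assoc]
        exact (H i).mul_mem (hg i hi) (hD i hi hd)

/-- the same for a family indexed by the primes, `H p` of `p`-power index -/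
theorem exists_mem_cosets_primes [Finite G] (H : Nat.Primes → Subgroup G)
    (h : ∀ p : Nat.Primes, ∃ a : ℕ, (H p).index = (p : ℕ) ^ a) (x : Nat.Primes → G) :
    ∃ g : G, ∀ p, (x p)⁻¹ * g ∈ H p := by
  obtain ⟨g, hg⟩ := exists_mem_cosets (ι := Nat.Primes)
    ((Nat.card G).primeFactors.subtype Nat.Prime) H (fun i _ j _ hij => by
      obtain ⟨a, ha⟩ := h i
      obtain ⟨b, hb⟩ := h j
      rw [ha, hb]
      exact Nat.coprime_pow_primes a b i.2 j.2 fun h => hij (Subtype.ext h)) x
  refine ⟨g, fun p => ?_⟩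
  by_cases hp : (p : ℕ) ∣ Nat.card G
  · exact hg p (Finset.mem_subtype.2 (Nat.mem_primeFactors.2 ⟨p.2, hp, Nat.card_pos.ne'⟩))
  · obtain ⟨a, ha⟩ := h p
    have : H p = ⊤ := by
      rw [← index_eq_one]
      exact Nat.eq_one_of_dvd_coprimes
        (Nat.Coprime.pow_left a ((Nat.Prime.coprime_iff_not_dvd p.2).2 hp)) ha.dvd (index_dvd_card _)
    rw [this]
    exact mem_top _

end CL.SN
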